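-- Shared lemmas (helper52) on finite p-groups: normal subgroups meet the centre, chief-type steps,
-- maximal abelian normal subgroups are self-centralizing.
import Mathlib

set_option autoImplicit false

namespace Cfsg.Agent.Helper52

open scoped Pointwise

/-- A subgroup contained in the centre is normal. -/
theorem normal_of_le_center {G : Type*} [Group G] {H : Subgroup G} (h : H ≤ Subgroup.center G) :
    H.Normal := by
  refine ⟨fun n hn g => ?_⟩
  have := Subgroup.mem_center_iff.mp (h hn) g
  have e : g * n * g⁻¹ = n := by rw [this]; group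
  rw [e]; exact hn

/-- `B ≤ A` gives `|A : B| * |B| = |A|`. -/
theorem relIndex_mul_card_of_le {G : Type*} [Group G] {B A : Subgroup G} (h : B ≤ A) :
    B.relIndex A * Nat.card B = Nat.card A := by
  have h1 := Subgroup.card_mul_index (B.subgroupOf A)
  have h2 : Nat.card (B.subgroupOf A) = Nat.card B :=
    Nat.card_congr (Subgroup.subgroupOfEquivOfLe h).toEquiv
  rw [h2] at h1
  rw [Subgroup.relIndex, mul_comm]; exact h1

/-- In a finite `p`-group a nontrivial normal subgroup contains a central element of order `p`. -/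
theorem exists_central_orderOf_eq_prime {G : Type*} [Group G] [Finite G] {p : ℕ} [Fact p.Prime]
    (hG : IsPGroup p G) (N : Subgroup G) [hN : N.Normal] (hN1 : N ≠ ⊥) :
    ∃ z : G, z ∈ N ∧ z ∈ Subgroup.center G ∧ orderOf z = p := by
  classical
  -- the subgroup N ⊓ center G is nontrivial
  have hne : N ⊓ Subgroup.center G ≠ ⊥ := by
    have hGc : IsPGroup p (ConjAct G) := hG
    have hNp : IsPGroup p N := hG.to_subgroup N
    have hNnt : Nontrivial N := (Subgroup.nontrivial_iff_ne_bot N).mpr hN1
    obtain ⟨k, hk0, hk⟩ := (hNp.nontrivial_iff_card).mp hNnt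
    have hdvd : p ∣ Nat.card N := by rw [hk]; exact dvd_pow_self p (by omega)
    have h1 : (1 : N) ∈ MulAction.fixedPoints (ConjAct G) N := by
      intro g; exact smul_one g
    obtain ⟨b, hb, hb1⟩ := hGc.exists_fixed_point_of_prime_dvd_card_of_fixed_point N hdvd h1
    intro hbot
    have hbmem : (b : G) ∈ N ⊓ Subgroup.center G := by
      refine Subgroup.mem_inf.mpr ⟨b.2, ?_⟩
      rw [Subgroup.mem_center_iff]
      intro g
      have := hb (ConjAct.toConjAct g)
      have h2 : (g * (b : G) * g⁻¹ : G) = (b : G) := by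
        have := congrArg Subtype.val this
        rw [ConjAct.Subgroup.val_conj_smul, ConjAct.smul_def] at this
        simpa using this
      calc g * (b : G) = g * (b : G) * g⁻¹ * g := by group
        _ = (b : G) * g := by rw [h2]
    rw [hbot, Subgroup.mem_bot] at hbmem
    exact hb1 (Subtype.ext hbmem.symm)
  have hpg : IsPGroup p (N ⊓ Subgroup.center G : Subgroup G) := hG.to_subgroup _
  have hnt : Nontrivial (N ⊓ Subgroup.center G : Subgroup G) := (Subgroup.nontrivial_iff_ne_bot _).mpr hne
  obtain ⟨k, hk0, hk⟩ := (hpg.nontrivial_iff_card).mp hnt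
  have hdvd : p ∣ Nat.card (N ⊓ Subgroup.center G : Subgroup G) := by
    rw [hk]; exact dvd_pow_self p (by omega)
  obtain ⟨z, hz⟩ := exists_prime_orderOf_dvd_card' p hdvd
  refine ⟨(z : G), z.2.1, z.2.2, ?_⟩
  rw [← hz]; exact (Subgroup.orderOf_coe z)

/-- In a finite `p`-group, a nontrivial normal subgroup `A` has a `G`-normal subgroup `B` of index `p`
with `[G, A] ≤ B`. -/
theorem exists_normal_relIndex_prime {G : Type*} [Group G] [Finite G] {p : ℕ} [Fact p.Prime]
    (hG : IsPGroup p G) (A : Subgroup G) [hA : A.Normal] (hA1 : A ≠ ⊥) :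
    ∃ B : Subgroup G, B.Normal ∧ B ≤ A ∧ B.relIndex A = p ∧
      ∀ g : G, ∀ x ∈ A, g * x * g⁻¹ * x⁻¹ ∈ B := by
  classical
  -- a maximal normal subgroup properly contained in A
  let S : Set (Subgroup G) := {B | B.Normal ∧ B < A}
  have hSne : S.Nonempty := ⟨⊥, Subgroup.normal_bot, bot_lt_iff_ne_bot.mpr hA1⟩
  obtain ⟨B, ⟨hBn, hBA⟩, hBmax⟩ := wellFounded_gt.has_min S hSne
  haveI := hBn
  let π := QuotientGroup.mk' B
  have hπ : Function.Surjective π := QuotientGroup.mk'_surjective B
  have hAbar_n : (A.map π).Normal := hA.map π hπ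
  have hAbar_ne : A.map π ≠ ⊥ := by
    intro h
    rw [Subgroup.map_eq_bot_iff, QuotientGroup.ker_mk'] at h
    exact absurd hBA (not_lt_of_ge h)
  have hGbar : IsPGroup p (G ⧸ B) := hG.to_quotient B
  obtain ⟨z, hzA, hzc, hzo⟩ := exists_central_orderOf_eq_prime hGbar (A.map π) hAbar_ne
  have hZn : (Subgroup.zpowers z).Normal :=
    normal_of_le_center (by rw [Subgroup.zpowers_le]; exact hzc)
  set B' : Subgroup G := (Subgroup.zpowers z).comap π with hB'
  have hB'n : B'.Normal := hZn.comap π
  have hBB' : B ≤ B' := by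
    intro b hb
    rw [hB', Subgroup.mem_comap]
    have : π b = 1 := (QuotientGroup.eq_one_iff b).mpr hb
    rw [this]; exact one_mem _
  have hB'A : B' ≤ A := by
    intro x hx
    rw [hB', Subgroup.mem_comap] at hx
    have hx' : π x ∈ A.map π := (Subgroup.zpowers_le.mpr hzA) hx
    obtain ⟨a, ha, hax⟩ := Subgroup.mem_map.mp hx'
    have : a⁻¹ * x ∈ B := by
      rw [← QuotientGroup.eq_one_iff (N := B)]
      change π (a⁻¹ * x) = 1
      rw [map_mul, map_inv, hax]; group
    have h2 : x = a * (a⁻¹ * x) := by group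
    rw [h2]; exact A.mul_mem ha (hBA.le this)
  have hz1 : z ≠ 1 := by
    intro h; rw [h, orderOf_one] at hzo
    exact (Fact.out : p.Prime).one_lt.ne hzo
  have hBneB' : B ≠ B' := by
    intro h
    obtain ⟨x, hx⟩ := hπ z
    have hxB' : x ∈ B' := by
      rw [hB', Subgroup.mem_comap, hx]; exact Subgroup.mem_zpowers z
    rw [← h] at hxB'
    have : π x = 1 := (QuotientGroup.eq_one_iff x).mpr hxB'
    rw [hx] at this; exact hz1 this
  have hB'eq : B' = A := by
    by_contra hne
    have hlt : B' < A := lt_of_le_of_ne hB'A hne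
    exact hBmax B' ⟨hB'n, hlt⟩ (lt_of_le_of_ne hBB' hBneB')
  refine ⟨B, hBn, hBA.le, ?_, ?_⟩
  · have h1 : B = (⊥ : Subgroup (G ⧸ B)).comap π := by
      rw [MonoidHom.comap_bot]; exact (QuotientGroup.ker_mk' B).symm
    have h2 : B.relIndex A = (⊥ : Subgroup (G ⧸ B)).relIndex (A.map π) := by
      conv_lhs => rw [h1]
      exact Subgroup.relIndex_comap ⊥ π A
    rw [h2, Subgroup.relIndex_bot_left, ← hB'eq, hB', Subgroup.map_comap_eq_self_of_surjective hπ,
      Nat.card_zpowers, hzo]
  · intro g x hx
    rw [← hB'eq, hB', Subgroup.mem_comap] at hx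
    have hxc : π x ∈ Subgroup.center (G ⧸ B) := (Subgroup.zpowers_le.mpr hzc) hx
    rw [← QuotientGroup.eq_one_iff (N := B)]
    change π (g * x * g⁻¹ * x⁻¹) = 1
    rw [map_mul, map_mul, map_mul, map_inv, map_inv]
    have := Subgroup.mem_center_iff.mp hxc (π g)
    rw [this]; group


/-- Elements of a commutative subgroup commute. -/
theorem comm_of_mem {G : Type*} [Group G] {A : Subgroup G} (hA : IsMulCommutative A) {a b : G}
    (ha : a ∈ A) (hb : b ∈ A) : a * b = b * a :=
  congrArg Subtype.val (mul_comm' (⟨a, ha⟩ : A) ⟨b, hb⟩)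

/-- A subgroup all of whose elements commute is commutative. -/
theorem isMulCommutative_of_comm {G : Type*} [Group G] {A : Subgroup G}
    (h : ∀ a ∈ A, ∀ b ∈ A, a * b = b * a) : IsMulCommutative A :=
  ⟨⟨fun a b => Subtype.ext (h a a.2 b b.2)⟩⟩

/-- In a finite `p`-group, a maximal normal abelian subgroup contains its centralizer. -/
theorem centralizer_le_of_maximal_normal_abelian {G : Type*} [Group G] [Finite G] {p : ℕ} [Fact p.Prime]
    (hG : IsPGroup p G) (A : Subgroup G) [hAn : A.Normal] (hA : IsMulCommutative A)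
    (hmax : ∀ B : Subgroup G, B.Normal → IsMulCommutative B → A ≤ B → B = A) :
    Subgroup.centralizer (A : Set G) ≤ A := by
  classical
  by_contra hcon
  set C : Subgroup G := Subgroup.centralizer (A : Set G) with hC
  have hCn : C.Normal := Subgroup.normal_centralizer
  let π := QuotientGroup.mk' A
  have hπ : Function.Surjective π := QuotientGroup.mk'_surjective A
  have hCbar_n : (C.map π).Normal := hCn.map π hπ
  have hCbar_ne : C.map π ≠ ⊥ := by
    intro h
    rw [Subgroup.map_eq_bot_iff, QuotientGroup.ker_mk'] at h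
    exact hcon h
  have hGbar : IsPGroup p (G ⧸ A) := hG.to_quotient A
  obtain ⟨z, hzC, hzc, hzo⟩ := exists_central_orderOf_eq_prime hGbar (C.map π) hCbar_ne
  obtain ⟨c, hcC, hcz⟩ := Subgroup.mem_map.mp hzC
  have hZn : (Subgroup.zpowers z).Normal :=
    normal_of_le_center (by rw [Subgroup.zpowers_le]; exact hzc)
  set B' : Subgroup G := (Subgroup.zpowers z).comap π with hB'
  have hB'n : B'.Normal := hZn.comap π
  have hAB' : A ≤ B' := by
    intro b hb
    rw [hB', Subgroup.mem_comap]
    have : π b = 1 := (QuotientGroup.eq_one_iff b).mpr hb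
    rw [this]; exact one_mem _
  -- every element of B' is a * c^k
  have hdecomp : ∀ x ∈ B', ∃ a ∈ A, ∃ k : ℤ, x = a * c ^ k := by
    intro x hx
    rw [hB', Subgroup.mem_comap] at hx
    obtain ⟨k, hk⟩ := Subgroup.mem_zpowers_iff.mp hx
    refine ⟨x * (c ^ k)⁻¹, ?_, k, by group⟩
    rw [← QuotientGroup.eq_one_iff (N := A)]
    change π (x * (c ^ k)⁻¹) = 1
    rw [map_mul, map_inv, map_zpow, hcz, hk]; group
  have hccomm : ∀ a ∈ A, a * c = c * a := fun a ha => (Subgroup.mem_centralizer_iff.mp hcC) a ha
  have hB'comm : IsMulCommutative B' := by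
    apply isMulCommutative_of_comm
    intro x hx y hy
    obtain ⟨a, ha, k, rfl⟩ := hdecomp x hx
    obtain ⟨b, hb, l, rfl⟩ := hdecomp y hy
    have hab : a * b = b * a := comm_of_mem hA ha hb
    have hak : ∀ (a : G), a ∈ A → ∀ k : ℤ, a * c ^ k = c ^ k * a := by
      intro a ha k
      exact ((Commute.zpow_right (hccomm a ha) k)).eq
    calc a * c ^ k * (b * c ^ l) = a * (c ^ k * b) * c ^ l := by group
      _ = a * (b * c ^ k) * c ^ l := by rw [hak b hb k]
      _ = (a * b) * (c ^ k * c ^ l) := by group
      _ = (b * a) * (c ^ l * c ^ k) := by rw [hab, ← zpow_add, ← zpow_add, add_comm]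
      _ = b * (a * c ^ l) * c ^ k := by group
      _ = b * (c ^ l * a) * c ^ k := by rw [hak a ha l]
      _ = b * c ^ l * (a * c ^ k) := by group
  have hBA := hmax B' hB'n hB'comm hAB'
  have hcB' : c ∈ B' := by
    rw [hB', Subgroup.mem_comap, hcz]; exact Subgroup.mem_zpowers z
  rw [hBA] at hcB'
  have : π c = 1 := (QuotientGroup.eq_one_iff c).mpr hcB'
  rw [hcz] at this
  rw [this, orderOf_one] at hzo
  exact (Fact.out : p.Prime).one_lt.ne hzo

/-- In a finite `p`-group, a normal abelian subgroup `A` of order `p ^ a` has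
`|G : C_G(A)| ≤ p ^ (a (a - 1) / 2)`. -/
theorem index_centralizer_le {p : ℕ} [Fact p.Prime] (a : ℕ) :
    ∀ {G : Type*} [Group G] [Finite G], IsPGroup p G → ∀ (A : Subgroup G), A.Normal →
      IsMulCommutative A → Nat.card A = p ^ a →
      (Subgroup.centralizer (A : Set G)).index ≤ p ^ (a * (a - 1) / 2) := by
  induction a with
  | zero =>
    intro G _ _ hG A hAn hA hcard
    have : A = ⊥ := Subgroup.card_eq_one.mp (by simpa using hcard)
    subst this
    have h : Subgroup.centralizer ((⊥ : Subgroup G) : Set G) = ⊤ := by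
      ext g; simp [Subgroup.mem_centralizer_iff]
    rw [h]; simp
  | succ a ih =>
    intro G _ _ hG A hAn hA hcard
    classical
    have hp : p.Prime := Fact.out
    have hA1 : A ≠ ⊥ := by
      intro h
      rw [h, Subgroup.card_bot] at hcard
      have : 1 < p ^ (a + 1) := Nat.one_lt_pow (by omega) hp.one_lt
      omega
    obtain ⟨B, hBn, hBA, hidx, hcomm⟩ := exists_normal_relIndex_prime hG A hA1
    have hBcard : Nat.card B = p ^ a := by
      have := relIndex_mul_card_of_le hBA
      rw [hidx, hcard, pow_succ'] at this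
      exact Nat.eq_of_mul_eq_mul_left hp.pos this
    have hBcomm : IsMulCommutative B :=
      isMulCommutative_of_comm (fun x hx y hy => comm_of_mem hA (hBA hx) (hBA hy))
    have ihB := ih hG B hBn hBcomm hBcard
    -- pick x ∈ A \ B
    have hBneA : ¬ A ≤ B := by
      intro h
      have := Subgroup.relIndex_eq_one.mpr h
      rw [hidx] at this; exact hp.one_lt.ne' this
    obtain ⟨x, hxA, hxB⟩ := SetLike.not_le_iff_exists.mp hBneA
    set E : Subgroup G := Subgroup.centralizer (B : Set G) with hE
    -- the homomorphism E → B, e ↦ e x e⁻¹ x⁻¹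
    have hmemB : ∀ e : G, e * x * e⁻¹ * x⁻¹ ∈ B := fun e => hcomm e x hxA
    let ψ : E →* B :=
      { toFun := fun e => ⟨(e : G) * x * (e : G)⁻¹ * x⁻¹, hmemB e⟩
        map_one' := by ext; simp
        map_mul' := by
          intro e₁ e₂
          ext
          have h1 : (e₁ : G) * ((e₂ : G) * x * (e₂ : G)⁻¹ * x⁻¹) = ((e₂ : G) * x * (e₂ : G)⁻¹ * x⁻¹) * (e₁ : G) :=
            ((Subgroup.mem_centralizer_iff.mp e₁.2) _ (hmemB e₂)).symm
          have h2 := comm_of_mem hBcomm (hmemB (e₁ : G)) (hmemB (e₂ : G))
          simp only [Subgroup.coe_mul]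
          calc (e₁ : G) * (e₂ : G) * x * ((e₁ : G) * (e₂ : G))⁻¹ * x⁻¹
              = ((e₁ : G) * ((e₂ : G) * x * (e₂ : G)⁻¹ * x⁻¹)) * x * (e₁ : G)⁻¹ * x⁻¹ := by group
            _ = (((e₂ : G) * x * (e₂ : G)⁻¹ * x⁻¹) * (e₁ : G)) * x * (e₁ : G)⁻¹ * x⁻¹ := by rw [h1]
            _ = ((e₂ : G) * x * (e₂ : G)⁻¹ * x⁻¹) * ((e₁ : G) * x * (e₁ : G)⁻¹ * x⁻¹) := by group
            _ = ((e₁ : G) * x * (e₁ : G)⁻¹ * x⁻¹) * ((e₂ : G) * x * (e₂ : G)⁻¹ * x⁻¹) := h2.symm }
    have hker : ψ.ker = (Subgroup.centralizer ({x} : Set G)).subgroupOf E := by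
      ext e
      rw [MonoidHom.mem_ker, Subgroup.mem_subgroupOf, Subgroup.mem_centralizer_iff]
      constructor
      · intro h y hy
        rw [Set.mem_singleton_iff] at hy; subst hy
        have := congrArg Subtype.val h
        simp only [ψ, MonoidHom.coe_mk, OneHom.coe_mk, Subgroup.coe_one] at this
        calc y * (e : G) = ((e : G) * y * (e : G)⁻¹ * y⁻¹)⁻¹ * ((e : G) * y) := by group
          _ = (e : G) * y := by rw [this]; group
      · intro h
        have := h x (Set.mem_singleton x)
        apply Subtype.ext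
        simp only [ψ, MonoidHom.coe_mk, OneHom.coe_mk, Subgroup.coe_one]
        calc (e : G) * x * (e : G)⁻¹ * x⁻¹ = (x * (e : G)) * (e : G)⁻¹ * x⁻¹ := by rw [this]
          _ = 1 := by group
    have hrel : (Subgroup.centralizer ({x} : Set G)).relIndex E ≤ p ^ a := by
      rw [Subgroup.relIndex, ← hker, Subgroup.index_ker, ← hBcard]
      exact Nat.card_le_card_of_injective (fun y => (y : B)) Subtype.val_injective
    -- C(A) = C(B) ⊓ C(x)
    have hAgen : A = B ⊔ Subgroup.zpowers x := by
      apply le_antisymm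
      · by_contra hcon
        -- B ⊔ ⟨x⟩ is strictly between B and A, impossible since the index is prime
        set M : Subgroup G := B ⊔ Subgroup.zpowers x
        have hMA : M ≤ A := sup_le hBA (Subgroup.zpowers_le.mpr hxA)
        have hBM : B ≤ M := le_sup_left
        have h1 := Subgroup.relIndex_mul_relIndex B M A hBM hMA
        rw [hidx] at h1
        have h2 : B.relIndex M = 1 ∨ B.relIndex M = p := (Nat.dvd_prime hp).mp ⟨_, h1.symm⟩
        rcases h2 with h2 | h2
        · have := Subgroup.relIndex_eq_one.mp h2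
          exact hxB (this (le_sup_right (a := B) (Subgroup.mem_zpowers x)))
        · rw [h2] at h1
          have h3 : M.relIndex A = 1 := by
            have : p * M.relIndex A = p * 1 := by rw [h1, mul_one]
            exact Nat.eq_of_mul_eq_mul_left hp.pos this
          exact hcon (Subgroup.relIndex_eq_one.mp h3)
      · exact sup_le hBA (Subgroup.zpowers_le.mpr hxA)
    have hCA : Subgroup.centralizer (A : Set G) = E ⊓ Subgroup.centralizer ({x} : Set G) := by
      apply le_antisymm
      · intro g hg
        refine ⟨?_, ?_⟩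
        · exact Subgroup.centralizer_le (by exact_mod_cast hBA) hg
        · exact Subgroup.centralizer_le (by simpa using hxA) hg
      · intro g hg
        obtain ⟨hg1, hg2⟩ := hg
        rw [Subgroup.mem_centralizer_iff]
        -- A ≤ centralizer {g}
        have hsub : A ≤ Subgroup.centralizer ({g} : Set G) := by
          rw [hAgen]
          apply sup_le
          · intro b hb
            rw [Subgroup.mem_centralizer_iff]
            intro y hy
            rw [Set.mem_singleton_iff] at hy; subst hy
            exact ((Subgroup.mem_centralizer_iff.mp hg1) b hb).symm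
          · rw [Subgroup.zpowers_le, Subgroup.mem_centralizer_iff]
            intro y hy
            rw [Set.mem_singleton_iff] at hy; subst hy
            exact ((Subgroup.mem_centralizer_iff.mp hg2) x (Set.mem_singleton x)).symm
        intro y hy
        exact ((Subgroup.mem_centralizer_iff.mp (hsub hy)) g (Set.mem_singleton g)).symm
    rw [hCA, ← Subgroup.relIndex_mul_index (inf_le_left : E ⊓ Subgroup.centralizer ({x} : Set G) ≤ E),
      Subgroup.inf_relIndex_left]
    calc (Subgroup.centralizer ({x} : Set G)).relIndex E * E.index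
        ≤ p ^ a * p ^ (a * (a - 1) / 2) := Nat.mul_le_mul hrel ihB
      _ = p ^ ((a + 1) * (a + 1 - 1) / 2) := by
        rw [← pow_add]
        congr 1
        have h2 : ∀ n : ℕ, (n + 1) * n / 2 = n + n * (n - 1) / 2 := by
          intro n
          induction n with
          | zero => simp
          | succ m _ =>
            have : (m + 1 + 1) * (m + 1) = 2 * (m + 1) + (m + 1) * m := by ring
            rw [this, Nat.mul_add_div (by norm_num)]
            simp
        simpa using (h2 a).symm

end Cfsg.Agent.Helper52
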