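-- Shared lemmas (helper52): power formula in class 2, p-th power map is a hom for odd p, number theory for
-- automorphisms of order p of cyclic p-groups.
import Mathlib

set_option autoImplicit false

namespace Cfsg.Agent.Helper52

/-- Class two power formula: if `c = y x y⁻¹ x⁻¹` commutes with `x` and `y`, then
`(x y)^n = x^n y^n c^(n(n-1)/2)`. -/
theorem mul_pow_of_commutator_central {G : Type*} [Group G] (x y : G)
    (hcx : Commute (y * x * y⁻¹ * x⁻¹) x) (hcy : Commute (y * x * y⁻¹ * x⁻¹) y) (n : ℕ) :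
    (x * y) ^ n = x ^ n * y ^ n * (y * x * y⁻¹ * x⁻¹) ^ (n * (n - 1) / 2) := by
  set c := y * x * y⁻¹ * x⁻¹ with hc
  have hyx : y * x = c * x * y := by rw [hc]; group
  -- y^k x = c^k x y^k
  have hykx : ∀ k : ℕ, y ^ k * x = c ^ k * x * y ^ k := by
    intro k
    induction k with
    | zero => simp
    | succ k ih =>
      calc y ^ (k + 1) * x = y ^ k * (y * x) := by rw [pow_succ]; group
        _ = y ^ k * (c * x * y) := by rw [hyx]
        _ = (y ^ k * c) * x * y := by group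
        _ = (c * y ^ k) * x * y := by rw [(hcy.pow_right k).eq]
        _ = c * (y ^ k * x) * y := by group
        _ = c * (c ^ k * x * y ^ k) * y := by rw [ih]
        _ = c ^ (k + 1) * x * y ^ (k + 1) := by rw [pow_succ' c, pow_succ y]; group
  induction n with
  | zero => simp
  | succ n ih =>
    have hT : (n + 1) * (n + 1 - 1) / 2 = n * (n - 1) / 2 + n := by
      cases n with
      | zero => simp
      | succ m =>
        have : (m + 1 + 1) * (m + 1 + 1 - 1) = (m + 1) * (m + 1 - 1) + 2 * (m + 1) := by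
          simp only [Nat.add_sub_cancel]; ring
        rw [this, Nat.add_mul_div_left _ _ (by norm_num : 0 < 2)]
    have hcxn : Commute (c ^ (n * (n - 1) / 2)) x := hcx.pow_left _
    have hcyn : Commute (c ^ (n * (n - 1) / 2)) y := hcy.pow_left _
    have hcn_x : Commute (c ^ n) x := hcx.pow_left _
    calc (x * y) ^ (n + 1) = (x * y) ^ n * (x * y) := pow_succ _ _
      _ = x ^ n * y ^ n * c ^ (n * (n - 1) / 2) * (x * y) := by rw [ih]
      _ = x ^ n * y ^ n * (c ^ (n * (n - 1) / 2) * x) * y := by group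
      _ = x ^ n * y ^ n * (x * c ^ (n * (n - 1) / 2)) * y := by rw [hcxn.eq]
      _ = x ^ n * (y ^ n * x) * (c ^ (n * (n - 1) / 2) * y) := by group
      _ = x ^ n * (c ^ n * x * y ^ n) * (y * c ^ (n * (n - 1) / 2)) := by rw [hykx n, hcyn.eq]
      _ = x ^ n * (c ^ n * x) * y ^ n * y * c ^ (n * (n - 1) / 2) := by group
      _ = x ^ n * (x * c ^ n) * y ^ n * y * c ^ (n * (n - 1) / 2) := by rw [hcn_x.eq]
      _ = x ^ (n + 1) * (c ^ n * y ^ (n + 1)) * c ^ (n * (n - 1) / 2) := by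
        rw [pow_succ x, pow_succ y]; group
      _ = x ^ (n + 1) * (y ^ (n + 1) * c ^ n) * c ^ (n * (n - 1) / 2) := by
        rw [((hcy.pow_left n).pow_right (n + 1)).eq]
      _ = x ^ (n + 1) * y ^ (n + 1) * c ^ ((n + 1) * (n + 1 - 1) / 2) := by
        rw [hT, pow_add]; group

/-- For an odd prime `p`: if the commutator `y x y⁻¹ x⁻¹` is central for `x`, `y` and has `p`-th power `1`,
then `(x y)^p = x^p y^p`. -/
theorem mul_pow_prime_of_commutator_central {G : Type*} [Group G] {p : ℕ} (hp : p.Prime) (hp2 : p ≠ 2)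
    (x y : G) (hcx : Commute (y * x * y⁻¹ * x⁻¹) x) (hcy : Commute (y * x * y⁻¹ * x⁻¹) y)
    (hcp : (y * x * y⁻¹ * x⁻¹) ^ p = 1) : (x * y) ^ p = x ^ p * y ^ p := by
  rw [mul_pow_of_commutator_central x y hcx hcy p]
  have hodd : Odd p := hp.odd_of_ne_two hp2
  obtain ⟨k, hk⟩ := hodd
  have : p * (p - 1) / 2 = p * k := by
    have h1 : p - 1 = 2 * k := by omega
    rw [h1, ← mul_assoc, mul_comm p 2, mul_assoc, Nat.mul_div_cancel_left _ (by norm_num : 0 < 2)]
  rw [this, pow_mul, hcp, one_pow, mul_one]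

/-- Commutators of generators central in `Z` ≤ centre implies all commutators lie in `Z`. -/
theorem commutator_mem_of_generators {G : Type*} [Group G] (Z : Subgroup G) (hZ : Z ≤ Subgroup.center G)
    (S : Set G) (hS : Subgroup.closure S = ⊤)
    (h : ∀ s ∈ S, ∀ t ∈ S, s * t * s⁻¹ * t⁻¹ ∈ Z) : ∀ g k : G, g * k * g⁻¹ * k⁻¹ ∈ Z := by
  have hcen : ∀ z ∈ Z, ∀ g : G, g * z = z * g := fun z hz g => Subgroup.mem_center_iff.mp (hZ hz) g
  -- for fixed `g`, the set of `k` with `[g,k] ∈ Z` is a subgroup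
  have key : ∀ g : G, (∀ t ∈ S, g * t * g⁻¹ * t⁻¹ ∈ Z) → ∀ k : G, g * k * g⁻¹ * k⁻¹ ∈ Z := by
    intro g hg k
    have hk : k ∈ Subgroup.closure S := by rw [hS]; trivial
    induction hk using Subgroup.closure_induction with
    | mem t ht => exact hg t ht
    | one => simp
    | mul a b _ _ iha ihb =>
      have e : g * (a * b) * g⁻¹ * (a * b)⁻¹ = (g * a * g⁻¹ * a⁻¹) * (a * (g * b * g⁻¹ * b⁻¹) * a⁻¹) := by group
      rw [e]
      have : a * (g * b * g⁻¹ * b⁻¹) * a⁻¹ = g * b * g⁻¹ * b⁻¹ := by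
        rw [hcen _ ihb a]; group
      rw [this]
      exact Z.mul_mem iha ihb
    | inv a _ iha =>
      have e : g * a⁻¹ * g⁻¹ * a⁻¹⁻¹ = a⁻¹ * (g * a * g⁻¹ * a⁻¹)⁻¹ * a := by group
      rw [e]
      have : a⁻¹ * (g * a * g⁻¹ * a⁻¹)⁻¹ * a = (g * a * g⁻¹ * a⁻¹)⁻¹ := by
        rw [hcen _ (Z.inv_mem iha) a⁻¹]; group
      rw [this]
      exact Z.inv_mem iha
  intro g k
  -- first: for t ∈ S, all [g', t] ∈ Z, by symmetry
  have hsym : ∀ a b : G, a * b * a⁻¹ * b⁻¹ ∈ Z → b * a * b⁻¹ * a⁻¹ ∈ Z := by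
    intro a b hab
    have : b * a * b⁻¹ * a⁻¹ = (a * b * a⁻¹ * b⁻¹)⁻¹ := by group
    rw [this]; exact Z.inv_mem hab
  apply key g
  intro t ht
  apply hsym
  exact key t (fun s hs => h t ht s hs) g


/-- Number theory behind automorphisms of order `p` of a cyclic group of order `p ^ m`, `p` odd:
`k ^ p ≡ 1 [MOD p ^ m]` with `m ≥ 1` forces `k ≡ 1 [MOD p]` and `k ≡ 1 [MOD p ^ (m - 1)]`. -/
theorem modEq_one_of_pow_prime_modEq_one {p : ℕ} [hp : Fact p.Prime] (hp2 : p ≠ 2) {m k : ℕ} (hm : 1 ≤ m)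
    (h : k ^ p ≡ 1 [MOD p ^ m]) : k ≡ 1 [MOD p] ∧ k ≡ 1 [MOD p ^ (m - 1)] := by
  have hpp : p.Prime := hp.out
  have hodd : Odd p := hpp.odd_of_ne_two hp2
  have h1 : k ≡ 1 [MOD p] := by
    have h2 : k ^ p ≡ 1 [MOD p] := h.of_dvd (dvd_pow_self p (by omega))
    rw [← ZMod.natCast_eq_natCast_iff] at h2 ⊢
    push_cast at h2 ⊢
    rwa [ZMod.pow_card] at h2
  refine ⟨h1, ?_⟩
  rcases Nat.lt_or_ge 1 k with hk | hk
  · -- k > 1
    have hkp : 1 ≤ k ^ p := Nat.one_le_pow _ _ (by omega)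
    have hdvd : p ^ m ∣ k ^ p - 1 := (Nat.modEq_iff_dvd' hkp).mp h.symm
    have hdvd1 : p ∣ k - 1 := (Nat.modEq_iff_dvd' (by omega)).mp h1.symm
    have hnd : ¬ p ∣ k := by
      intro hpk
      have : p ∣ 1 := by
        have h3 : p ∣ k - (k - 1) := Nat.dvd_sub hpk hdvd1
        have : k - (k - 1) = 1 := by omega
        rwa [this] at h3
      exact hpp.one_lt.ne' (Nat.dvd_one.mp this)
    have hlte := padicValNat.pow_sub_pow (p := p) hodd hk (by simpa using hdvd1) hnd (n := p) hpp.ne_zero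
    rw [one_pow, padicValNat_self] at hlte
    have hne : k ^ p - 1 ≠ 0 := by
      have : 1 < k ^ p := Nat.one_lt_pow hpp.ne_zero hk
      omega
    have hle : m ≤ padicValNat p (k ^ p - 1) := (padicValNat_dvd_iff_le hne).mp hdvd
    have hne1 : k - 1 ≠ 0 := by omega
    have : p ^ (m - 1) ∣ k - 1 := (padicValNat_dvd_iff_le hne1).mpr (by omega)
    exact ((Nat.modEq_iff_dvd' (by omega)).mpr this).symm
  · -- k ≤ 1
    interval_cases k
    · exfalso
      rw [zero_pow hpp.ne_zero] at h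
      have : p ^ m ∣ 1 - 0 := (Nat.modEq_iff_dvd' (by omega)).mp h
      have h4 : p ^ m = 1 := Nat.dvd_one.mp (by simpa using this)
      have : 1 < p ^ m := Nat.one_lt_pow (by omega) hpp.one_lt
      omega
    · exact Nat.ModEq.refl 1

end Cfsg.Agent.Helper52
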