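-- Shared lemmas (helper52): finite p-groups (p odd) with a cyclic subgroup of index p.
import Mathlib
import Cfsg.Agent.Helper52.ClassTwo

set_option autoImplicit false

namespace Cfsg.Agent.Helper52

/-- Iterating an automorphism that maps `x` to `x ^ a`. -/
theorem mulAut_pow_apply_eq_pow {X : Type*} [Group X] (φ : MulAut X) (x : X) (a : ℕ)
    (h : φ x = x ^ a) (k : ℕ) : (φ ^ k) x = x ^ (a ^ k) := by
  induction k with
  | zero => simp
  | succ k ih =>
    rw [pow_succ', MulAut.mul_apply, ih, map_pow, h, ← pow_mul, pow_succ']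

/-- Basic data of a finite `p`-group `R` (`p` odd) with a cyclic subgroup `C` of index `p`. -/
theorem cyclic_index_prime_data {R : Type*} [Group R] [Finite R] {p : ℕ} [hp : Fact p.Prime] (hp2 : p ≠ 2)
    (hR : IsPGroup p R) (C : Subgroup R) (hC : IsCyclic C) (hCi : C.index = p) :
    ∃ (m : ℕ) (c x : R), C = Subgroup.zpowers c ∧ orderOf c = p ^ m ∧ Nat.card R = p ^ (m + 1) ∧ x ∉ C ∧
      Subgroup.closure ({c, x} : Set R) = ⊤ ∧ x ^ p ∈ C ∧ C.Normal ∧
      (1 ≤ m → ∃ k : ℕ, x * c * x⁻¹ = c ^ k ∧ k ≡ 1 [MOD p] ∧ k ≡ 1 [MOD p ^ (m - 1)]) := by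
  classical
  have hpp : p.Prime := hp.out
  obtain ⟨m, hm⟩ := (hR.to_subgroup C).exists_card_eq
  have hcardR : Nat.card R = p ^ (m + 1) := by
    rw [← Subgroup.card_mul_index C, hm, hCi, pow_succ]
  have hCn : C.Normal := by
    apply Subgroup.normal_of_index_eq_minFac_card
    rw [hCi, hcardR, Nat.Prime.pow_minFac hpp (by omega)]
  obtain ⟨g, hg⟩ := hC.exists_generator
  have hCeq : C = Subgroup.zpowers (g : R) := by
    ext y
    constructor
    · intro hy
      obtain ⟨i, hi⟩ := Subgroup.mem_zpowers_iff.mp (hg ⟨y, hy⟩)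
      refine Subgroup.mem_zpowers_iff.mpr ⟨i, ?_⟩
      have := congrArg Subtype.val hi
      simpa using this
    · intro hy
      obtain ⟨i, hi⟩ := Subgroup.mem_zpowers_iff.mp hy
      rw [← hi]; exact C.zpow_mem g.2 i
  have hord : orderOf (g : R) = p ^ m := by
    rw [← hm, ← Nat.card_zpowers, ← hCeq]
  -- an element outside C
  have hCtop : C ≠ ⊤ := by
    intro h
    rw [h, Subgroup.index_top] at hCi
    exact hpp.one_lt.ne hCi
  obtain ⟨x, hx⟩ : ∃ x : R, x ∉ C := by
    by_contra hcon
    push_neg at hcon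
    exact hCtop (eq_top_iff.mpr (fun y _ => hcon y))
  have hxp : x ^ p ∈ C := by
    have := Subgroup.pow_index_mem C x
    rwa [hCi] at this
  have hgen : Subgroup.closure ({(g : R), x} : Set R) = ⊤ := by
    have h1 : Subgroup.closure ({(g : R), x} : Set R) = C ⊔ Subgroup.zpowers x := by
      rw [Set.insert_eq, Subgroup.closure_union, ← Subgroup.zpowers_eq_closure,
        ← Subgroup.zpowers_eq_closure, ← hCeq]
    rw [h1]
    set M : Subgroup R := C ⊔ Subgroup.zpowers x
    have hCM : C ≤ M := le_sup_left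
    have h2 := Subgroup.relIndex_mul_index hCM
    rw [hCi] at h2
    have h3 : M.index = 1 ∨ M.index = p := (Nat.dvd_prime hpp).mp ⟨_, by rw [mul_comm]; exact h2.symm⟩
    rcases h3 with h3 | h3
    · exact Subgroup.index_eq_one.mp h3
    · exfalso
      rw [h3] at h2
      have h4 : C.relIndex M = 1 := by
        have : C.relIndex M * p = 1 * p := by rw [h2, one_mul]
        exact Nat.eq_of_mul_eq_mul_right hpp.pos this
      have := Subgroup.relIndex_eq_one.mp h4
      exact hx (this (le_sup_right (a := C) (Subgroup.mem_zpowers x)))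
  refine ⟨m, (g : R), x, hCeq, hord, hcardR, hx, hgen, hxp, hCn, ?_⟩
  intro hm1
  -- conjugation by x on c
  have hconj0 : x * (g : R) * x⁻¹ ∈ C := hCn.conj_mem _ g.2 x
  have hconj : x * (g : R) * x⁻¹ ∈ Subgroup.zpowers (g : R) := (SetLike.ext_iff.mp hCeq _).mp hconj0
  obtain ⟨k, hk⟩ := (mem_powers_iff_mem_zpowers.mpr hconj)
  have hk' : (g : R) ^ k = x * (g : R) * x⁻¹ := hk
  refine ⟨k, hk'.symm, ?_⟩
  -- (conj x)^p fixes c
  have h1 : ((MulAut.conj x) ^ p) (g : R) = (g : R) ^ (k ^ p) :=
    mulAut_pow_apply_eq_pow (MulAut.conj x) (g : R) k (by rw [MulAut.conj_apply]; exact hk'.symm) p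
  have h2 : ((MulAut.conj x) ^ p) (g : R) = (g : R) := by
    rw [← map_pow, MulAut.conj_apply]
    -- x^p ∈ C commutes with c
    have hxp' : x ^ p ∈ Subgroup.zpowers (g : R) := (SetLike.ext_iff.mp hCeq _).mp hxp
    obtain ⟨i, hi⟩ := Subgroup.mem_zpowers_iff.mp hxp'
    rw [← hi]; group
  have h3 : (g : R) ^ (k ^ p) = (g : R) ^ 1 := by rw [pow_one, ← h1, h2]
  have h4 : k ^ p ≡ 1 [MOD p ^ m] := by
    have := (pow_eq_pow_iff_modEq (x := (g : R))).mp h3
    rwa [hord] at this
  exact modEq_one_of_pow_prime_modEq_one hp2 hm1 h4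

/-- In a finite `p`-group (`p` odd) with a cyclic subgroup `C` of index `p`, all commutators lie in a central
subgroup `Z₀ ≤ C` of exponent `p`. -/
theorem exists_central_commutator_subgroup {R : Type*} [Group R] [Finite R] {p : ℕ} [hp : Fact p.Prime]
    (hp2 : p ≠ 2) (hR : IsPGroup p R) (C : Subgroup R) (hC : IsCyclic C) (hCi : C.index = p) :
    ∃ Z₀ : Subgroup R, Z₀ ≤ C ∧ Z₀ ≤ Subgroup.center R ∧ (∀ z ∈ Z₀, z ^ p = 1) ∧
      ∀ g k : R, g * k * g⁻¹ * k⁻¹ ∈ Z₀ := by
  classical
  have hpp : p.Prime := hp.out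
  obtain ⟨m, c, x, hCeq, hord, hcardR, hx, hgen, hxp, hCn, hk⟩ :=
    cyclic_index_prime_data hp2 hR C hC hCi
  rcases Nat.eq_zero_or_pos m with hm0 | hmpos
  · -- R has order p, hence is commutative
    subst hm0
    have hcyc : IsCyclic R := isCyclic_of_prime_card (p := p) (by simpa using hcardR)
    obtain ⟨g, hg⟩ := hcyc.exists_generator
    refine ⟨⊥, bot_le, bot_le, fun z hz => by rw [Subgroup.mem_bot.mp hz, one_pow], ?_⟩
    intro a b
    obtain ⟨i, rfl⟩ := Subgroup.mem_zpowers_iff.mp (hg a)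
    obtain ⟨j, rfl⟩ := Subgroup.mem_zpowers_iff.mp (hg b)
    rw [Subgroup.mem_bot]
    have : g ^ i * g ^ j = g ^ j * g ^ i := by rw [← zpow_add, ← zpow_add, add_comm]
    rw [this]; group
  · obtain ⟨k, hkc, hk1, hk2⟩ := hk hmpos
    set d : R := c ^ (p ^ (m - 1)) with hd
    have hpm : p ^ m = p * p ^ (m - 1) := by
      rw [← pow_succ']; congr 1; omega
    have hdp : d ^ p = 1 := by
      rw [hd, ← pow_mul, mul_comm, ← hpm, ← hord, pow_orderOf_eq_one]
    have hk0 : 1 ≤ k := by
      rcases Nat.eq_zero_or_pos k with h0 | h0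
      · exfalso
        subst h0
        have := (Nat.modEq_iff_dvd' (by omega)).mp hk1
        exact hpp.one_lt.ne' (Nat.dvd_one.mp (by simpa using this))
      · exact h0
    -- d is central
    have hdc : d ∈ Subgroup.center R := by
      have hcent : Subgroup.closure ({c, x} : Set R) ≤ Subgroup.centralizer ({d} : Set R) := by
        rw [Subgroup.closure_le]
        intro y hy
        rcases hy with rfl | hy
        · rw [SetLike.mem_coe, Subgroup.mem_centralizer_iff]
          intro z hz
          rw [Set.mem_singleton_iff] at hz; subst hz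
          rw [hd, ← pow_succ, ← pow_succ']
        · rw [Set.mem_singleton_iff] at hy; subst hy
          rw [SetLike.mem_coe, Subgroup.mem_centralizer_iff]
          intro z hz
          rw [Set.mem_singleton_iff] at hz; subst hz
          -- x d x⁻¹ = d
          have h1 : y * d * y⁻¹ = (y * c * y⁻¹) ^ (p ^ (m - 1)) := by
            rw [hd]; simp [conj_pow]
          have h2 : (c ^ k) ^ (p ^ (m - 1)) = c ^ (p ^ (m - 1)) := by
            rw [← pow_mul]
            apply (pow_eq_pow_iff_modEq (x := c)).mpr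
            rw [hord, hpm]
            have := Nat.ModEq.mul_right' (p ^ (m - 1)) hk1
            simpa using this
          have h5 : y * d * y⁻¹ = d := by rw [h1, hkc, h2]
          calc d * y = (y * d * y⁻¹) * y := by rw [h5]
            _ = y * d := by group
      rw [hgen] at hcent
      rw [Subgroup.mem_center_iff]
      intro g
      have := Subgroup.mem_centralizer_iff.mp (hcent (Subgroup.mem_top g)) d (Set.mem_singleton d)
      exact this.symm
    refine ⟨Subgroup.zpowers d, ?_, ?_, ?_, ?_⟩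
    · rw [Subgroup.zpowers_le, hCeq, hd]
      exact Subgroup.pow_mem _ (Subgroup.mem_zpowers c) _
    · rw [Subgroup.zpowers_le]; exact hdc
    · intro z hz
      obtain ⟨i, rfl⟩ := Subgroup.mem_zpowers_iff.mp hz
      rw [← zpow_natCast, ← zpow_mul, mul_comm, zpow_mul, zpow_natCast, hdp, one_zpow]
    · apply commutator_mem_of_generators (Subgroup.zpowers d)
        (by rw [Subgroup.zpowers_le]; exact hdc) ({c, x} : Set R) hgen
      -- commutators of the generators
      have hxc : x * c * x⁻¹ * c⁻¹ ∈ Subgroup.zpowers d := by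
        have hdvd : p ^ (m - 1) ∣ k - 1 := (Nat.modEq_iff_dvd' hk0).mp hk2.symm
        obtain ⟨t, ht⟩ := hdvd
        have : x * c * x⁻¹ * c⁻¹ = d ^ t := by
          rw [hkc, hd, ← pow_mul, ← ht]
          have : c ^ k = c ^ (k - 1) * c := by rw [← pow_succ]; congr 1; omega
          rw [this]; group
        rw [this]; exact Subgroup.pow_mem _ (Subgroup.mem_zpowers d) _
      have hcx : c * x * c⁻¹ * x⁻¹ ∈ Subgroup.zpowers d := by
        have : c * x * c⁻¹ * x⁻¹ = (x * c * x⁻¹ * c⁻¹)⁻¹ := by group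
        rw [this]; exact Subgroup.inv_mem _ hxc
      intro s hs t ht
      rcases hs with rfl | hs <;> rcases ht with rfl | ht
      · simp
      · rw [Set.mem_singleton_iff] at ht; subst ht; exact hcx
      · rw [Set.mem_singleton_iff] at hs; subst hs; exact hxc
      · rw [Set.mem_singleton_iff] at hs ht; subst hs; subst ht; simp

/-- In a finite `p`-group (`p` odd) with a cyclic subgroup of index `p`, the `p`-th power map is a
homomorphism. -/
theorem mul_pow_prime_of_cyclic_index_prime {R : Type*} [Group R] [Finite R] {p : ℕ} [hp : Fact p.Prime]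
    (hp2 : p ≠ 2) (hR : IsPGroup p R) (C : Subgroup R) (hC : IsCyclic C) (hCi : C.index = p) (x y : R) :
    (x * y) ^ p = x ^ p * y ^ p := by
  obtain ⟨Z₀, _, hZc, hZp, hcomm⟩ := exists_central_commutator_subgroup hp2 hR C hC hCi
  have hc := hcomm y x
  have hcen := Subgroup.mem_center_iff.mp (hZc hc)
  exact mul_pow_prime_of_commutator_central hp.out hp2 x y (hcen x).symm (hcen y).symm (hZp _ hc)

end Cfsg.Agent.Helper52
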