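-- helper52: for odd p, a non-cyclic normal subgroup S of a finite p-group R contains a normal (in R)
-- elementary abelian subgroup of order p^2.  (Relative version of S0126; this is the content of S0636.)
import Mathlib
import Cfsg.Prelude.Def_Transfer
import Cfsg.Agent.Helper52.PGroupLemmas
import Cfsg.Agent.S0127

set_option autoImplicit false

namespace Cfsg.Agent.Helper52

theorem exists_normal_elementaryAbelian_sq_aux {R : Type*} [Group R] [Finite R] {p : ℕ} [hp : Fact p.Prime]
    (hp2 : p ≠ 2) (hR : IsPGroup p R) (n : ℕ) :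
    ∀ (S : Subgroup R), S.Normal → Nat.card S = n → ¬ IsCyclic S →
      ∃ A : Subgroup R, A ≤ S ∧ A.Normal ∧ Cfsg.IsElementaryAbelian p A ∧ Nat.card A = p ^ 2 := by
  classical
  induction n using Nat.strong_induction_on with
  | _ n ih =>
    intro S hSn hcard hS
    have hpp : p.Prime := hp.out
    have hS1 : S ≠ ⊥ := by
      intro h
      apply hS
      rw [h]
      exact isCyclic_of_subsingleton
    obtain ⟨M, hMn, hMS, hidx, _⟩ := exists_normal_relIndex_prime hR S hS1
    by_cases hMc : IsCyclic M
    · -- S has the cyclic subgroup M of index p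
      have hSp : IsPGroup p S := hR.to_subgroup S
      have hC : IsCyclic (M.subgroupOf S) :=
        (Subgroup.subgroupOfEquivOfLe hMS).isCyclic.mpr hMc
      have hCi : (M.subgroupOf S).index = p := hidx
      obtain ⟨Ω, hΩ, hΩcard⟩ := Cfsg.Agent.S0127.omega_data hp2 hSp hS (M.subgroupOf S) hC hCi
      have hinj : Function.Injective S.subtype := Subgroup.subtype_injective S
      have hmem : ∀ a : R, a ∈ Ω.map S.subtype ↔ a ∈ S ∧ a ^ p = 1 := by
        intro a
        constructor
        · rintro ⟨y, hy, rfl⟩
          refine ⟨y.2, ?_⟩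
          have : y ∈ (Ω : Set S) := hy
          rw [hΩ] at this
          have h2 : y ^ p = 1 := this
          have := congrArg Subtype.val h2
          simpa using this
        · rintro ⟨haS, hap⟩
          refine ⟨⟨a, haS⟩, ?_, rfl⟩
          have : (⟨a, haS⟩ : S) ∈ (Ω : Set S) := by
            rw [hΩ]
            change (⟨a, haS⟩ : S) ^ p = 1
            apply Subtype.ext
            simpa using hap
          exact this
      have hAcard : Nat.card (Ω.map S.subtype) = p ^ 2 := by
        rw [Subgroup.card_map_of_injective hinj, hΩcard]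
      refine ⟨Ω.map S.subtype, Subgroup.map_subtype_le Ω, ?_, ⟨?_, ?_⟩, hAcard⟩
      · refine ⟨fun a ha g => ?_⟩
        rw [hmem] at ha ⊢
        refine ⟨hSn.conj_mem a ha.1 g, ?_⟩
        rw [conj_pow, ha.2]; group
      · exact IsPGroup.isMulCommutative_of_card_eq_prime_sq hAcard
      · intro a ha
        exact ((hmem a).mp ha).2
    · -- recurse into M
      have hlt : Nat.card M < n := by
        have := relIndex_mul_card_of_le hMS
        rw [hidx, hcard] at this
        have hpos : 0 < Nat.card M := Nat.card_pos
        have : Nat.card M * 2 ≤ n := by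
          calc Nat.card M * 2 ≤ Nat.card M * p := Nat.mul_le_mul_left _ hpp.two_le
            _ = n := by rw [mul_comm]; exact this
        omega
      obtain ⟨A, hAM, hAn, hAe, hAc⟩ := ih (Nat.card M) hlt M hMn rfl hMc
      exact ⟨A, hAM.trans hMS, hAn, hAe, hAc⟩

/-- For odd `p`, a non-cyclic normal subgroup `S` of a finite `p`-group `R` contains an elementary abelian
subgroup of order `p ^ 2` which is normal in `R`. -/
theorem exists_normal_elementaryAbelian_sq {R : Type*} [Group R] [Finite R] {p : ℕ} [Fact p.Prime]
    (hp2 : p ≠ 2) (hR : IsPGroup p R) (S : Subgroup R) [hSn : S.Normal] (hS : ¬ IsCyclic S) :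
    ∃ A : Subgroup R, A ≤ S ∧ A.Normal ∧ Cfsg.IsElementaryAbelian p A ∧ Nat.card A = p ^ 2 :=
  exists_normal_elementaryAbelian_sq_aux hp2 hR (Nat.card S) S hSn rfl hS

end Cfsg.Agent.Helper52
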