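import Mathlib
import Cfsg.Agent.Helper1.ShultDefs

set_option autoImplicit false

/-!
# Fixed-point-free action of a non-abelian group of order `pq` (S4306): definitions (helper52)

`A = ⟨σ, τ⟩`, `σ` of prime order `s`, `τ` of prime order `t`, `τ` normalizes but does not centralize
`⟨σ⟩` (so `A` is the Frobenius group of order `s t`), acting on a finite solvable group `G` of order
prime to `s t` with `C_G(A) = 1`; then `G` has Fitting height at most 2.  Everything is phrased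
inside one ambient finite group `H` (think `H = G ⋊ A`), conjugation being `g * x * g⁻¹`.
We reuse `Inv`, `Fix`, `IsEA`, `IsHyp`, `HypSet` of `Cfsg.Agent.Helper1.Shult`.
-/

namespace Cfsg.Agent.Helper52.PQ

open Subgroup Cfsg.Agent.Helper1.Shult

section Defs

variable {H : Type*} [Group H]

/-- `σ` of prime order `s`, `τ` of prime order `t`, `τ` normalizes `⟨σ⟩` and does not commute
with `σ`. -/
structure FrobPair (s t : ℕ) (σ τ : H) : Prop where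
  hs : s.Prime
  ht : t.Prime
  oσ : orderOf σ = s
  oτ : orderOf τ = t
  norm : τ * σ * τ⁻¹ ∈ zpowers σ
  ncomm : τ * σ ≠ σ * τ

/-- The minimal tower `V . Q . R`: `V` elementary abelian `ℓ`-group, `Q` a `w`-group acting
faithfully on `V`, `R` a `u`-group normalizing `Q`, everything `⟨σ, τ⟩`-invariant without fixed
points, `Q = [Q, R] ≠ 1`, and the three minimality conditions. -/
structure CoreCfg (s t ℓ w u : ℕ) (σ τ : H) (V Q R : Subgroup H) : Prop where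
  hF : FrobPair s t σ τ
  hwℓ : w ≠ ℓ
  hwu : w ≠ u
  hℓs : ℓ ≠ s
  hℓt : ℓ ≠ t
  hws : w ≠ s
  hwt : w ≠ t
  hus : u ≠ s
  hut : u ≠ t
  hV : IsEA ℓ V
  hQ : IsPGroup w Q
  hR : IsPGroup u R
  hVinv : Inv σ τ V
  hQinv : Inv σ τ Q
  hRinv : Inv σ τ R
  hQV : Q ≤ normalizer (V : Set H)
  hRV : R ≤ normalizer (V : Set H)
  hRQ : R ≤ normalizer (Q : Set H)
  hfixV : Fix σ τ V = ⊥
  hfixQ : Fix σ τ Q = ⊥
  hfixR : Fix σ τ R = ⊥
  hfaith : Q ⊓ centralizer (V : Set H) = ⊥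
  hQne : Q ≠ ⊥
  hQR : Q ≤ ⁅Q, R⁆
  hminQ : ∀ Q2 : Subgroup H, Q2 ≤ Q → Q2 ≠ Q → Inv σ τ Q2 → R ≤ normalizer (Q2 : Set H) →
    Q2 ≤ centralizer (R : Set H)
  hminR : ∀ R2 : Subgroup H, R2 ≤ R → R2 ≠ R → Inv σ τ R2 → R2 ≤ centralizer (Q : Set H)
  hminV : ∀ V2 : Subgroup H, V2 ≤ V → V2 ≠ V → Inv σ τ V2 → Q ≤ normalizer (V2 : Set H) →
    R ≤ normalizer (V2 : Set H) → Q ≤ centralizer (V2 : Set H)

/-- The exceptional (Fermat) configuration, after passing to the quotient by `C_Q(V_D)`: `Q` a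
`2`-group of class at most two with `Q / Z` elementary abelian, `|Z| = 2`, faithful on the
elementary abelian `ℓ`-group `W`; `b` of odd prime order `t` normalizes `Q`, `W`, `R`, `Z`, has no
fixed points on `W` and does not centralize `Q`; `R` an odd `u`-group normalizing `Q`, centralizing
`Z`, acting on `Q` through an elementary abelian quotient, with `C_{Q/Z}(R) = 1`. -/
structure ECfg (ℓ u t : ℕ) (b : H) (W Q Z R : Subgroup H) : Prop where
  ht : t.Prime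
  hℓ2 : ℓ ≠ 2
  hu2 : u ≠ 2
  ht2 : t ≠ 2
  hℓt : ℓ ≠ t
  hut : u ≠ t
  ob : orderOf b = t
  hW : IsEA ℓ W
  hQ : IsPGroup 2 Q
  hR : IsPGroup u R
  hZQ : Z ≤ Q
  hZcard : Nat.card Z = 2
  hZc : Z ≤ centralizer (Q : Set H)
  hQcomm : ∀ g ∈ Q, ∀ h ∈ Q, g * h * g⁻¹ * h⁻¹ ∈ Z
  hQpow : ∀ g ∈ Q, g ^ 2 ∈ Z
  hbQ : b ∈ normalizer (Q : Set H)
  hbW : b ∈ normalizer (W : Set H)
  hbR : b ∈ normalizer (R : Set H)
  hbZ : b ∈ normalizer (Z : Set H)
  hQW : Q ≤ normalizer (W : Set H)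
  hRQ : R ≤ normalizer (Q : Set H)
  hfaith : Q ⊓ centralizer (W : Set H) = ⊥
  hfix : W ⊓ centralizer {b} = ⊥
  hRZ : R ≤ centralizer (Z : Set H)
  hRcomm : ∀ x ∈ R, ∀ y ∈ R, x * y * x⁻¹ * y⁻¹ ∈ centralizer (Q : Set H)
  hRpow : ∀ x ∈ R, x ^ u ∈ centralizer (Q : Set H)
  hQR : ∀ g ∈ Q, (∀ x ∈ R, g⁻¹ * (x * g * x⁻¹) ∈ Z) → g ∈ Z
  hbad : ∃ g ∈ Q, g⁻¹ * (b * g * b⁻¹) ≠ 1

end Defs

/-- **Core.**  The minimal tower does not exist. -/
def PQCoreStmt.{v} : Prop :=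
  ∀ (H : Type v) [Group H] [Finite H] (s t ℓ w u : ℕ) [Fact ℓ.Prime] [Fact w.Prime] [Fact u.Prime]
    (σ τ : H) (V Q R : Subgroup H), CoreCfg s t ℓ w u σ τ V Q R → False

/-- **Tower lemma.**  `V` elementary abelian `ℓ`-group, `S` a `w`-group, `R` a `u`-group
(`w ≠ ℓ`, `w ≠ u`; `u = ℓ` allowed; none of them `s` or `t`), all `⟨σ, τ⟩`-invariant with trivial
fixed points, `S` and `R` normalize `V`, `R` normalizes `S`: then `[S, R]` centralizes `V`. -/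
def PQTowerStmt.{v} : Prop :=
  ∀ (H : Type v) [Group H] [Finite H] (s t ℓ w u : ℕ) [Fact ℓ.Prime] [Fact w.Prime] [Fact u.Prime]
    (σ τ : H) (V S R : Subgroup H),
    FrobPair s t σ τ → w ≠ ℓ → w ≠ u → ℓ ≠ s → ℓ ≠ t → w ≠ s → w ≠ t → u ≠ s → u ≠ t →
    IsEA ℓ V → IsPGroup w S → IsPGroup u R → Inv σ τ V → Inv σ τ S → Inv σ τ R →
    S ≤ normalizer (V : Set H) → R ≤ normalizer (V : Set H) → R ≤ normalizer (S : Set H) →
    Fix σ τ V = ⊥ → Fix σ τ S = ⊥ → Fix σ τ R = ⊥ →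
    ⁅S, R⁆ ≤ centralizer (V : Set H)

/-- **Chief factor step.**  `H = G A`, `G ⊴ H` solvable of order prime to `s t`, `C_G(A) = 1`,
`V ≤ G` a minimal normal subgroup of `H`, `V ≤ N ≤ G`, `N ⊴ H`, `N / V` and `G / N` nilpotent.  Then
`G / C_G(V)` is nilpotent. -/
def PQT1Stmt.{v} : Prop :=
  ∀ (H : Type v) [Group H] [Finite H] (s t : ℕ) (σ τ : H) (G V N : Subgroup H) (k : ℕ),
    FrobPair s t σ τ → G.Normal → G ⊔ closure {σ, τ} = ⊤ → Group.IsSolvable G →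
    (Nat.card G).Coprime (s * t) → Fix σ τ G = ⊥ →
    V.Normal → V ≤ G → V ≠ ⊥ → (∀ U : Subgroup H, U.Normal → U ≤ V → U = ⊥ ∨ U = V) →
    N.Normal → V ≤ N → N ≤ G → N.lowerCentralSeries k ≤ V → G.lowerCentralSeries k ≤ N →
    ∃ m : ℕ, G.lowerCentralSeries m ≤ centralizer (V : Set H)

/-- **Ambient form of the theorem.** -/
def PQAmbientStmt.{v} : Prop :=
  ∀ (H : Type v) [Group H] [Finite H] (s t : ℕ) (σ τ : H) (G : Subgroup H),
    FrobPair s t σ τ → G.Normal → G ⊔ closure {σ, τ} = ⊤ → Group.IsSolvable G →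
    (Nat.card G).Coprime (s * t) → Fix σ τ G = ⊥ →
    ∃ N : Subgroup H, N.Normal ∧ N ≤ G ∧ (∃ k : ℕ, N.lowerCentralSeries k = ⊥) ∧
      ∃ k : ℕ, G.lowerCentralSeries k ≤ N

end Cfsg.Agent.Helper52.PQ
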