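import Mathlib
import Cfsg.Agent.Helper46.DkMat

set_option autoImplicit false

/-!
# Copies of `SL₂(𝔽_p)` inside `SL₂(E)`

Two opposite unipotent elements `U(a)`, `V(b)` with `a * b` a nonzero element of the prime field
generate a copy of `SL₂(𝔽_p)`.
-/

namespace Cfsg.Agent.Helper52.SL2Prime

open Matrix Cfsg.Agent.Helper46.Dk

section basic

variable {E : Type*} [Field E]

local notation "SL2" => Matrix.SpecialLinearGroup (Fin 2) E

theorem uU_mul (a b : E) : (uU a : SL2) * uU b = uU (a + b) := by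
  apply ext'
  · rw [mul_00]; simp [uU]
  · rw [mul_01]; simp [uU]; ring
  · rw [mul_10]; simp [uU]
  · rw [mul_11]; simp [uU]

theorem vV_mul (a b : E) : (vV a : SL2) * vV b = vV (a + b) := by
  apply ext'
  · rw [mul_00]; simp [vV]
  · rw [mul_01]; simp [vV]
  · rw [mul_10]; simp [vV]
  · rw [mul_11]; simp [vV]

theorem uU_zero : (uU 0 : SL2) = 1 := by
  apply ext' <;> simp [uU]

theorem vV_zero : (vV 0 : SL2) = 1 := by
  apply ext' <;> simp [vV]

theorem uU_pow (a : E) (n : ℕ) : (uU a : SL2) ^ n = uU (n * a) := by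
  induction n with
  | zero => simp [uU_zero]
  | succ k ih => rw [pow_succ, ih, uU_mul]; congr 1; push_cast; ring

theorem vV_pow (a : E) (n : ℕ) : (vV a : SL2) ^ n = vV (n * a) := by
  induction n with
  | zero => simp [vV_zero]
  | succ k ih => rw [pow_succ, ih, vV_mul]; congr 1; push_cast; ring

/-- Bruhat-type factorisation of a matrix with nonzero lower-left entry. -/
theorem eq_uU_vV_uU (g : SL2) (hc : g.1 1 0 ≠ 0) :
    g = uU ((g.1 0 0 - 1) / g.1 1 0) * vV (g.1 1 0) * uU ((g.1 1 1 - 1) / g.1 1 0) := by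
  have hdet := det' g
  apply ext'
  · rw [mul_00, mul_00]; simp [uU, vV]; field_simp; ring
  · rw [mul_01, mul_00, mul_01]; simp [uU, vV]; field_simp; linear_combination (-1 : E) * hdet
  · rw [mul_10, mul_10]; simp [uU, vV]
  · rw [mul_11, mul_10, mul_11]; simp [uU, vV]; field_simp; ring

end basic

section gen

variable (p : ℕ) [Fact p.Prime]

local notation "SLp" => Matrix.SpecialLinearGroup (Fin 2) (ZMod p)

theorem uU_mem_closure (x : ZMod p) :
    (uU x : SLp) ∈ Subgroup.closure ({uU (1 : ZMod p), vV (1 : ZMod p)} : Set SLp) := by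
  have h1 : (uU (1 : ZMod p) : SLp) ∈ Subgroup.closure ({uU (1 : ZMod p), vV (1 : ZMod p)} : Set SLp) :=
    Subgroup.subset_closure (by simp)
  have := Subgroup.pow_mem _ h1 x.val
  rw [uU_pow, mul_one, ZMod.natCast_zmod_val] at this
  exact this

theorem vV_mem_closure (x : ZMod p) :
    (vV x : SLp) ∈ Subgroup.closure ({uU (1 : ZMod p), vV (1 : ZMod p)} : Set SLp) := by
  have h1 : (vV (1 : ZMod p) : SLp) ∈ Subgroup.closure ({uU (1 : ZMod p), vV (1 : ZMod p)} : Set SLp) :=
    Subgroup.subset_closure (by simp)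
  have := Subgroup.pow_mem _ h1 x.val
  rw [vV_pow, mul_one, ZMod.natCast_zmod_val] at this
  exact this

/-- `SL₂(𝔽_p)` is generated by the two elementary unipotent matrices. -/
theorem closure_uU_vV :
    Subgroup.closure ({uU (1 : ZMod p), vV (1 : ZMod p)} : Set SLp) = ⊤ := by
  rw [eq_top_iff]
  intro g _
  set C := Subgroup.closure ({uU (1 : ZMod p), vV (1 : ZMod p)} : Set SLp) with hC
  have key : ∀ g : SLp, g.1 1 0 ≠ 0 → g ∈ C := by
    intro g hg
    rw [eq_uU_vV_uU g hg]
    exact C.mul_mem (C.mul_mem (uU_mem_closure p _) (vV_mem_closure p _)) (uU_mem_closure p _)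
  by_cases hg : g.1 1 0 = 0
  · have h1 : (vV (1 : ZMod p) * g : SLp) ∈ C := by
      apply key
      rw [mul_10]
      simp only [vV, mk4_10, mk4_11, one_mul, hg, add_zero]
      intro h0
      have := det' g
      rw [h0, hg] at this
      simp at this
    have h2 : (vV (1 : ZMod p) : SLp)⁻¹ ∈ C := C.inv_mem (vV_mem_closure p 1)
    have : g = (vV (1 : ZMod p) : SLp)⁻¹ * (vV (1 : ZMod p) * g) := by group
    rw [this]
    exact C.mul_mem h2 h1
  · exact key g hg

end gen

section embed

variable {E : Type*} [Field E] (p : ℕ) [Fact p.Prime] [CharP E p]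

local notation "SL2" => Matrix.SpecialLinearGroup (Fin 2) E
local notation "SLp" => Matrix.SpecialLinearGroup (Fin 2) (ZMod p)

/-- the prime field embedding -/
noncomputable def iota : ZMod p →+* E := ZMod.castHom (dvd_refl p) E

theorem iota_injective : Function.Injective (iota (E := E) p) := RingHom.injective _

theorem iota_natCast (n : ℕ) : iota (E := E) p (n : ZMod p) = (n : E) := map_natCast _ n

/-- the twisted prime field embedding `(m₀₀ m₀₁; m₁₀ m₁₁) ↦ (m₀₀, a m₀₁; a⁻¹ m₁₀, m₁₁)` -/
noncomputable def phiA (a : E) (ha : a ≠ 0) : SLp →* SL2 where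
  toFun M := mk4 (iota p (M.1 0 0)) (a * iota p (M.1 0 1)) (a⁻¹ * iota p (M.1 1 0))
    (iota p (M.1 1 1)) (by
      have h := det' M
      have : iota (E := E) p (M.1 0 0 * M.1 1 1 - M.1 0 1 * M.1 1 0) = 1 := by rw [h, map_one]
      rw [map_sub, map_mul, map_mul] at this
      field_simp
      linear_combination this)
  map_one' := by
    apply ext' <;> simp [one_00, one_01, one_10, one_11]
  map_mul' M N := by
    apply ext'
    · simp only [mk4_00]
      rw [mul_00, mul_00]
      simp only [mk4_00, mk4_01, mk4_10, mk4_11, map_add, map_mul]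
      field_simp
    · simp only [mk4_01]
      rw [mul_01, mul_01]
      simp only [mk4_00, mk4_01, mk4_10, mk4_11, map_add, map_mul]
      ring
    · simp only [mk4_10]
      rw [mul_10, mul_10]
      simp only [mk4_00, mk4_01, mk4_10, mk4_11, map_add, map_mul]
      ring
    · simp only [mk4_11]
      rw [mul_11, mul_11]
      simp only [mk4_00, mk4_01, mk4_10, mk4_11, map_add, map_mul]
      field_simp

theorem phiA_injective (a : E) (ha : a ≠ 0) : Function.Injective (phiA p a ha) := by
  intro M N h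
  have h00 := congrArg (fun g : SL2 => g.1 0 0) h
  have h01 := congrArg (fun g : SL2 => g.1 0 1) h
  have h10 := congrArg (fun g : SL2 => g.1 1 0) h
  have h11 := congrArg (fun g : SL2 => g.1 1 1) h
  simp only [phiA, MonoidHom.coe_mk, OneHom.coe_mk, mk4_00, mk4_01, mk4_10, mk4_11] at h00 h01 h10 h11
  apply ext'
  · exact iota_injective p h00
  · exact iota_injective p (mul_left_cancel₀ ha h01)
  · exact iota_injective p (mul_left_cancel₀ (inv_ne_zero ha) h10)
  · exact iota_injective p h11

theorem phiA_uU (a : E) (ha : a ≠ 0) : phiA p a ha (uU 1) = uU a := by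
  apply ext' <;> simp [phiA, uU]

theorem phiA_vV (a : E) (ha : a ≠ 0) : phiA p a ha (vV 1) = vV a⁻¹ := by
  apply ext' <;> simp [phiA, vV]

theorem range_phiA (a : E) (ha : a ≠ 0) :
    (phiA p a ha).range = Subgroup.closure ({uU a, vV a⁻¹} : Set SL2) := by
  rw [MonoidHom.range_eq_map, ← closure_uU_vV p, MonoidHom.map_closure]
  congr 1
  rw [Set.image_insert_eq, Set.image_singleton, phiA_uU, phiA_vV]

/-- **Pair lemma**: if `ρ u = U(a)`, `ρ v = V(b)` with `a * b` a nonzero element of the prime
field, then `Γ` contains a copy of `SL₂(𝔽_p)`. -/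
theorem exists_sl2p_of_pair {Γ : Type*} [Group Γ] (ρ : Γ →* SL2) (hinj : Function.Injective ρ)
    (u v : Γ) (a b : E) (hu : ρ u = uU a) (hv : ρ v = vV b) (c : ZMod p) (hc : c ≠ 0)
    (hab : a * b = iota p c) :
    ∃ K : Subgroup Γ, Nonempty (K ≃* SLp) := by
  have ha : a ≠ 0 := by
    rintro rfl
    rw [zero_mul] at hab
    exact hc (iota_injective p (by rw [← hab, map_zero]))
  set k : ℕ := (c⁻¹).val with hk
  have hkE : (k : E) = iota p c⁻¹ := by
    rw [← iota_natCast p k, hk, ZMod.natCast_zmod_val]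
  have hv' : ρ (v ^ k) = vV a⁻¹ := by
    rw [map_pow, hv, vV_pow]
    congr 1
    have : a * ((k : E) * b) = 1 := by
      rw [hkE, mul_left_comm, hab, ← map_mul, inv_mul_cancel₀ hc, map_one]
    exact eq_inv_of_mul_eq_one_right this
  refine ⟨Subgroup.closure {u, v ^ k}, ?_⟩
  have hmap : (Subgroup.closure ({u, v ^ k} : Set Γ)).map ρ = (phiA p a ha).range := by
    rw [range_phiA, MonoidHom.map_closure, Set.image_insert_eq, Set.image_singleton, hu, hv']
  have e1 : Subgroup.closure ({u, v ^ k} : Set Γ) ≃* (Subgroup.closure ({u, v ^ k} : Set Γ)).map ρ :=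
    Subgroup.equivMapOfInjective _ ρ hinj
  have e2 : (Subgroup.closure ({u, v ^ k} : Set Γ)).map ρ ≃* (phiA p a ha).range :=
    MulEquiv.subgroupCongr hmap
  have e3 : SLp ≃* (phiA p a ha).range := MonoidHom.ofInjective (phiA_injective p a ha)
  exact ⟨(e1.trans e2).trans e3.symm⟩

end embed

end Cfsg.Agent.Helper52.SL2Prime
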