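import Mathlib
import Cfsg.Agent.Helper46.DkUni
import Cfsg.Agent.Helper52.SL2Prime

set_option autoImplicit false

/-!
# The orbit of `∞` of a finite subgroup of `SL₂(E)`, as a subset of `E`
-/

namespace Cfsg.Agent.Helper52.DicksonPts

open Matrix Cfsg.Agent.Helper46.Dk Cfsg.Agent.Helper52.SL2Prime

variable {E : Type*} [Field E]

local notation "SL2" => Matrix.SpecialLinearGroup (Fin 2) E

variable {Γ : Type*} [Group Γ] (ρ : Γ →* Matrix.SpecialLinearGroup (Fin 2) E)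

/-- the finite points `g∞ = α/γ` of the orbit of `∞` -/
def pts : Set E := {z | ∃ g : Γ, (ρ g).1 1 0 ≠ 0 ∧ z = (ρ g).1 0 0 / (ρ g).1 1 0}

variable {ρ}

theorem mem_pts_of (g : Γ) (hg : (ρ g).1 1 0 ≠ 0) : (ρ g).1 0 0 / (ρ g).1 1 0 ∈ pts ρ :=
  ⟨g, hg, rfl⟩

theorem mem_pts_of' (g : Γ) (hg : (ρ g).1 1 0 ≠ 0) {z : E} (hz : z * (ρ g).1 1 0 = (ρ g).1 0 0) :
    z ∈ pts ρ :=
  ⟨g, hg, by rw [eq_div_iff hg]; exact hz⟩

theorem pts_finite [Finite Γ] : (pts ρ).Finite := by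
  apply Set.Finite.subset (Set.finite_range (fun g : Γ => (ρ g).1 0 0 / (ρ g).1 1 0))
  rintro z ⟨g, _, rfl⟩
  exact ⟨g, rfl⟩

theorem ncard_pts_lt_index [Finite Γ] : (pts ρ).ncard + 1 ≤ (Bg ρ).index := by
  classical
  have hfin : Finite (pts ρ) := (pts_finite (ρ := ρ)).to_subtype
  rw [Subgroup.index_eq_card, ← Nat.card_coe_set_eq, ← Finite.card_option]
  let f : Option (pts ρ) → Γ ⧸ Bg ρ := fun o =>
    match o with
    | none => ((1 : Γ) : Γ ⧸ Bg ρ)
    | some z => ((Classical.choose z.2 : Γ) : Γ ⧸ Bg ρ)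
  apply Nat.card_le_card_of_injective f
  have hspec : ∀ z : pts ρ, (ρ (Classical.choose z.2)).1 1 0 ≠ 0 ∧
      z.1 = (ρ (Classical.choose z.2)).1 0 0 / (ρ (Classical.choose z.2)).1 1 0 :=
    fun z => Classical.choose_spec z.2
  have hnone : ∀ z : pts ρ, f none ≠ f (some z) := by
    intro z hEq
    have h1 : ((1 : Γ) : Γ ⧸ Bg ρ) = ((Classical.choose z.2 : Γ) : Γ ⧸ Bg ρ) := hEq
    rw [QuotientGroup.eq, inv_one, one_mul, mem_Bg, mem_BB] at h1
    exact (hspec z).1 h1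
  intro o o' hoo
  cases o with
  | none =>
    cases o' with
    | none => rfl
    | some z' => exact absurd hoo (hnone z')
  | some z =>
    cases o' with
    | none => exact absurd hoo.symm (hnone z)
    | some z' =>
      have h1 : ((Classical.choose z.2 : Γ) : Γ ⧸ Bg ρ) = ((Classical.choose z'.2 : Γ) : Γ ⧸ Bg ρ) := hoo
      rw [QuotientGroup.eq, mem_Bg, mem_BB, map_mul, map_inv, mul_10, inv_10, inv_11] at h1
      obtain ⟨hg, hz⟩ := hspec z
      obtain ⟨hg', hz'⟩ := hspec z'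
      congr 1
      apply Subtype.ext
      rw [hz, hz', div_eq_div_iff hg hg']
      linear_combination h1

/-- translation by an element of `U ∩ Γ` -/
theorem add_mem_pts {z : E} (hz : z ∈ pts ρ) {u : Γ} {s : E} (hu : ρ u = uU s) : z + s ∈ pts ρ := by
  obtain ⟨g, hg, rfl⟩ := hz
  have h10 : (ρ (u * g)).1 1 0 = (ρ g).1 1 0 := by
    rw [map_mul, mul_10, hu]; simp [uU]
  have h00 : (ρ (u * g)).1 0 0 = (ρ g).1 0 0 + s * (ρ g).1 1 0 := by
    rw [map_mul, mul_00, hu]; simp [uU]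
  refine ⟨u * g, by rw [h10]; exact hg, ?_⟩
  rw [h10, h00]
  field_simp

theorem eq_uU_of_mem_UU {g : SL2} (hg : g ∈ (UU : Subgroup SL2)) : g = uU (g.1 0 1) := by
  apply ext'
  · rw [hg.2.1]; simp [uU]
  · simp [uU]
  · rw [hg.1]; simp [uU]
  · rw [hg.2.2]; simp [uU]

end Cfsg.Agent.Helper52.DicksonPts
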