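import Mathlib
import Cfsg.Agent.Helper46.DkNum
import Cfsg.Agent.Helper52.DicksonPts

set_option autoImplicit false

/-!
# A finite subgroup of `SL₂(E)` (odd characteristic `p`) with a non-normal unipotent class
contains a copy of `SL₂(𝔽_p)`
-/

namespace Cfsg.Agent.Helper52.DicksonSub

open Matrix Cfsg.Agent.Helper46.Dk Cfsg.Agent.Helper46.IsCA Cfsg.Agent.Helper52.SL2Prime
  Cfsg.Agent.Helper52.DicksonPts

variable {E : Type*} [Field E]

local notation "SL2" => Matrix.SpecialLinearGroup (Fin 2) E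

variable {Γ : Type*} [Group Γ] {ρ : Γ →* Matrix.SpecialLinearGroup (Fin 2) E}

theorem uU_inv (s : E) : (uU s : SL2)⁻¹ = uU (-s) := by
  apply inv_eq_of_mul_eq_one_right
  rw [uU_mul, add_neg_cancel, uU_zero]

theorem vV_inv (s : E) : (vV s : SL2)⁻¹ = vV (-s) := by
  apply inv_eq_of_mul_eq_one_right
  rw [vV_mul, add_neg_cancel, vV_zero]

/-- **General pair lemma**: `ρ u = U(a)` and `ρ w` unipotent with `a * (ρ w)₁₀` a nonzero element
of the prime field. -/
theorem exists_sl2p_of_unipotent_pair (p : ℕ) [Fact p.Prime] [CharP E p]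
    (hinj : Function.Injective ρ) (u w : Γ) (a : E) (hu : ρ u = uU a)
    (htr : (ρ w).1 0 0 + (ρ w).1 1 1 = 2) (c : ZMod p) (hc : c ≠ 0)
    (hac : a * (ρ w).1 1 0 = iota p c) :
    ∃ K : Subgroup Γ, Nonempty (K ≃* Matrix.SpecialLinearGroup (Fin 2) (ZMod p)) := by
  set z := (ρ w).1 1 0 with hz
  have hz0 : z ≠ 0 := by
    intro h0
    rw [h0, mul_zero] at hac
    exact hc (iota_injective p (by rw [← hac, map_zero]))
  set s := ((ρ w).1 1 1 - 1) / z with hs
  have hdet := det' (ρ w)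
  have hu' : conjRep ρ (uU s) u = uU a := by
    rw [conjRep_apply, hu, uU_inv, uU_mul, uU_mul]
    congr 1; ring
  have hw' : conjRep ρ (uU s) w = vV z := by
    rw [conjRep_apply]
    have hsz : s * z = (ρ w).1 1 1 - 1 := by rw [hs]; field_simp
    have h11 : (uU s * ρ w * (uU s)⁻¹).1 1 1 = 1 := by
      rw [conj_11]; simp only [uU, mk4_00, mk4_01, mk4_10, mk4_11]
      linear_combination (-1 : E) * hsz
    have h00 : (uU s * ρ w * (uU s)⁻¹).1 0 0 = 1 := by
      rw [conj_00]; simp only [uU, mk4_00, mk4_01, mk4_10, mk4_11]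
      linear_combination hsz + htr
    have h10 : (uU s * ρ w * (uU s)⁻¹).1 1 0 = z := by
      rw [conj_10]; simp only [uU, mk4_00, mk4_01, mk4_10, mk4_11]
      ring
    have hd := det' (uU s * ρ w * (uU s)⁻¹)
    rw [h00, h11, h10] at hd
    have h01 : (uU s * ρ w * (uU s)⁻¹).1 0 1 = 0 := by
      have : (uU s * ρ w * (uU s)⁻¹).1 0 1 * z = 0 := by linear_combination (-1 : E) * hd
      rcases mul_eq_zero.1 this with h | h
      · exact h
      · exact absurd h hz0
    apply ext'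
    · rw [h00]; simp [vV]
    · rw [h01]; simp [vV]
    · rw [h10]; simp [vV]
    · rw [h11]; simp [vV]
  exact exists_sl2p_of_pair p (conjRep ρ (uU s)) (conjRep_injective ρ _ hinj) u w a z hu' hw' c hc hac


/-- points coming from powers of a lower unipotent element -/
theorem inv_mem_pts_of_vV {v : Γ} {lam : E} (hv : ρ v = vV lam) (n : ℕ) (hn : (n : E) * lam ≠ 0) :
    ((n : E) * lam)⁻¹ ∈ pts ρ := by
  have h1 : ρ (v ^ n) = vV ((n : E) * lam) := by rw [map_pow, hv, vV_pow]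
  apply mem_pts_of' (v ^ n)
  · rw [h1]; simpa [vV] using hn
  · rw [h1]; simp only [vV, mk4_00, mk4_10]; exact inv_mul_cancel₀ hn

/-- translation by powers of an upper unipotent element -/
theorem add_nat_mul_mem_pts {u : Γ} {a : E} (hu : ρ u = uU a) {z : E} (hz : z ∈ pts ρ) (n : ℕ) :
    (n : E) * a + z ∈ pts ρ := by
  have h1 : ρ (u ^ n) = uU ((n : E) * a) := by rw [map_pow, hu, uU_pow]
  have := add_mem_pts hz h1
  rwa [add_comm] at this

/-- the case of a doubly transitive orbit -/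
theorem exists_sl2p_of_m_one [Finite Γ] (p : ℕ) [Fact p.Prime] [CharP E p]
    (hinj : Function.Injective ρ) (h : Γ) (h00 : (ρ h).1 0 0 = 0) (h10 : (ρ h).1 1 0 ≠ 0)
    (v : Γ) (lam : E) (hlam : lam ≠ 0) (hv : ρ v = vV lam)
    (hidx : (Bg ρ).index = 1 + Nat.card (Qg ρ)) :
    ∃ K : Subgroup Γ, Nonempty (K ≃* Matrix.SpecialLinearGroup (Fin 2) (ZMod p)) := by
  have hbound : (pts ρ).ncard ≤ Nat.card (Qg ρ) := by
    have := ncard_pts_lt_index (ρ := ρ); omega
  have h0pts : (0 : E) ∈ pts ρ := mem_pts_of' h h10 (by rw [zero_mul, h00])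
  set A' : Set E := (fun u : Qg ρ => (ρ u.1).1 0 1) '' Set.univ with hA'
  have hA'card : A'.ncard = Nat.card (Qg ρ) := by
    rw [hA', Set.ncard_image_of_injective, Set.ncard_univ]
    intro u u' huu'
    apply Subtype.ext; apply hinj
    rw [eq_uU_of_mem_UU u.2, eq_uU_of_mem_UU u'.2]
    exact congrArg uU huu'
  have hA'sub : A' ⊆ pts ρ := by
    rintro z ⟨u, -, rfl⟩
    have := add_mem_pts h0pts (eq_uU_of_mem_UU u.2)
    rwa [zero_add] at this
  have hEq : A' = pts ρ :=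
    Set.eq_of_subset_of_ncard_le hA'sub (by rw [hA'card]; exact hbound) pts_finite
  have hvpts : lam⁻¹ ∈ pts ρ := by
    have := inv_mem_pts_of_vV hv 1 (by rw [Nat.cast_one, one_mul]; exact hlam)
    rwa [Nat.cast_one, one_mul] at this
  rw [← hEq] at hvpts
  obtain ⟨u₁, -, hu₁⟩ := hvpts
  have hρu₁ : ρ u₁.1 = uU lam⁻¹ := by
    rw [eq_uU_of_mem_UU u₁.2]; exact congrArg uU hu₁
  exact exists_sl2p_of_pair p ρ hinj u₁.1 v lam⁻¹ lam hρu₁ hv 1 one_ne_zero
    (by rw [inv_mul_cancel₀ hlam, map_one])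


theorem iota_eq_val (p : ℕ) [Fact p.Prime] [CharP E p] (j : ZMod p) :
    iota (E := E) p j = ((j.val : ℕ) : E) := by
  rw [← iota_natCast p j.val, ZMod.natCast_zmod_val]

/-- the exceptional case: characteristic `3` and ten Sylow `3`-subgroups -/
theorem exists_sl2p_of_m_three [Finite Γ] [Fact (Nat.Prime 3)] [CharP E 3]
    (hinj : Function.Injective ρ) (h : Γ) (h00 : (ρ h).1 0 0 = 0) (h10 : (ρ h).1 1 0 ≠ 0)
    (u₀ : Γ) (a : E) (ha : a ≠ 0) (hu₀ : ρ u₀ = uU a)
    (v : Γ) (lam : E) (hlam : lam ≠ 0) (hv : ρ v = vV lam)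
    (hidx : (Bg ρ).index = 1 + 3 * 3) :
    ∃ K : Subgroup Γ, Nonempty (K ≃* Matrix.SpecialLinearGroup (Fin 2) (ZMod 3)) := by
  obtain ⟨t, ht⟩ : ∃ t : E, t = a * lam := ⟨_, rfl⟩
  by_cases hex : ∃ c : ZMod 3, c ≠ 0 ∧ t = iota 3 c
  · obtain ⟨c, hc, htc⟩ := hex
    exact exists_sl2p_of_pair 3 ρ hinj u₀ v a lam hu₀ hv c hc (by rw [← ht, htc])
  push Not at hex
  have h3 : (3 : E) = 0 := by exact_mod_cast CharP.cast_eq_zero E 3
  have ht0 : t ≠ 0 := by rw [ht]; exact mul_ne_zero ha hlam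
  have ht1 : t ≠ 1 := by
    have := hex 1 one_ne_zero
    rwa [map_one] at this
  have ht2 : t ≠ -1 := by
    have := hex (-1) (neg_ne_zero.2 one_ne_zero)
    rwa [map_neg, map_one] at this
  have hT : t + 1 ≠ 0 := fun h0 => ht2 (eq_neg_of_add_eq_zero_left h0)
  have hbound : (pts ρ).ncard ≤ 9 := by
    have := ncard_pts_lt_index (ρ := ρ); omega
  have h0pts : (0 : E) ∈ pts ρ := mem_pts_of' h h10 (by rw [zero_mul, h00])
  have hL : lam * lam⁻¹ = 1 := mul_inv_cancel₀ hlam
  -- the nine points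
  set f : ZMod 3 × ZMod 3 → E := fun jk => iota 3 jk.1 * a + iota 3 jk.2 * lam⁻¹ with hf
  have hfinj : Function.Injective f := by
    rintro ⟨j, k⟩ ⟨j', k'⟩ hjk
    have hjk' : iota 3 j * a + iota 3 k * lam⁻¹ = iota 3 j' * a + iota 3 k' * lam⁻¹ := hjk
    have e : iota 3 (j - j') * t + iota (E := E) 3 (k - k') = 0 := by
      rw [map_sub, map_sub, ht]
      linear_combination lam * hjk' - (iota 3 k - iota 3 k') * hL
    by_cases hJ : j - j' = 0
    · rw [hJ, map_zero, zero_mul, zero_add] at e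
      have hK : k - k' = 0 := iota_injective 3 (by rw [e, map_zero])
      rw [sub_eq_zero] at hJ hK
      rw [hJ, hK]
    · exfalso
      have hιJ : iota (E := E) 3 (j - j') ≠ 0 := by
        intro h0; exact hJ (iota_injective 3 (by rw [h0, map_zero]))
      have htc : t = iota 3 (-(k - k') / (j - j')) := by
        rw [map_div₀, map_neg, eq_div_iff hιJ]
        linear_combination e
      by_cases hc : -(k - k') / (j - j') = 0
      · rw [hc, map_zero] at htc; exact ht0 htc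
      · exact hex _ hc htc
  set M : Set E := f '' Set.univ with hM
  have hMcard : M.ncard = 9 := by
    rw [hM, Set.ncard_image_of_injective _ hfinj, Set.ncard_univ, Nat.card_prod, Nat.card_zmod]
  have hMsub : M ⊆ pts ρ := by
    rintro _ ⟨⟨j, k⟩, -, rfl⟩
    show iota 3 j * a + iota 3 k * lam⁻¹ ∈ pts ρ
    have hk : iota 3 k * lam⁻¹ ∈ pts ρ := by
      by_cases hk0 : k = 0
      · rw [hk0, map_zero, zero_mul]; exact h0pts
      · have hne : iota (E := E) 3 k⁻¹ ≠ 0 := by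
          intro h0; exact inv_ne_zero hk0 (iota_injective 3 (by rw [h0, map_zero]))
        have := inv_mem_pts_of_vV hv (k⁻¹).val (by
          rw [← iota_eq_val]; exact mul_ne_zero hne hlam)
        rw [← iota_eq_val, mul_inv, ← map_inv₀, inv_inv] at this
        exact this
    have := add_nat_mul_mem_pts hu₀ hk j.val
    rwa [← iota_eq_val] at this
  have hEq : M = pts ρ :=
    Set.eq_of_subset_of_ncard_le hMsub (by rw [hMcard]; exact hbound) pts_finite
  -- a tenth point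
  have hγ := h10
  have hstar : a / (t + 1) ∈ pts ρ := by
    have e00 : (ρ (v * u₀ * h)).1 0 0 = a * (ρ h).1 1 0 := by
      rw [map_mul, map_mul, hv, hu₀, mul_00, mul_00, mul_01]
      simp only [uU, vV, mk4_00, mk4_01, mk4_10, mk4_11, h00]
      ring
    have e10 : (ρ (v * u₀ * h)).1 1 0 = (t + 1) * (ρ h).1 1 0 := by
      rw [map_mul, map_mul, hv, hu₀, mul_10, mul_10, mul_11]
      simp only [uU, vV, mk4_00, mk4_01, mk4_10, mk4_11, h00, ht]
      ring
    apply mem_pts_of' (v * u₀ * h)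
    · rw [e10]; exact mul_ne_zero hT hγ
    · rw [e00, e10]; field_simp
  rw [← hEq] at hstar
  obtain ⟨⟨j, k⟩, -, hjk⟩ := hstar
  have hjk' : (iota 3 j * a + iota 3 k * lam⁻¹) * (t + 1) = a := by
    have : f (j, k) = iota 3 j * a + iota 3 k * lam⁻¹ := rfl
    rw [← this, hjk]; field_simp
  have key : (iota 3 j * t + iota 3 k) * (t + 1) = t := by
    rw [ht] at hjk' ⊢
    linear_combination lam * hjk' - iota 3 k * (a * lam + 1) * hL
  rw [iota_eq_val, iota_eq_val] at key
  have hjlt := ZMod.val_lt j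
  have hklt := ZMod.val_lt k
  -- unipotent conjugates
  have hconjU : ∀ g : Γ, (ρ (g * u₀ * g⁻¹)).1 0 0 + (ρ (g * u₀ * g⁻¹)).1 1 1 = 2 ∧
      (ρ (g * u₀ * g⁻¹)).1 1 0 = -(a * (ρ g).1 1 0 ^ 2) := by
    intro g
    rw [map_mul, map_mul, map_inv, hu₀]
    refine ⟨?_, ?_⟩
    · have := tr_conj (ρ g) (uU a)
      unfold tr at this
      rw [this]; simp only [uU, mk4_00, mk4_11]; norm_num
    · rw [conj_10]; simp only [uU, mk4_00, mk4_01, mk4_10, mk4_11]; ring
  have hconjV : ∀ g : Γ, (ρ (g * v * g⁻¹)).1 0 0 + (ρ (g * v * g⁻¹)).1 1 1 = 2 ∧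
      (ρ (g * v * g⁻¹)).1 1 0 = lam * (ρ g).1 1 1 ^ 2 := by
    intro g
    rw [map_mul, map_mul, map_inv, hv]
    refine ⟨?_, ?_⟩
    · have := tr_conj (ρ g) (vV lam)
      unfold tr at this
      rw [this]; simp only [vV, mk4_00, mk4_11]; norm_num
    · rw [conj_10]; simp only [vV, mk4_00, mk4_01, mk4_10, mk4_11]; ring
  generalize j.val = nj at key hjlt
  generalize k.val = nk at key hklt
  interval_cases nj <;> interval_cases nk
  · -- (0,0)
    exfalso; apply ht0; linear_combination -key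
  · -- (0,1)
    exfalso; apply one_ne_zero (α := E); linear_combination key
  · -- (0,2)
    exfalso; apply ht1; push_cast at key; linear_combination key - h3
  · -- (1,0)
    exfalso; apply ht0
    have : t ^ 2 = 0 := by push_cast at key; linear_combination key
    exact pow_eq_zero_iff (two_ne_zero) |>.1 this
  · -- (1,1)
    exfalso; apply ht1
    have : (t - 1) ^ 2 = 0 := by push_cast at key; linear_combination key - t * h3
    exact sub_eq_zero.1 (pow_eq_zero_iff (two_ne_zero) |>.1 this)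
  · -- (1,2): t^2 = t + 1
    have hs : t ^ 2 = t + 1 := by push_cast at key; linear_combination key - (t + 1) * h3
    obtain ⟨htr, h10w⟩ := hconjU (v * u₀ * v)
    have hg10 : (ρ (v * u₀ * v)).1 1 0 = lam * (t + 2) := by
      rw [map_mul, map_mul, hv, hu₀, mul_10, mul_10, mul_11]
      simp only [uU, vV, mk4_00, mk4_01, mk4_10, mk4_11, ht]
      ring
    refine exists_sl2p_of_unipotent_pair 3 hinj u₀ _ a hu₀ htr (-1) (neg_ne_zero.2 one_ne_zero) ?_
    rw [h10w, hg10, map_neg, map_one]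
    have hs' : (a * lam) ^ 2 = a * lam + 1 := by rw [← ht]; exact hs
    rw [ht]
    linear_combination (-((a * lam) ^ 2 + 2 * (a * lam) + 1)) * hs' -
      ((a * lam) ^ 2 + 2 * (a * lam) + 1) * (a * lam) * h3
  · -- (2,0)
    exfalso; apply ht1
    have h1 : t * (2 * t + 1) = 0 := by push_cast at key; linear_combination key
    rcases mul_eq_zero.1 h1 with h | h
    · exact absurd h ht0
    · linear_combination 2 * h - t * h3 - h3
  · -- (2,1): t^2 = -t + 1
    have hs : t ^ 2 = -t + 1 := by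
      push_cast at key; linear_combination 2 * key - (t ^ 2 + t + 1) * h3
    obtain ⟨htr, h10w⟩ := hconjU (v * u₀⁻¹ * v)
    have hg10 : (ρ (v * u₀⁻¹ * v)).1 1 0 = lam * (2 - t) := by
      rw [map_mul, map_mul, map_inv, hv, hu₀, uU_inv, mul_10, mul_10, mul_11]
      simp only [uU, vV, mk4_00, mk4_01, mk4_10, mk4_11, ht]
      ring
    refine exists_sl2p_of_unipotent_pair 3 hinj u₀ _ a hu₀ htr (-1) (neg_ne_zero.2 one_ne_zero) ?_
    rw [h10w, hg10, map_neg, map_one]
    have hs' : (a * lam) ^ 2 = -(a * lam) + 1 := by rw [← ht]; exact hs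
    rw [ht]
    linear_combination (-(a * lam) ^ 2 + 2 * (a * lam) - 1) * hs' -
      (-(a * lam) ^ 2 + 2 * (a * lam) - 1) * (a * lam) * h3
  · -- (2,2): t^2 = -1
    have hs : t ^ 2 = -1 := by
      push_cast at key; linear_combination 2 * key - (t ^ 2 + 2 * t + 1) * h3
    obtain ⟨htr, h10w⟩ := hconjV (v * u₀)
    have hg11 : (ρ (v * u₀)).1 1 1 = t + 1 := by
      rw [map_mul, hv, hu₀, mul_11]
      simp only [uU, vV, mk4_01, mk4_10, mk4_11, ht]
      ring
    refine exists_sl2p_of_unipotent_pair 3 hinj u₀ _ a hu₀ htr 1 one_ne_zero ?_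
    rw [h10w, hg11, map_one]
    have hs' : (a * lam) ^ 2 = -1 := by rw [← ht]; exact hs
    rw [ht]
    linear_combination ((a * lam) + 2) * hs' - h3


theorem uniFrame_conj_UU {x₀ : Γ} (hF : UniFrame ρ x₀) {c : SL2} (hc : c ∈ (UU : Subgroup SL2)) :
    UniFrame (conjRep ρ c) x₀ := by
  have hcomm : c * ρ x₀ * c⁻¹ = ρ x₀ := by
    have := PU_commute (UU_le_PU hc) hF.mem
    rw [this]; group
  refine ⟨conjRep_injective ρ c hF.inj, ?_, ?_⟩
  · rw [conjRep_apply, hcomm]; exact hF.mem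
  · rw [conjRep_apply, hcomm]; exact hF.ne

/-- the main theorem in a normalized frame: some `h` maps `∞` to `0` -/
theorem exists_sl2p_normalized [Finite Γ] [IsAlgClosed E] (p : ℕ) [Fact p.Prime] [CharP E p]
    (hp : p ≠ 2) {x₀ : Γ} (hF : UniFrame ρ x₀) (h : Γ) (h00 : (ρ h).1 0 0 = 0) :
    ∃ K : Subgroup Γ, Nonempty (K ≃* Matrix.SpecialLinearGroup (Fin 2) (ZMod p)) := by
  have hinj := hF.inj
  obtain ⟨u₀, hu₀Q, hu₀1⟩ := hF.Qg_ne_bot p
  obtain ⟨a, ha⟩ : ∃ a : E, a = (ρ u₀).1 0 1 := ⟨_, rfl⟩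
  have hu₀ : ρ u₀ = uU a := by rw [ha]; exact eq_uU_of_mem_UU hu₀Q
  have ha0 : a ≠ 0 := by
    intro h0; apply hu₀1; apply hinj; rw [hu₀, h0, uU_zero, map_one]
  have hdet := det' (ρ h)
  have h10 : (ρ h).1 1 0 ≠ 0 := by
    intro h0; rw [h00, h0] at hdet; simp at hdet
  obtain ⟨lam, hlam⟩ : ∃ lam : E, lam = -(a * (ρ h).1 1 0 ^ 2) := ⟨_, rfl⟩
  have hlam0 : lam ≠ 0 := by
    rw [hlam]; exact neg_ne_zero.2 (mul_ne_zero ha0 (pow_ne_zero 2 h10))
  have hv : ρ (h * u₀ * h⁻¹) = vV lam := by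
    rw [map_mul, map_mul, map_inv, hu₀]
    apply ext'
    · rw [conj_00]; simp only [uU, vV, mk4_00, mk4_01, mk4_10, mk4_11, h00]
      rw [h00] at hdet; linear_combination hdet
    · rw [conj_01]; simp only [uU, vV, mk4_00, mk4_01, mk4_10, mk4_11, h00]
      ring
    · rw [conj_10]; simp only [uU, vV, mk4_00, mk4_01, mk4_10, mk4_11, hlam]
      ring
    · rw [conj_11]; simp only [uU, vV, mk4_00, mk4_01, mk4_10, mk4_11, h00]
      rw [h00] at hdet; linear_combination hdet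
  obtain ⟨m, hm, hcases⟩ := hF.num p
  have hidx : (Bg ρ).index = 1 + m * Nat.card (Qg ρ) := by rw [← hF.aOf_eq_index, hm]
  have hpdvd := hF.prime_dvd_card_Qg p
  have hm1 : m = 1 → ∃ K : Subgroup Γ,
      Nonempty (K ≃* Matrix.SpecialLinearGroup (Fin 2) (ZMod p)) := by
    intro h1
    rw [h1, one_mul] at hidx
    exact exists_sl2p_of_m_one p hinj h h00 h10 _ lam hlam0 hv hidx
  rcases hcases with h0 | ⟨h2, -⟩ | ⟨-, -, h1⟩ | ⟨-, h1, -⟩ | ⟨h3, -, hm3, -⟩
  · -- `m = 0`
    exfalso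
    rw [h0, zero_mul, add_zero, Subgroup.index_eq_one] at hidx
    apply h10
    have : h ∈ Bg ρ := by rw [hidx]; trivial
    exact this
  · -- `p = 2`
    exfalso
    rw [h2] at hpdvd
    exact hp ((Nat.prime_dvd_prime_iff_eq Fact.out Nat.prime_two).1 hpdvd)
  · exact hm1 h1
  · exact hm1 h1
  · -- `p = 3`, ten Sylow subgroups
    rw [h3] at hpdvd
    obtain rfl : p = 3 := (Nat.prime_dvd_prime_iff_eq Fact.out Nat.prime_three).1 hpdvd
    rw [h3, hm3] at hidx
    exact exists_sl2p_of_m_three hinj h h00 h10 u₀ a ha0 hu₀ _ lam hlam0 hv hidx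

/-- **Main theorem**: a finite group `Γ` embedded in `SL₂(E)` (`E` algebraically closed of odd
characteristic `p`) with a unipotent frame and not contained in the Borel subgroup contains a copy
of `SL₂(𝔽_p)`. -/
theorem exists_sl2p_of_uniFrame [Finite Γ] [IsAlgClosed E] (p : ℕ) [Fact p.Prime] [CharP E p]
    (hp : p ≠ 2) {x₀ : Γ} (hF : UniFrame ρ x₀) (hB : Bg ρ ≠ ⊤) :
    ∃ K : Subgroup Γ, Nonempty (K ≃* Matrix.SpecialLinearGroup (Fin 2) (ZMod p)) := by
  obtain ⟨h, hh⟩ : ∃ h : Γ, h ∉ Bg ρ := by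
    by_contra hcon
    push Not at hcon
    exact hB (eq_top_iff.2 fun g _ => hcon g)
  have h10 : (ρ h).1 1 0 ≠ 0 := hh
  set c : SL2 := uU (-((ρ h).1 0 0 / (ρ h).1 1 0)) with hc
  have hF' := uniFrame_conj_UU hF (uU_mem_UU (-((ρ h).1 0 0 / (ρ h).1 1 0)))
  apply exists_sl2p_normalized p hp hF' h
  rw [conjRep_apply, conj_00]
  simp only [uU, mk4_00, mk4_01, mk4_10, mk4_11]
  field_simp
  ring


/-- `p`-elements of the Borel subgroup are unipotent -/
theorem mem_UU_of_pow_char (p : ℕ) [Fact p.Prime] [CharP E p] {g : SL2}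
    (hg : g ∈ (BB : Subgroup SL2)) (k : ℕ) (hgp : g ^ (p ^ k) = 1) : g ∈ (UU : Subgroup SL2) := by
  apply mem_UU_of_BB_of_eq_one hg
  have h1 : (chiBB ⟨g, hg⟩) ^ (p ^ k) = 1 := by
    rw [← map_pow]
    have : (⟨g, hg⟩ : ↥(BB : Subgroup SL2)) ^ (p ^ k) = 1 := Subtype.ext (by
      rw [Subgroup.coe_pow, Subgroup.coe_one]; exact hgp)
    rw [this, map_one]
  have h2 : (g.1 0 0) ^ (p ^ k) = 1 := by
    have := congrArg (fun u : Eˣ => (u : E)) h1
    simpa [chiBB_val] using this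
  have h3 : (g.1 0 0 - 1) ^ (p ^ k) = 0 := by
    rw [sub_pow_char_pow, h2, one_pow, sub_self]
  exact sub_eq_zero.1 (pow_eq_zero_iff (pow_ne_zero k (Fact.out : p.Prime).ne_zero) |>.1 h3)

/-- **Abstract form of Dickson's lemma**: a finite group embedded in `SL₂(E)`, `E` algebraically
closed of odd characteristic `p`, with more than one Sylow `p`-subgroup contains `SL₂(𝔽_p)`. -/
theorem exists_sl2p_of_sylow [Finite Γ] [IsAlgClosed E] (p : ℕ) [Fact p.Prime] [CharP E p]
    (hp : p ≠ 2) (hinj : Function.Injective ρ) (hS : 1 < Nat.card (Sylow p Γ)) :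
    ∃ K : Subgroup Γ, Nonempty (K ≃* Matrix.SpecialLinearGroup (Fin 2) (ZMod p)) := by
  have hpdvd : p ∣ Nat.card Γ := by
    by_contra hnd
    have hsub : Subsingleton (Sylow p Γ) := by
      refine ⟨fun P Q => ?_⟩
      have hP : Nat.card P = 1 := by
        rw [Sylow.card_eq_multiplicity, Nat.factorization_eq_zero_of_not_dvd hnd, pow_zero]
      have hQ : Nat.card Q = 1 := by
        rw [Sylow.card_eq_multiplicity, Nat.factorization_eq_zero_of_not_dvd hnd, pow_zero]
      apply Sylow.ext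
      rw [Subgroup.card_eq_one.1 hP, Subgroup.card_eq_one.1 hQ]
    have := Finite.card_le_one_iff_subsingleton.2 hsub
    omega
  obtain ⟨x₀, hx₀⟩ := exists_prime_orderOf_dvd_card' p hpdvd
  obtain ⟨c, hc⟩ := exists_conj_mem_BB (ρ x₀)
  have hinj' := conjRep_injective ρ c hinj
  have hx₀p : (conjRep ρ c x₀) ^ (p ^ 1) = 1 := by
    rw [pow_one, ← map_pow, ← hx₀, pow_orderOf_eq_one, map_one]
  have hUU : conjRep ρ c x₀ ∈ (UU : Subgroup SL2) :=
    mem_UU_of_pow_char p (by rw [conjRep_apply]; exact hc) 1 hx₀p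
  have hF : UniFrame (conjRep ρ c) x₀ := by
    refine ⟨hinj', UU_le_PU hUU, ?_⟩
    intro h0
    have h1 : conjRep ρ c x₀ = 1 := by rw [eq_uU_of_mem_UU hUU, h0, uU_zero]
    have h2 : x₀ = 1 := hinj' (by rw [h1, map_one])
    rw [h2, orderOf_one] at hx₀
    exact (Fact.out : p.Prime).one_lt.ne hx₀
  apply exists_sl2p_of_uniFrame p hp hF
  intro hB
  have hall : ∀ P : Sylow p Γ, (P : Subgroup Γ) = Qg (conjRep ρ c) := by
    intro P
    have hle : (P : Subgroup Γ) ≤ Qg (conjRep ρ c) := by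
      intro g hg
      obtain ⟨k, hk⟩ := P.2 ⟨g, hg⟩
      have hk' : g ^ (p ^ k) = 1 := by
        have := congrArg Subtype.val hk
        simpa using this
      have hgB : conjRep ρ c g ∈ (BB : Subgroup SL2) := by
        have : g ∈ Bg (conjRep ρ c) := by rw [hB]; trivial
        exact this
      rw [mem_Qg]
      exact mem_UU_of_pow_char p hgB k (by rw [← map_pow, hk', map_one])
    exact (P.is_maximal' (isPGroup_Qg hinj' p) hle).symm
  have hsub : Subsingleton (Sylow p Γ) :=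
    ⟨fun P Q => Sylow.ext (by rw [hall P, hall Q])⟩
  have := Finite.card_le_one_iff_subsingleton.2 hsub
  omega

end Cfsg.Agent.Helper52.DicksonSub
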