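import Mathlib

/-!
# Piece (TDa) for helper99's S2362: a non-trivial unipotent isometry of a non-degenerate ternary
quadratic space is regular, i.e. `(Y - 1) ^ 2 ≠ 0`.

Proof: put `N = Y - 1` and assume `N ^ 2 = 0`.  The isometry condition gives
`B(Nx, y) + B(x, Ny) + B(Nx, Ny) = 0`; substituting `y ↦ N y` gives `B(Nx, Ny) = 0`, hence `N` is
skew-adjoint and `B(x, Nx) = 0`.  As `range N ≤ ker N` and the dimension is `3`, `range N` is a
line `F a`, `a = N x₀`; then `B(a, y) = -B(x₀, N y) = -λ B(x₀, N x₀) = 0` for all `y`, so `a = 0`.
-/

set_option autoImplicit false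

namespace Cfsg.Agent.Helper52.BC

open Module

section ThreeD

variable {F : Type*} [Field F] {U : Type*} [AddCommGroup U] [Module F U] [FiniteDimensional F U]

/-- (TDa) a non-trivial unipotent isometry of a ternary space is regular -/
theorem sq_ne_zero_of_isometry (Q : QuadraticForm F U) (hU : finrank F U = 3) (h2 : (2 : F) ≠ 0)
    (hnd : ∀ x : U, (∀ y, QuadraticMap.polar Q x y = 0) → x = 0)
    (Y : Module.End F U) (hY : ∀ x, Q (Y x) = Q x) (hY1 : Y ≠ 1) : (Y - 1) ^ 2 ≠ 0 := by
  intro hsq
  set N : Module.End F U := Y - 1 with hN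
  have hNN : ∀ x, N (N x) = 0 := by
    intro x
    have := congrArg (fun T : Module.End F U => T x) hsq
    simpa [pow_succ, Module.End.mul_apply] using this
  have hYN : ∀ x, Y x = x + N x := by
    intro x
    simp [hN]
  -- the polar form
  have hB : ∀ x y, QuadraticMap.polar Q (Y x) (Y y) = QuadraticMap.polar Q x y := by
    intro x y
    simp only [QuadraticMap.polar, ← map_add, hY]
  -- the basic identity
  have hstar : ∀ x y, QuadraticMap.polar Q (N x) y + QuadraticMap.polar Q x (N y) +
      QuadraticMap.polar Q (N x) (N y) = 0 := by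
    intro x y
    have := hB x y
    rw [hYN, hYN, QuadraticMap.polar_add_left, QuadraticMap.polar_add_right,
      QuadraticMap.polar_add_right] at this
    linear_combination this
  have hiso : ∀ x y, QuadraticMap.polar Q (N x) (N y) = 0 := by
    intro x y
    have := hstar x (N y)
    rw [hNN] at this
    simpa using this
  have hskew : ∀ x y, QuadraticMap.polar Q (N x) y = - QuadraticMap.polar Q x (N y) := by
    intro x y
    have := hstar x y
    rw [hiso] at this
    linear_combination this
  have halt : ∀ x, QuadraticMap.polar Q x (N x) = 0 := by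
    intro x
    have h1 := hskew x x
    rw [QuadraticMap.polar_comm] at h1
    have h3 : (2 : F) * QuadraticMap.polar Q x (N x) = 0 := by linear_combination h1
    rcases mul_eq_zero.mp h3 with h | h
    · exact absurd h h2
    · exact h
  -- a nonzero vector in the range
  obtain ⟨x0, hx0⟩ : ∃ x0 : U, N x0 ≠ 0 := by
    by_contra hcon
    push Not at hcon
    apply hY1
    ext x
    have := hcon x
    rw [hN] at this
    simpa [sub_eq_zero] using this
  -- the range is a line
  have hle : LinearMap.range N ≤ LinearMap.ker N := by
    rintro _ ⟨x, rfl⟩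
    exact LinearMap.mem_ker.mpr (hNN x)
  have hrk := LinearMap.finrank_range_add_finrank_ker N
  have hmono := Submodule.finrank_mono hle
  have hpos : 0 < finrank F (LinearMap.range N) := by
    rw [Module.finrank_pos_iff_exists_ne_zero (R := F)]
    exact ⟨⟨N x0, LinearMap.mem_range_self N x0⟩, fun h => hx0 (by simpa using congrArg Subtype.val h)⟩
  have hone : finrank F (LinearMap.range N) = 1 := by omega
  have hgen := (finrank_eq_one_iff_of_nonzero' (⟨N x0, LinearMap.mem_range_self N x0⟩ :
    LinearMap.range N) (fun h => hx0 (by simpa using congrArg Subtype.val h))).mp hone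
  -- `N x0` is orthogonal to everything
  apply hx0
  apply hnd
  intro y
  obtain ⟨c, hc⟩ := hgen ⟨N y, LinearMap.mem_range_self N y⟩
  have hc' : c • N x0 = N y := by simpa using congrArg Subtype.val hc
  rw [hskew, ← hc', QuadraticMap.polar_smul_right, halt]
  simp

end ThreeD

end Cfsg.Agent.Helper52.BC
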