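import Mathlib

/-!
# Piece (TDb) for helper99's S2362: the commutant of a regular nilpotent operator in dimension 3
-/

set_option autoImplicit false

namespace Cfsg.Agent.Helper52.BC

open Module

section ThreeD

variable {F : Type*} [Field F] {U : Type*} [AddCommGroup U] [Module F U] [FiniteDimensional F U]

omit [FiniteDimensional F U] in
/-- `e, N e, N² e` are linearly independent when `N² e ≠ 0` and `N³ = 0`. -/
theorem linearIndependent_of_sq_ne_zero (N : Module.End F U) (hN3 : N ^ 3 = 0) (e : U)
    (he : (N ^ 2) e ≠ 0) : LinearIndependent F ![e, N e, (N ^ 2) e] := by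
  have h3 : ∀ x : U, N (N (N x)) = 0 := by
    intro x
    have := congrArg (fun T : Module.End F U => T x) hN3
    simpa [pow_succ, Module.End.mul_apply] using this
  have he' : N (N e) ≠ 0 := by
    simpa [pow_succ, Module.End.mul_apply] using he
  rw [Fintype.linearIndependent_iff]
  intro g hg
  simp only [Fin.sum_univ_three, Matrix.cons_val_zero, Matrix.cons_val_one,
    Matrix.cons_val_two, Matrix.head_cons, Matrix.tail_cons] at hg
  have hg' : g 0 • e + g 1 • N e + g 2 • N (N e) = 0 := by
    simpa [pow_succ, Module.End.mul_apply] using hg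
  -- apply N twice
  have h0 : g 0 = 0 := by
    have := congrArg (fun x => N (N x)) hg'
    simp only [map_add, map_smul, h3, map_zero, smul_zero, add_zero] at this
    rcases smul_eq_zero.mp this with h | h
    · exact h
    · exact absurd h he'
  have h1 : g 1 = 0 := by
    have := congrArg (fun x => N x) hg'
    simp only [map_add, map_smul, h3, map_zero, smul_zero, add_zero, h0, zero_smul, zero_add] at this
    rcases smul_eq_zero.mp this with h | h
    · exact h
    · exact absurd h he'
  have h2 : g 2 = 0 := by
    have := hg'
    simp only [h0, h1, zero_smul, zero_add] at this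
    rcases smul_eq_zero.mp this with h | h
    · exact h
    · exact absurd h he'
  intro i
  fin_cases i
  · exact h0
  · exact h1
  · exact h2

/-- (TDb) the commutant of a regular nilpotent operator in dimension three -/
theorem exists_coeffs_of_commute (hU : finrank F U = 3) (N S : Module.End F U)
    (hN2 : N ^ 2 ≠ 0) (hN3 : N ^ 3 = 0) (hSN : Commute S N) :
    ∃ a b c : F, S = a • (1 : Module.End F U) + b • N + c • N ^ 2 := by
  obtain ⟨e, he⟩ : ∃ e : U, (N ^ 2) e ≠ 0 := by
    by_contra hcon
    push Not at hcon
    exact hN2 (LinearMap.ext fun x => by simpa using hcon x)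
  have hli := linearIndependent_of_sq_ne_zero N hN3 e he
  have hcard : Fintype.card (Fin 3) = finrank F U := by simp [hU]
  let b := basisOfLinearIndependentOfCardEqFinrank hli hcard
  have hb : ∀ i, b i = ![e, N e, (N ^ 2) e] i := by
    intro i
    simp [b]
  obtain ⟨a, b', c, habc⟩ : ∃ a b' c : F, S e = a • e + b' • N e + c • (N ^ 2) e := by
    have hrep := b.sum_repr (S e)
    rw [Fin.sum_univ_three] at hrep
    simp only [hb, Matrix.cons_val_zero, Matrix.cons_val_one,
      Matrix.cons_val_two, Matrix.head_cons, Matrix.tail_cons] at hrep
    exact ⟨_, _, _, hrep.symm⟩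
  refine ⟨a, b', c, ?_⟩
  set T : Module.End F U := a • (1 : Module.End F U) + b' • N + c • N ^ 2 with hT
  have hTN : Commute T N := by
    rw [hT]
    refine Commute.add_left (Commute.add_left ?_ ?_) ?_
    · exact (Commute.one_left N).smul_left _
    · exact (Commute.refl N).smul_left _
    · exact ((Commute.refl N).pow_left 2).smul_left _
  have hTe : T e = S e := by
    rw [hT, habc]
    simp [LinearMap.add_apply, LinearMap.smul_apply]
  have hSN' : ∀ x, S (N x) = N (S x) := by
    intro x
    have := congrArg (fun T : Module.End F U => T x) hSN.eq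
    simpa [Module.End.mul_apply] using this
  have hTN' : ∀ x, T (N x) = N (T x) := by
    intro x
    have := congrArg (fun T : Module.End F U => T x) hTN.eq
    simpa [Module.End.mul_apply] using this
  have e0 : S e = T e := hTe.symm
  have e1 : S (N e) = T (N e) := by rw [hSN', hTN', hTe]
  have e2 : S ((N ^ 2) e) = T ((N ^ 2) e) := by
    simp only [pow_succ, pow_zero, one_mul, Module.End.mul_apply]
    rw [hSN', hSN', hTN', hTN', hTe]
  apply b.ext
  intro i
  rw [hb]
  fin_cases i
  · exact e0
  · exact e1
  · exact e2

end ThreeD

end Cfsg.Agent.Helper52.BC
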