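-- Shared lemmas (helper52): Sylow conjugacy inside a subgroup, p-groups: normal subgroups meet the centre.
import Mathlib

set_option autoImplicit false

namespace Cfsg.Agent.Helper52

open scoped Pointwise

/-- Sylow conjugacy inside a subgroup `M`: if the Sylow `p`-subgroup `P` of `G` lies in `M` and `Q ≤ M`
is a `p`-subgroup, then some `g ∈ M` conjugates `Q` into `P`. -/
theorem exists_conj_le_sylow_of_le {G : Type*} [Group G] [Finite G] {p : ℕ} [Fact p.Prime]
    (P : Sylow p G) (M Q : Subgroup G) (hPM : (P : Subgroup G) ≤ M) (hQM : Q ≤ M) (hQ : IsPGroup p Q) :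
    ∃ g ∈ M, ∀ x ∈ Q, g * x * g⁻¹ ∈ (P : Subgroup G) := by
  have hQ' : IsPGroup p (Q.subgroupOf M) := hQ.comap_subtype
  obtain ⟨S, hS⟩ := hQ'.exists_le_sylow
  obtain ⟨m, hm⟩ := MulAction.exists_smul_eq M S (P.subtype hPM)
  refine ⟨(m : G), m.2, ?_⟩
  intro x hx
  have hxS : (⟨x, hQM hx⟩ : M) ∈ (S : Subgroup M) := hS (by simpa [Subgroup.mem_subgroupOf] using hx)
  have h1 : MulAut.conj m • (⟨x, hQM hx⟩ : M) ∈ MulAut.conj m • (S : Subgroup M) :=
    Subgroup.smul_mem_pointwise_smul _ _ _ hxS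
  rw [← Sylow.coe_subgroup_smul, hm, Sylow.coe_subtype, Subgroup.mem_subgroupOf] at h1
  simpa [MulAut.smul_def] using h1

end Cfsg.Agent.Helper52
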