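import Cfsg.Agent.Helper58.PsuIo.OdDefs
import Cfsg.Agent.Helper58.PsuIo.AbsDefs
import Cfsg.Agent.Helper5.SuBN.Defs
import Cfsg.Agent.Helper35.SuBNLAM

/-!
# S2089 block I-odd (helper58 farm #15378): pieces (OAR0)/(OAR1) `exists_theta`, `exists_d_O1`
-/

set_option autoImplicit false

namespace Cfsg.Agent.Helper52.PsuIo

open Matrix
open scoped commutatorElement
open Cfsg.Agent.Helper43.PsuM
open Cfsg.Agent.Helper58.PsuIo Cfsg.Agent.Helper58.PsuIo.Od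

universe u

variable {F : Type*} [Field F] {m : ℕ} {σ : F →+* F}

section finite

variable {K : Type u} [Field K] [Fintype K] {q : ℕ} {σ : K →+* K}

/-- a generator of the multiplicative group of the field with `q²` elements. -/
theorem OAR_exists_gen (hK : Fintype.card K = q ^ 2) :
    ∃ g : K, g ≠ 0 ∧ g ^ (q ^ 2 - 1) = 1 ∧ ∀ n : ℕ, g ^ n = 1 → (q ^ 2 - 1) ∣ n := by
  classical
  obtain ⟨g, hg⟩ := IsCyclic.exists_generator (α := Kˣ)
  have hord : orderOf g = q ^ 2 - 1 := by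
    rw [orderOf_eq_card_of_forall_mem_zpowers hg, Nat.card_eq_fintype_card, Fintype.card_units, hK]
  refine ⟨(g : K), g.ne_zero, ?_, ?_⟩
  · rw [← Units.val_pow_eq_pow_val, ← hord, pow_orderOf_eq_one, Units.val_one]
  · intro n hn
    rw [← hord, ← orderOf_units]
    exact orderOf_dvd_of_pow_eq_one hn

/-- `q = k + 2` and a generator, in subtraction-free form. -/
theorem OAR_setup (hK : Fintype.card K = q ^ 2) :
    ∃ k : ℕ, q = k + 2 ∧ ∃ g : K, g ≠ 0 ∧ g ^ (k ^ 2 + 4 * k + 3) = 1 ∧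
      ∀ n : ℕ, g ^ n = 1 → (k ^ 2 + 4 * k + 3) ∣ n := by
  obtain ⟨g, hg0, hg1, hgn⟩ := OAR_exists_gen (K := K) hK
  have hq2 : 2 ≤ q := by
    have h1 := Fintype.one_lt_card (α := K)
    rw [hK] at h1
    by_contra h
    have : q = 0 ∨ q = 1 := by omega
    rcases this with rfl | rfl <;> simp at h1
  obtain ⟨k, rfl⟩ : ∃ k, q = k + 2 := ⟨q - 2, by omega⟩
  have hN : (k + 2) ^ 2 - 1 = k ^ 2 + 4 * k + 3 := by
    have : (k + 2) ^ 2 = k ^ 2 + 4 * k + 3 + 1 := by ring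
    omega
  rw [hN] at hg1 hgn
  exact ⟨k, rfl, g, hg0, hg1, hgn⟩

theorem OAR_cw (d : Fin m → K) : cw σ d = σ (∏ i, d i) * (∏ i, d i)⁻¹ := by
  unfold cw
  rw [map_prod]

theorem OAR_sigma_sigma (hK : Fintype.card K = q ^ 2) (hσq : ∀ x, σ x = x ^ q) (x : K) :
    σ (σ x) = x := by
  rw [hσq, hσq, ← pow_mul, ← sq, ← hK, FiniteField.pow_card]

/-- the vector with entries `x` at `a`, `y` at `b ≠ a` and `1` elsewhere. -/
theorem OAR_two (a b : Fin m) (hab : a ≠ b) (x y : K) (hx : x ≠ 0) (hy : y ≠ 0) :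
    ∃ d : Fin m → K, (∀ l, d l ≠ 0) ∧ d a = x ∧ d b = y ∧ (∀ l, l ≠ a → l ≠ b → d l = 1) ∧
      ∏ i, d i = x * y := by
  classical
  refine ⟨Pi.mulSingle a x * Pi.mulSingle b y, ?_, ?_, ?_, ?_, ?_⟩
  · intro l
    rw [Pi.mul_apply, Pi.mulSingle_apply, Pi.mulSingle_apply]
    split_ifs <;> simp [hx, hy]
  · rw [Pi.mul_apply, Pi.mulSingle_eq_same, Pi.mulSingle_eq_of_ne hab, mul_one]
  · rw [Pi.mul_apply, Pi.mulSingle_eq_same, Pi.mulSingle_eq_of_ne hab.symm, one_mul]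
  · intro l hla hlb
    rw [Pi.mul_apply, Pi.mulSingle_eq_of_ne hla, Pi.mulSingle_eq_of_ne hlb, one_mul]
  · simp only [Pi.mul_apply]
    rw [Finset.prod_mul_distrib, Fintype.prod_pi_mulSingle', Fintype.prod_pi_mulSingle']

/-- the vector with entry `x` at `a` and `1` elsewhere. -/
theorem OAR_one (a : Fin m) (x : K) (hx : x ≠ 0) :
    ∃ d : Fin m → K, (∀ l, d l ≠ 0) ∧ d a = x ∧ (∀ l, l ≠ a → d l = 1) ∧ ∏ i, d i = x := by
  classical
  refine ⟨Pi.mulSingle a x, ?_, ?_, ?_, ?_⟩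
  · intro l
    rw [Pi.mulSingle_apply]
    split_ifs <;> simp [hx]
  · rw [Pi.mulSingle_eq_same]
  · intro l hla
    rw [Pi.mulSingle_eq_of_ne hla]
  · rw [Fintype.prod_pi_mulSingle']

/-- (OAR0) the trace is onto. -/
theorem exists_theta (hK : Fintype.card K = q ^ 2) (hσq : ∀ x, σ x = x ^ q) :
    ∃ θ : K, θ + σ θ = 1 := by
  obtain ⟨l, hl⟩ := Cfsg.Agent.Helper35.SuBNLAM.exists_lambda (F := K) q hK
  refine ⟨-l, ?_⟩
  rw [map_neg, hσq, ← neg_add, hl, neg_neg]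

/-- (OAR1) -/
theorem exists_d_O1 (hK : Fintype.card K = q ^ 2) (hσq : ∀ x, σ x = x ^ q) (hm : 2 ≤ m)
    (i : Fin m) (r : Fin m × Fin m) :
    ∃ d : Fin m → K, (∀ l, d l ≠ 0) ∧ d r.1 * σ (d r.2) = 1 ∧ d i ≠ cw σ d := by
  classical
  obtain ⟨k, hqk, g, hg0, hg1, hgn⟩ := OAR_setup (K := K) hK
  subst hqk
  have hσσ := OAR_sigma_sigma (σ := σ) hK hσq
  have hσg0 : σ g ≠ 0 := by rw [hσq]; exact pow_ne_zero _ hg0
  -- the two-entry vector `g` at `a`, `(σ g)⁻¹` at `b`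
  have key : ∀ a b : Fin m, a ≠ b →
      ∃ d : Fin m → K, (∀ l, d l ≠ 0) ∧ d a = g ∧ d b = (σ g)⁻¹ ∧
        (∀ l, l ≠ a → l ≠ b → d l = 1) ∧ cw σ d * g ^ 2 = g ^ (2 * k + 4) := by
    intro a b hab
    obtain ⟨d, hd0, hda, hdb, hdl, hP⟩ := OAR_two a b hab g (σ g)⁻¹ hg0 (inv_ne_zero hσg0)
    refine ⟨d, hd0, hda, hdb, hdl, ?_⟩
    rw [OAR_cw, hP, map_mul, map_inv₀, hσσ]
    have : g ^ (2 * k + 4) = σ g ^ 2 := by rw [hσq, ← pow_mul]; congr 1; ring
    rw [this]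
    field_simp
  have hne1 : ∀ n : ℕ, 0 < n → n < k ^ 2 + 4 * k + 3 → g ^ n ≠ 1 := by
    intro n hn0 hn h
    have := Nat.le_of_dvd hn0 (hgn n h)
    omega
  by_cases hr : r.1 = r.2
  · -- norm-one case
    have : Nontrivial (Fin m) := Fin.nontrivial_iff_two_le.2 hm
    obtain ⟨l, hl⟩ := exists_ne i
    have hε0 : g ^ (k + 1) ≠ 0 := pow_ne_zero _ hg0
    obtain ⟨d, hd0, hdl, hdo, hP⟩ := OAR_one l (g ^ (k + 1)) hε0
    have hnorm : g ^ (k + 1) * σ (g ^ (k + 1)) = 1 := by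
      rw [hσq, ← pow_succ', ← pow_mul]
      have : (k + 1) * (k + 2 + 1) = k ^ 2 + 4 * k + 3 := by ring
      rw [this, hg1]
    refine ⟨d, hd0, ?_, ?_⟩
    · rw [← hr]
      by_cases h1 : r.1 = l
      · rw [h1, hdl, hnorm]
      · rw [hdo _ h1, map_one, mul_one]
    · rw [hdo i hl.symm, OAR_cw, hP]
      intro h
      have h2 : σ (g ^ (k + 1)) = g ^ (k + 1) := by
        have := h.symm
        rwa [mul_inv_eq_one₀ hε0] at this
      rw [hσq, ← pow_mul] at h2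
      have h3 : g ^ ((k + 1) * (k + 1)) = 1 := by
        have e : (k + 1) * (k + 2) = (k + 1) * (k + 1) + (k + 1) := by ring
        rw [e, pow_add] at h2
        exact mul_right_cancel₀ hε0 (by rw [h2, one_mul])
      exact hne1 _ (by positivity) (by nlinarith) h3
  · have hcase : ∀ d : Fin m → K, d i = g → cw σ d * g ^ 2 = g ^ (2 * k + 4) → d i ≠ cw σ d := by
      intro d hdi hcw h
      rw [← h, hdi] at hcw
      have e : g ^ (2 * k + 4) = g ^ (2 * k + 1) * (g * g ^ 2) := by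
        rw [← pow_succ', ← pow_add]
      rw [e] at hcw
      have h3 : g ^ (2 * k + 1) = 1 := by
        have hg3 : g * g ^ 2 ≠ 0 := mul_ne_zero hg0 (pow_ne_zero _ hg0)
        exact (mul_right_cancel₀ hg3 (by rw [← hcw, one_mul])).symm
      exact hne1 _ (by positivity) (by nlinarith) h3
    by_cases hi1 : i = r.1
    · obtain ⟨d, hd0, hda, hdb, hdl, hcw⟩ := key r.1 r.2 hr
      refine ⟨d, hd0, ?_, hcase d (by rw [hi1, hda]) hcw⟩
      rw [hda, hdb, map_inv₀, hσσ, mul_inv_cancel₀ hg0]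
    · by_cases hi2 : i = r.2
      · obtain ⟨d, hd0, hda, hdb, hdl, hcw⟩ := key r.2 r.1 (Ne.symm hr)
        refine ⟨d, hd0, ?_, hcase d (by rw [hi2, hda]) hcw⟩
        rw [hda, hdb, inv_mul_cancel₀ hσg0]
      · obtain ⟨d, hd0, hda, hdb, hdl, hcw⟩ := key r.1 r.2 hr
        refine ⟨d, hd0, ?_, ?_⟩
        · rw [hda, hdb, map_inv₀, hσσ, mul_inv_cancel₀ hg0]
        · rw [hdl i hi1 hi2]
          intro h
          rw [← h, one_mul] at hcw
          have e : g ^ (2 * k + 4) = g ^ (2 * k + 2) * g ^ 2 := by rw [← pow_add]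
          rw [e] at hcw
          have h3 : g ^ (2 * k + 2) = 1 := by
            have hg2 : g ^ 2 ≠ 0 := pow_ne_zero _ hg0
            exact (mul_right_cancel₀ hg2 (by rw [← hcw, one_mul])).symm
          exact hne1 _ (by positivity) (by nlinarith) h3

end finite

end Cfsg.Agent.Helper52.PsuIo
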