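import Cfsg.Agent.Helper25.FSwan.Defs
import Cfsg.Agent.Helper30.DT_TEI

/-! # Fong–Swan farm (helper25, S4440), leaf (K2a) `teich_mul` — helper52 -/

set_option autoImplicit false
set_option linter.unusedSectionVars false
set_option linter.unusedVariables false

namespace Cfsg.Agent.Helper52.FS

open Cfsg Cfsg.Agent.Helper16 Cfsg.Agent.Helper16.DT Cfsg.Agent.Helper25.FS

universe u

variable {p : ℕ} [Fact p.Prime] {M : Ideal AlgInt} [M.IsMaximal]

/-- a product of two roots of unity of order prime to `p` is one. -/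
theorem K2a_isPPrimeRoot_mul {z w : ℂ} (hz : IsPPrimeRoot p z) (hw : IsPPrimeRoot p w) :
    IsPPrimeRoot p (z * w) := by
  obtain ⟨m, hm, hzm⟩ := hz
  obtain ⟨n, hn, hwn⟩ := hw
  refine ⟨m * n, ?_, ?_⟩
  · intro h
    rcases (Nat.Prime.dvd_mul (Fact.out : p.Prime)).1 h with h | h
    · exact hm h
    · exact hn h
  · rw [mul_pow, pow_mul, hzm, one_pow, mul_comm m n, pow_mul, hwn, one_pow, one_mul]

/-- (K2a) `teich` is multiplicative: `Helper30.DT.teich_zero` if `a = 0` or `b = 0`; otherwise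
`Helper30.DT.teich_spec` gives `x`, `y`, and `Helper30.DT.teich_mk_root` for `x * y`. -/
theorem teich_mul (hpM : (p : AlgInt) ∈ M) (a b : AlgInt ⧸ M) :
    teich p M (a * b) = teich p M a * teich p M b := by
  by_cases ha : a = 0
  · subst ha
    rw [zero_mul, Cfsg.Agent.Helper30.DT.teich_zero, zero_mul]
  by_cases hb : b = 0
  · subst hb
    rw [mul_zero, Cfsg.Agent.Helper30.DT.teich_zero, mul_zero]
  obtain ⟨x, hx, hxa, hta⟩ := Cfsg.Agent.Helper30.DT.teich_spec hpM ha
  obtain ⟨y, hy, hyb, htb⟩ := Cfsg.Agent.Helper30.DT.teich_spec hpM hb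
  have hxy : IsPPrimeRoot p ((x * y : AlgInt) : ℂ) := by
    have : ((x * y : AlgInt) : ℂ) = (x : ℂ) * (y : ℂ) := by push_cast; rfl
    rw [this]
    exact K2a_isPPrimeRoot_mul hx hy
  have hmk : Ideal.Quotient.mk M (x * y) = a * b := by
    rw [map_mul, hxa, hyb]
  rw [← hmk, Cfsg.Agent.Helper30.DT.teich_mk_root hpM hxy, hta, htb]
  push_cast; rfl

end Cfsg.Agent.Helper52.FS
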