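import Cfsg.Agent.Helper25.FSwan.Defs
import Cfsg.Agent.Helper53.DT_EQI

/-! # Fong–Swan farm (helper25, S4440), leaf (K2d): the Brauer lift of Kronecker products with
block-triangular / conjugated / `1 × 1` left factors — helper52.

The three (K2g)-type facts used here are proved locally (`K2d_bfull_fromBlocks`, `K2d_bfull_conj`,
`K2d_bfull_reindex`), so this file depends only on the DT library. -/

set_option autoImplicit false
set_option linter.unusedSectionVars false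
set_option linter.unusedVariables false

namespace Cfsg.Agent.Helper52.FS

open Cfsg Cfsg.Agent.Helper16 Cfsg.Agent.Helper16.DT Cfsg.Agent.Helper25.FS

universe u

variable {p : ℕ} [Fact p.Prime] {M : Ideal AlgInt} [M.IsMaximal]

/-- local copy of (K2g) `bfull_fromBlocks`. -/
theorem K2d_bfull_fromBlocks {α β : Type*} [Fintype α] [DecidableEq α] [Fintype β] [DecidableEq β]
    (A : Matrix α α (AlgInt ⧸ M)) (X : Matrix α β (AlgInt ⧸ M)) (D : Matrix β β (AlgInt ⧸ M)) :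
    bfull p M (Matrix.fromBlocks A X 0 D) = bfull p M A + bfull p M D := by
  unfold bfull
  rw [Matrix.charpoly_fromBlocks_zero₂₁,
    Polynomial.roots_mul (mul_ne_zero A.charpoly_monic.ne_zero D.charpoly_monic.ne_zero),
    Multiset.map_add, Multiset.sum_add]

/-- local copy of (K2g) `bfull_conj`. -/
theorem K2d_bfull_conj {α β : Type*} [Fintype α] [DecidableEq α] [Fintype β] [DecidableEq β]
    (A : Matrix α α (AlgInt ⧸ M)) (P : Matrix α β (AlgInt ⧸ M)) (Q : Matrix β α (AlgInt ⧸ M))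
    (hPQ : P * Q = 1) (hQP : Q * P = 1) : bfull p M (Q * A * P) = bfull p M A := by
  have hcard : Fintype.card α = Fintype.card β := Cfsg.Agent.Helper53.DT.EQI_card_eq hPQ hQP
  have h1 := Matrix.charpoly_mul_comm' (Q * A) P
  have h2 : P * (Q * A) = A := by rw [← Matrix.mul_assoc, hPQ, Matrix.one_mul]
  rw [h2, hcard] at h1
  have h3 : (Q * A * P).charpoly = A.charpoly :=
    mul_left_cancel₀ (pow_ne_zero _ Polynomial.X_ne_zero) h1
  unfold bfull
  rw [h3]

/-- the Brauer lift is invariant under reindexing. -/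
theorem K2d_bfull_reindex {ι κ : Type*} [Fintype ι] [DecidableEq ι] [Fintype κ] [DecidableEq κ]
    (e : ι ≃ κ) (A : Matrix ι ι (AlgInt ⧸ M)) :
    bfull p M (Matrix.reindex e e A) = bfull p M A := by
  unfold bfull
  rw [Matrix.charpoly_reindex]

/-- (K2d) reindex along `Equiv.sumProdDistrib`: `(α ⊕ β) × κ ≃ (α × κ) ⊕ (β × κ)`; the reindexed matrix
is `fromBlocks (A₁ ⊗ B) (X ⊗ B) 0 (A₂ ⊗ B)`; `Matrix.charpoly_reindex`, (K2g). -/
theorem bfull_kronecker_fromBlocks {α β κ : Type*} [Fintype α] [DecidableEq α] [Fintype β]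
    [DecidableEq β] [Fintype κ] [DecidableEq κ] (A₁ : Matrix α α (AlgInt ⧸ M))
    (X : Matrix α β (AlgInt ⧸ M)) (A₂ : Matrix β β (AlgInt ⧸ M)) (B : Matrix κ κ (AlgInt ⧸ M)) :
    bfull p M (Matrix.kroneckerMap (· * ·) (Matrix.fromBlocks A₁ X 0 A₂) B) =
      bfull p M (Matrix.kroneckerMap (· * ·) A₁ B) + bfull p M (Matrix.kroneckerMap (· * ·) A₂ B) := by
  have hre : Matrix.reindex (Equiv.sumProdDistrib α β κ) (Equiv.sumProdDistrib α β κ)
      (Matrix.kroneckerMap (· * ·) (Matrix.fromBlocks A₁ X 0 A₂) B) =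
      Matrix.fromBlocks (Matrix.kroneckerMap (· * ·) A₁ B) (Matrix.kroneckerMap (· * ·) X B) 0
        (Matrix.kroneckerMap (· * ·) A₂ B) := by
    ext (⟨a, k⟩ | ⟨b, k⟩) (⟨a', k'⟩ | ⟨b', k'⟩) <;>
      simp [Matrix.reindex_apply, Matrix.submatrix_apply, Matrix.kroneckerMap_apply]
  rw [← K2d_bfull_reindex (Equiv.sumProdDistrib α β κ), hre, K2d_bfull_fromBlocks]

/-- (K2d) `(Q ⊗ 1) * (A ⊗ B) * (P ⊗ 1) = (Q * A * P) ⊗ B` (`Matrix.mul_kronecker_mul`), then (K2g)
`bfull_conj`. -/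
theorem bfull_kronecker_conj {α β κ : Type*} [Fintype α] [DecidableEq α] [Fintype β]
    [DecidableEq β] [Fintype κ] [DecidableEq κ] (A : Matrix α α (AlgInt ⧸ M))
    (P : Matrix α β (AlgInt ⧸ M)) (Q : Matrix β α (AlgInt ⧸ M)) (hPQ : P * Q = 1) (hQP : Q * P = 1)
    (B : Matrix κ κ (AlgInt ⧸ M)) :
    bfull p M (Matrix.kroneckerMap (· * ·) (Q * A * P) B) =
      bfull p M (Matrix.kroneckerMap (· * ·) A B) := by
  have h1 := Matrix.mul_kronecker_mul (Q * A) P B (1 : Matrix κ κ (AlgInt ⧸ M))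
  have h2 := Matrix.mul_kronecker_mul Q A (1 : Matrix κ κ (AlgInt ⧸ M)) B
  rw [Matrix.mul_one] at h1
  rw [Matrix.one_mul] at h2
  have hP : Matrix.kroneckerMap (· * ·) P (1 : Matrix κ κ (AlgInt ⧸ M)) *
      Matrix.kroneckerMap (· * ·) Q (1 : Matrix κ κ (AlgInt ⧸ M)) = 1 := by
    have := Matrix.mul_kronecker_mul P Q (1 : Matrix κ κ (AlgInt ⧸ M)) (1 : Matrix κ κ (AlgInt ⧸ M))
    rw [hPQ, Matrix.mul_one, Matrix.one_kronecker_one] at this
    exact this.symm
  have hQ : Matrix.kroneckerMap (· * ·) Q (1 : Matrix κ κ (AlgInt ⧸ M)) *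
      Matrix.kroneckerMap (· * ·) P (1 : Matrix κ κ (AlgInt ⧸ M)) = 1 := by
    have := Matrix.mul_kronecker_mul Q P (1 : Matrix κ κ (AlgInt ⧸ M)) (1 : Matrix κ κ (AlgInt ⧸ M))
    rw [hQP, Matrix.mul_one, Matrix.one_kronecker_one] at this
    exact this.symm
  have h3 : Matrix.kroneckerMap (· * ·) (Q * A * P) B =
      Matrix.kroneckerMap (· * ·) Q (1 : Matrix κ κ (AlgInt ⧸ M)) *
        Matrix.kroneckerMap (· * ·) A B *
        Matrix.kroneckerMap (· * ·) P (1 : Matrix κ κ (AlgInt ⧸ M)) := by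
    have h1' : Matrix.kroneckerMap (· * ·) (Q * A * P) B =
        Matrix.kroneckerMap (· * ·) (Q * A) B *
          Matrix.kroneckerMap (· * ·) P (1 : Matrix κ κ (AlgInt ⧸ M)) := h1
    have h2' : Matrix.kroneckerMap (· * ·) (Q * A) B =
        Matrix.kroneckerMap (· * ·) Q (1 : Matrix κ κ (AlgInt ⧸ M)) *
          Matrix.kroneckerMap (· * ·) A B := h2
    rw [h1', h2']
  rw [h3]
  exact K2d_bfull_conj _ _ _ hP hQ

/-- (K2d) reindex along `Equiv.uniqueProd`/`Equiv.punitProd`: `Unit × κ ≃ κ`. -/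
theorem bfull_kronecker_unit {κ : Type*} [Fintype κ] [DecidableEq κ] (a : AlgInt ⧸ M)
    (B : Matrix κ κ (AlgInt ⧸ M)) :
    bfull p M (Matrix.kroneckerMap (· * ·) (a • (1 : Matrix Unit Unit (AlgInt ⧸ M))) B) =
      bfull p M (a • B) := by
  have hre : Matrix.reindex (Equiv.punitProd κ) (Equiv.punitProd κ)
      (Matrix.kroneckerMap (· * ·) (a • (1 : Matrix Unit Unit (AlgInt ⧸ M))) B) = a • B := by
    ext i j
    simp [Matrix.reindex_apply, Matrix.submatrix_apply, Matrix.kroneckerMap_apply]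
  rw [← K2d_bfull_reindex (Equiv.punitProd κ), hre]

end Cfsg.Agent.Helper52.FS
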