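import Mathlib
import Cfsg.Agent.Lib.BurnsidePQ

/-!
# Perfect groups: the perfect core of a non-solvable finite group, and small orbits (helper52)

* `exists_perfect_of_not_solvable`: a finite non-solvable group has a nontrivial perfect subgroup.
* `hom_eq_one_of_perfect`: a perfect group maps trivially into any solvable group.
* `isSolvable_perm_of_card_le_four`: `Perm α` is solvable when `α` has at most `4` elements.
* `smul_eq_of_card_orbit_le_four`: a perfect group acting on a type fixes every point whose orbit
  has at most `4` elements.
-/

set_option autoImplicit false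

namespace Cfsg.Agent.Helper52.PerfectCore

open Subgroup

/-- A finite non-solvable group has a nontrivial perfect subgroup. -/
theorem exists_perfect_of_not_solvable {A : Type*} [Group A] [Finite A] (h : ¬ Group.IsSolvable A) :
    ∃ P : Subgroup A, P ≠ ⊥ ∧ ⁅P, P⁆ = P := by
  have hne : ∀ n, derivedSeries A n ≠ ⊥ := fun n hn => h ⟨⟨n, hn⟩⟩
  have hanti : ∀ n, derivedSeries A (n + 1) ≤ derivedSeries A n := by
    intro n
    rw [derivedSeries_succ]
    exact Subgroup.commutator_le_left _ _
  by_contra hcon
  push Not at hcon
  have hlt : ∀ n, Nat.card (derivedSeries A (n + 1)) < Nat.card (derivedSeries A n) := by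
    intro n
    have hne' : derivedSeries A (n + 1) ≠ derivedSeries A n := by
      intro he
      refine hcon (derivedSeries A n) (hne n) ?_
      rw [← derivedSeries_succ, he]
    have hlt' : derivedSeries A (n + 1) < derivedSeries A n := lt_of_le_of_ne (hanti n) hne'
    exact Set.ncard_lt_ncard hlt' (Set.toFinite _)
  have hbound : ∀ n, Nat.card (derivedSeries A n) + n ≤ Nat.card (derivedSeries A 0) := by
    intro n
    induction n with
    | zero => simp
    | succ k ih => have := hlt k; omega
  have := hbound (Nat.card (derivedSeries A 0) + 1)
  omega

/-- The abstract group underlying a perfect subgroup is perfect. -/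
theorem commutator_eq_top_of_perfect {A : Type*} [Group A] (P : Subgroup A) (hP : ⁅P, P⁆ = P) :
    _root_.commutator P = ⊤ := by
  apply Subgroup.map_injective (Subgroup.subtype_injective P)
  rw [_root_.commutator_def, Subgroup.map_commutator, ← MonoidHom.range_eq_map, Subgroup.range_subtype,
    hP]

/-- A perfect group maps trivially into a solvable group. -/
theorem hom_eq_one_of_perfect {P S : Type*} [Group P] [Group S] [hS : Group.IsSolvable S]
    (hP : _root_.commutator P = ⊤) (f : P →* S) (g : P) : f g = 1 := by
  have hle : ∀ n, f.range ≤ derivedSeries S n := by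
    intro n
    induction n with
    | zero => simp
    | succ k ih =>
      have h1 : f.range = ⁅f.range, f.range⁆ := by
        conv_lhs => rw [MonoidHom.range_eq_map, ← hP, _root_.commutator_def, Subgroup.map_commutator,
          ← MonoidHom.range_eq_map]
      rw [h1, derivedSeries_succ]
      exact Subgroup.commutator_mono ih ih
  obtain ⟨n, hn⟩ := hS.solvable
  have : f g ∈ derivedSeries S n := hle n ⟨g, rfl⟩
  rw [hn] at this
  exact Subgroup.mem_bot.mp this

/-- A perfect solvable group is trivial. -/
theorem eq_one_of_perfect_of_solvable {P : Type*} [Group P] [Group.IsSolvable P]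
    (hP : _root_.commutator P = ⊤) (g : P) : g = 1 :=
  hom_eq_one_of_perfect hP (MonoidHom.id P) g

/-- `Perm α` is solvable when `α` has at most four elements. -/
theorem isSolvable_perm_of_card_le_four {α : Type*} [Finite α] (h : Nat.card α ≤ 4) :
    Group.IsSolvable (Equiv.Perm α) := by
  classical
  have := Fintype.ofFinite α
  refine Cfsg.Agent.Lib.isSolvable_of_prime_dvd_card (p := 2) (q := 3) Nat.prime_two
    Nat.prime_three ?_
  intro r hr hd
  rw [Nat.card_eq_fintype_card, Fintype.card_perm] at hd
  have hle : r ≤ Fintype.card α := (hr.dvd_factorial).mp hd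
  rw [Nat.card_eq_fintype_card] at h
  have h2 := hr.two_le
  have : r = 2 ∨ r = 3 ∨ r = 4 := by omega
  rcases this with h | h | h
  · exact Or.inl h
  · exact Or.inr h
  · exfalso; rw [h] at hr; norm_num at hr

/-- A perfect finite group acting on a type fixes every point with orbit of size at most `4`. -/
theorem smul_eq_of_card_orbit_le_four {P α : Type*} [Group P] [Finite P] [MulAction P α]
    (hP : _root_.commutator P = ⊤) (a : α) (h : Nat.card (MulAction.orbit P a) ≤ 4) (g : P) :
    g • a = a := by
  have : Finite (MulAction.orbit P a) := Set.finite_range _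
  have := isSolvable_perm_of_card_le_four h
  have h1 := hom_eq_one_of_perfect hP (MulAction.toPermHom P (MulAction.orbit P a)) g
  have h2 := congrArg (fun σ => ((σ ⟨a, MulAction.mem_orbit_self a⟩ : MulAction.orbit P a) : α)) h1
  simpa using h2

end Cfsg.Agent.Helper52.PerfectCore
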