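-- helper52: Tate's theorem in its general (relative) form, via Gaschütz and a pullback extension.
--   `tate_abstract`: an abstract core; `tate_general`: `P ≤ V ≤ G`, `P ∩ G' ≤ V'` ⇒ `P ∩ O^p(G) ≤ O^p(V)`.
import Mathlib
import Cfsg.Prelude.Def_Transfer
import Cfsg.Agent.Helper34.Tate
import Cfsg.Agent.Helper34.Gaschutz
import Cfsg.Agent.Helper2.Basic
import Cfsg.Agent.Helper52.PGroupLemmas

set_option autoImplicit false

namespace Cfsg.Agent.Helper52

open Cfsg.Agent.Helper34
open scoped commutatorElement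

section TateAbstract

variable {G : Type*} [Group G] [Finite G] {p : ℕ} [hp : Fact p.Prime]
variable {Q : Type*} [Group Q] [Finite Q]

/-- A subgroup of index prime to `p` together with `O^p(G)` generates `G`. -/
theorem sup_pResidual_eq_top_of_coprime_index (H : Subgroup G) (hH : H.index.Coprime p) :
    H ⊔ Cfsg.pResidual p G = ⊤ := by
  have h1 : IsPGroup p (G ⧸ Cfsg.pResidual p G) := pResidual_quotient_isPGroup p G
  obtain ⟨n, hn⟩ := IsPGroup.iff_card.mp h1
  have hidx : (Cfsg.pResidual p G).index = p ^ n := by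
    rw [Subgroup.index_eq_card]; exact hn
  have hd1 : (H ⊔ Cfsg.pResidual p G).index ∣ p ^ n := by
    rw [← hidx]; exact Subgroup.index_dvd_of_le le_sup_right
  have hd2 : (H ⊔ Cfsg.pResidual p G).index ∣ H.index := Subgroup.index_dvd_of_le le_sup_left
  have hcop : Nat.Coprime (p ^ n) H.index := Nat.Coprime.pow_left n hH.symm
  exact Subgroup.index_eq_one.mp (Nat.eq_one_of_dvd_coprimes hcop hd1 hd2)

/-- **Abstract Tate core, abelian kernel.**  Let `Q` be a finite `p`-group with a homomorphism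
`β : Q → G / O^p(G)` which, over a subgroup `H ≤ G` of index prime to `p`, is compatible with a
homomorphism `τ : H → Q`.  If `ker β` is abelian and contained in `Φ(Q)`, then `ker β = 1`. -/
theorem tate_abstract_abelian (hQ : IsPGroup p Q) (β : Q →* G ⧸ Cfsg.pResidual p G)
    (H : Subgroup G) (hH : H.index.Coprime p) (τ : H →* Q)
    (hτ : ∀ h : H, β (τ h) = ((h : G) : G ⧸ Cfsg.pResidual p G))
    (hab : ∀ a ∈ β.ker, ∀ b ∈ β.ker, a * b = b * a)
    (hfr : β.ker ≤ frattini Q) : β.ker = ⊥ := by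
  classical
  -- surjectivity of β
  have hβ : Function.Surjective β := by
    intro x
    obtain ⟨g, rfl⟩ := QuotientGroup.mk_surjective x
    have hg : g ∈ (H ⊔ Cfsg.pResidual p G : Subgroup G) := by
      rw [sup_pResidual_eq_top_of_coprime_index H hH]; trivial
    rw [← SetLike.mem_coe, Subgroup.mul_normal, Set.mem_mul] at hg
    obtain ⟨h, hh, k, hk, rfl⟩ := hg
    refine ⟨τ ⟨h, hh⟩, ?_⟩
    rw [hτ, QuotientGroup.mk_mul, (QuotientGroup.eq_one_iff k).mpr hk, mul_one]
  -- the pullback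
  set E : Subgroup (G × Q) :=
    ((QuotientGroup.mk' (Cfsg.pResidual p G)).comp (MonoidHom.fst G Q)).eqLocus
      (β.comp (MonoidHom.snd G Q)) with hE
  have hmemE : ∀ e : G × Q, e ∈ E ↔ ((e.1 : G) : G ⧸ Cfsg.pResidual p G) = β e.2 :=
    fun e => Iff.rfl
  set π1 : E →* G := (MonoidHom.fst G Q).comp E.subtype with hπ1
  set π2 : E →* Q := (MonoidHom.snd G Q).comp E.subtype with hπ2
  have hrel : ∀ e : E, ((π1 e : G) : G ⧸ Cfsg.pResidual p G) = β (π2 e) :=
    fun e => (hmemE e.1).mp e.2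
  have hext : ∀ e e' : E, π1 e = π1 e' → π2 e = π2 e' → e = e' := by
    intro e e' h1 h2
    apply Subtype.ext
    exact Prod.ext h1 h2
  have hπ1surj : Function.Surjective π1 := by
    intro g
    obtain ⟨q, hq⟩ := hβ (g : G ⧸ Cfsg.pResidual p G)
    exact ⟨⟨(g, q), (hmemE _).mpr hq.symm⟩, rfl⟩
  have hπ2surj : Function.Surjective π2 := by
    intro q
    obtain ⟨g, hg⟩ := QuotientGroup.mk_surjective (β q)
    exact ⟨⟨(g, q), (hmemE _).mpr hg⟩, rfl⟩
  set K : Subgroup E := π1.ker with hK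
  set U : Subgroup E := H.comap π1 with hU
  have hmemK : ∀ e : E, e ∈ K ↔ π1 e = 1 := fun e => MonoidHom.mem_ker
  have hK2 : ∀ e : E, e ∈ K → π2 e ∈ β.ker := by
    intro e he
    rw [MonoidHom.mem_ker, ← hrel e, (hmemK e).mp he]
    exact QuotientGroup.mk_one _
  let σ : H →* E :=
    { toFun := fun h => ⟨((h : G), τ h), (hmemE _).mpr (hτ h).symm⟩
      map_one' := by
        apply Subtype.ext
        simp
      map_mul' := fun a b => by
        apply Subtype.ext
        simp }
  have hσ1 : ∀ h : H, π1 (σ h) = (h : G) := fun h => rfl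
  have hσ2 : ∀ h : H, π2 (σ h) = τ h := fun h => rfl
  set A : Subgroup E := σ.range with hA
  haveI hKcomm : IsMulCommutative K := by
    apply isMulCommutative_of_comm
    intro a ha b hb
    apply hext
    · rw [map_mul, map_mul, (hmemK a).mp ha, (hmemK b).mp hb]
    · rw [map_mul, map_mul]
      exact hab _ (hK2 a ha) _ (hK2 b hb)
  have hKU : K ≤ U := by
    intro k hk
    rw [hU, Subgroup.mem_comap, (hmemK k).mp hk]
    exact H.one_mem
  have hAU : A ≤ U := by
    rintro _ ⟨h, rfl⟩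
    rw [hU, Subgroup.mem_comap, hσ1]
    exact h.2
  have hAK : A ⊓ K = ⊥ := by
    rw [eq_bot_iff]
    rintro e ⟨⟨h, rfl⟩, he⟩
    replace he : σ h ∈ K := he
    rw [hmemK, hσ1] at he
    have : h = 1 := Subtype.ext he
    rw [this, map_one]
    exact Subgroup.mem_bot.mpr rfl
  have hKA : K ⊔ A = U := by
    apply le_antisymm (sup_le hKU hAU)
    intro e he
    rw [hU, Subgroup.mem_comap] at he
    have h1 : e * (σ ⟨π1 e, he⟩)⁻¹ ∈ K := by
      rw [hmemK, map_mul, map_inv, hσ1]
      exact mul_inv_cancel _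
    have h2 : e = e * (σ ⟨π1 e, he⟩)⁻¹ * σ ⟨π1 e, he⟩ := by group
    rw [h2]
    exact Subgroup.mul_mem_sup h1 ⟨_, rfl⟩
  have hKp : IsPGroup p K := by
    intro k
    obtain ⟨j, hj⟩ := hQ (π2 (k : E))
    refine ⟨j, ?_⟩
    apply Subtype.ext
    apply hext
    · rw [Subgroup.coe_pow, map_pow, (hmemK _).mp k.2, one_pow, Subgroup.coe_one, map_one]
    · rw [Subgroup.coe_pow, map_pow, hj, Subgroup.coe_one, map_one]
  have hcop : (Nat.card K).Coprime U.index := by
    obtain ⟨m, hm⟩ := IsPGroup.iff_card.mp hKp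
    rw [hm, hU, Subgroup.index_comap_of_surjective _ hπ1surj]
    exact Nat.Coprime.pow_left m hH.symm
  obtain ⟨C, hC⟩ := gaschutz_exists K U hKU hcop A hAU hAK hKA
  have hdisj : ∀ e, e ∈ K → e ∈ C → e = 1 := by
    intro e h1 h2
    have := hC.disjoint.le_bot (show e ∈ K ⊓ C from ⟨h1, h2⟩)
    exact Subgroup.mem_bot.mp this
  have hprod : ∀ e : E, ∃ k ∈ K, ∃ c ∈ C, e = k * c := by
    intro e
    have h1 : e ∈ ((K ⊔ C : Subgroup E) : Set E) := by
      rw [hC.sup_eq_top]; trivial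
    rw [Subgroup.normal_mul] at h1
    obtain ⟨k, hk, c, hc, rfl⟩ := h1
    exact ⟨k, hk, c, hc, rfl⟩
  -- (1) elements of order prime to p lift with trivial second component
  have h1 : ∀ g : G, Nat.Coprime (orderOf g) p → ∃ c ∈ C, π1 c = g ∧ π2 c = 1 := by
    intro g hg
    obtain ⟨e, he⟩ := hπ1surj g
    obtain ⟨k, hk, c, hc, rfl⟩ := hprod e
    have hcg : π1 c = g := by
      rw [map_mul, (hmemK k).mp hk, one_mul] at he
      exact he
    refine ⟨c, hc, hcg, ?_⟩
    have hpow : c ^ orderOf g = 1 := by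
      apply hdisj _ _ (pow_mem hc _)
      rw [hmemK, map_pow, hcg, pow_orderOf_eq_one]
    have hq1 : (π2 c) ^ orderOf g = 1 := by
      rw [← map_pow, hpow, map_one]
    obtain ⟨j, hj⟩ := hQ (π2 c)
    have hd1 : orderOf (π2 c) ∣ orderOf g := orderOf_dvd_of_pow_eq_one hq1
    have hd2 : orderOf (π2 c) ∣ p ^ j := orderOf_dvd_of_pow_eq_one hj
    have : orderOf (π2 c) = 1 :=
      Nat.eq_one_of_dvd_coprimes (Nat.Coprime.pow_right j hg) hd1 hd2
    exact orderOf_eq_one_iff.mp this
  -- (2) the same for all elements of O^p(G)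
  have h2 : ∀ g ∈ Cfsg.pResidual p G, ∃ c ∈ C, π1 c = g ∧ π2 c = 1 := by
    intro g hg
    unfold Cfsg.pResidual at hg
    induction hg using Subgroup.closure_induction with
    | mem x hx => exact h1 x hx
    | one => exact ⟨1, one_mem _, map_one _, map_one _⟩
    | mul x y _ _ hx hy =>
      obtain ⟨a, ha, ha1, ha2⟩ := hx
      obtain ⟨b, hb, hb1, hb2⟩ := hy
      exact ⟨a * b, mul_mem ha hb, by rw [map_mul, ha1, hb1], by rw [map_mul, ha2, hb2, one_mul]⟩
    | inv x _ hx =>
      obtain ⟨a, ha, ha1, ha2⟩ := hx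
      exact ⟨a⁻¹, inv_mem ha, by rw [map_inv, ha1], by rw [map_inv, ha2, inv_one]⟩
  -- (3) the image of C in Q is everything
  have h3 : C.map π2 = ⊤ := by
    apply frattini_nongenerating
    rw [eq_top_iff]
    intro q _
    obtain ⟨e, rfl⟩ := hπ2surj q
    obtain ⟨k, hk, c, hc, rfl⟩ := hprod e
    rw [map_mul, sup_comm]
    exact Subgroup.mul_mem_sup (hfr (hK2 k hk)) (Subgroup.mem_map_of_mem _ hc)
  -- (4) conclusion
  rw [eq_bot_iff]
  intro d hd
  rw [Subgroup.mem_bot]
  obtain ⟨c, hc, hcd⟩ : ∃ c ∈ C, π2 c = d := by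
    have : d ∈ C.map π2 := by rw [h3]; trivial
    obtain ⟨c, hc, hcd⟩ := this
    exact ⟨c, hc, hcd⟩
  have hgL : π1 c ∈ Cfsg.pResidual p G := by
    have := hrel c
    rw [hcd, MonoidHom.mem_ker.mp hd] at this
    exact (QuotientGroup.eq_one_iff _).mp this
  obtain ⟨c', hc', hc'1, hc'2⟩ := h2 _ hgL
  have heq : c * c'⁻¹ = 1 := by
    apply hdisj _ _ (mul_mem hc (inv_mem hc'))
    rw [hmemK, map_mul, map_inv, hc'1, mul_inv_cancel]
  have hcc : c = c' := mul_inv_eq_one.mp heq
  rw [← hcd, hcc, hc'2]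

/-- **Abstract Tate core.**  As `tate_abstract_abelian`, without assuming the kernel abelian. -/
theorem tate_abstract (hQ : IsPGroup p Q) (β : Q →* G ⧸ Cfsg.pResidual p G)
    (H : Subgroup G) (hH : H.index.Coprime p) (τ : H →* Q)
    (hτ : ∀ h : H, β (τ h) = ((h : G) : G ⧸ Cfsg.pResidual p G))
    (hfr : β.ker ≤ frattini Q) : β.ker = ⊥ := by
  by_contra hne
  set N : Subgroup Q := β.ker with hN
  set N0 : Subgroup Q := ⁅N, N⁆ with hN0
  haveI : N0.Normal := Subgroup.commutator_normal N N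
  have hN0N : N0 ≤ N := Subgroup.commutator_le_right N N
  haveI : Group.IsNilpotent Q := hQ.isNilpotent
  have hlt : N0 < N := Group.IsSolvable.commutator_lt_of_ne_bot hne
  obtain ⟨d, hdN, hdN0⟩ := SetLike.exists_of_lt hlt
  let β' : Q ⧸ N0 →* G ⧸ Cfsg.pResidual p G := QuotientGroup.lift N0 β (fun x hx => hN0N hx)
  let τ' : H →* Q ⧸ N0 := (QuotientGroup.mk' N0).comp τ
  have hker : ∀ x : Q, ((x : Q ⧸ N0) ∈ β'.ker ↔ x ∈ N) := by
    intro x
    rw [MonoidHom.mem_ker, hN, MonoidHom.mem_ker]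
    rfl
  have key := tate_abstract_abelian (hQ.to_quotient N0) β' H hH τ' (fun h => hτ h) ?_ ?_
  · have h1 : (d : Q ⧸ N0) ∈ β'.ker := (hker d).mpr hdN
    rw [key, Subgroup.mem_bot, QuotientGroup.eq_one_iff] at h1
    exact hdN0 h1
  · intro a ha b hb
    obtain ⟨x, rfl⟩ := QuotientGroup.mk_surjective a
    obtain ⟨y, rfl⟩ := QuotientGroup.mk_surjective b
    rw [hker] at ha hb
    rw [← QuotientGroup.mk_mul, ← QuotientGroup.mk_mul, QuotientGroup.eq]
    have h1 : (x * y)⁻¹ * (y * x) = ⁅y⁻¹, x⁻¹⁆ := by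
      rw [commutatorElement_def]; group
    rw [h1]
    exact Subgroup.commutator_mem_commutator (N.inv_mem hb) (N.inv_mem ha)
  · intro a ha
    obtain ⟨x, rfl⟩ := QuotientGroup.mk_surjective a
    rw [hker] at ha
    exact frattini_le_comap_frattini_of_surjective (φ := QuotientGroup.mk' N0)
      (QuotientGroup.mk'_surjective _) (hfr ha)

end TateAbstract

section TateGeneral

variable {G : Type*} [Group G] [Finite G] {p : ℕ} [hp : Fact p.Prime]

omit [Finite G] hp in
/-- `O^p` of a subgroup, viewed in `G`, lies in `O^p(G)`. -/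
theorem map_subtype_pResidual_le (V : Subgroup G) :
    (Cfsg.pResidual p V).map V.subtype ≤ Cfsg.pResidual p G := by
  unfold Cfsg.pResidual
  rw [MonoidHom.map_closure, Subgroup.closure_le]
  rintro _ ⟨a, ha, rfl⟩
  apply Subgroup.subset_closure
  simp only [Set.mem_ofPred_eq] at ha ⊢
  rwa [orderOf_injective V.subtype V.subtype_injective a]

omit [Finite G] in
/-- A `p`-element of `O^p(G)` lies in the derived subgroup. -/
theorem mem_commutator_of_mem_pResidual_of_isPGroup (P : Subgroup G) (hP : IsPGroup p P) (y : G)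
    (hyP : y ∈ P) (hyK : y ∈ Cfsg.pResidual p G) : y ∈ commutator G := by
  have h1 : ∀ g ∈ Cfsg.pResidual p G, (orderOf (Abelianization.of g)).Coprime p := by
    intro g hg
    unfold Cfsg.pResidual at hg
    induction hg using Subgroup.closure_induction with
    | mem x hx =>
      exact Nat.Coprime.coprime_dvd_left (orderOf_map_dvd _ x) hx
    | one => rw [map_one, orderOf_one]; exact Nat.coprime_one_left p
    | mul x y _ _ hx hy =>
      rw [map_mul]
      exact Nat.Coprime.coprime_dvd_left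
        ((Commute.all _ _).orderOf_mul_dvd_lcm.trans (Nat.lcm_dvd_mul _ _))
        (Nat.Coprime.mul_left hx hy)
    | inv x _ hx => rw [map_inv, orderOf_inv]; exact hx
  obtain ⟨k, hk⟩ := (IsPGroup.iff_orderOf.mp hP) ⟨y, hyP⟩
  have hk' : orderOf y = p ^ k := by
    rw [← hk]; exact (Subgroup.orderOf_mk y hyP).symm
  have h2 : orderOf (Abelianization.of y) ∣ p ^ k := hk' ▸ orderOf_map_dvd _ y
  have h3 : orderOf (Abelianization.of y) = 1 :=
    Nat.eq_one_of_dvd_coprimes (Nat.Coprime.pow_right k (h1 y hyK)) dvd_rfl h2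
  have h4 : Abelianization.of y = 1 := orderOf_eq_one_iff.mp h3
  rw [← Abelianization.ker_of]
  exact h4

/-- **Tate's theorem, relative form.** Let `P ≤ V ≤ G` with `P` a Sylow `p`-subgroup of `G`.
If `P ∩ G' ≤ V'`, then `P ∩ O^p(G) ≤ O^p(V)`. -/
theorem tate_general (P : Sylow p G) (V : Subgroup G) (hPV : (P : Subgroup G) ≤ V)
    (hfoc : commutator G ⊓ (P : Subgroup G) ≤ ⁅V, V⁆) :
    (P : Subgroup G) ⊓ Cfsg.pResidual p G ≤ (Cfsg.pResidual p V).map V.subtype := by
  classical
  set K := Cfsg.pResidual p G with hK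
  set L := Cfsg.pResidual p V with hL
  have hQ : IsPGroup p (V ⧸ L) := pResidual_quotient_isPGroup p V
  let φ : V →* G ⧸ K := (QuotientGroup.mk' K).comp V.subtype
  have hLφ : ∀ x ∈ L, φ x = 1 := by
    intro x hx
    show ((x : G) : G ⧸ K) = 1
    rw [QuotientGroup.eq_one_iff]
    exact map_subtype_pResidual_le V ⟨x, hx, rfl⟩
  let β : V ⧸ L →* G ⧸ K := QuotientGroup.lift L φ hLφ
  have hβ : ∀ v : V, β (v : V ⧸ L) = ((v : G) : G ⧸ K) := fun v => rfl
  have hH : V.index.Coprime p := by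
    rw [Nat.coprime_comm, Nat.Prime.coprime_iff_not_dvd hp.1]
    intro h
    exact P.not_dvd_index (h.trans (Subgroup.index_dvd_of_le hPV))
  haveI : Group.IsNilpotent (V ⧸ L) := hQ.isNilpotent
  have hfr : β.ker ≤ frattini (V ⧸ L) := by
    intro q hq
    obtain ⟨v, rfl⟩ := QuotientGroup.mk_surjective q
    rw [MonoidHom.mem_ker, hβ, QuotientGroup.eq_one_iff] at hq
    -- v = l * y with l ∈ L, y in the Sylow subgroup
    have htop := pResidual_sup_sylow p V (P.subtype hPV)
    have hv : v ∈ ((L ⊔ ((P.subtype hPV : Sylow p V) : Subgroup V) : Subgroup V) : Set V) := by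
      rw [htop]; trivial
    rw [Subgroup.normal_mul] at hv
    obtain ⟨l, hl, y, hy, rfl⟩ := hv
    have hyP : (y : G) ∈ (P : Subgroup G) := by
      rw [SetLike.mem_coe, Sylow.coe_subtype, Subgroup.mem_subgroupOf] at hy
      exact hy
    have hlK : (l : G) ∈ K := map_subtype_pResidual_le V ⟨l, hl, rfl⟩
    have hyK : (y : G) ∈ K := by
      have h1 : (y : G) = (l : G)⁻¹ * ((l * y : V) : G) := by
        rw [Subgroup.coe_mul]; group
      rw [h1]
      exact K.mul_mem (K.inv_mem hlK) hq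
    have hyG' : (y : G) ∈ commutator G :=
      mem_commutator_of_mem_pResidual_of_isPGroup (P : Subgroup G) P.2 _ hyP hyK
    have hyV' : (y : G) ∈ ⁅V, V⁆ := hfoc ⟨hyG', hyP⟩
    rw [← Subgroup.map_subtype_commutator] at hyV'
    obtain ⟨y', hy', hyy'⟩ := hyV'
    have hyeq : y' = y := Subtype.ext hyy'
    rw [hyeq] at hy'
    have h5 : ((l * y : V) : V ⧸ L) = ((y : V) : V ⧸ L) := by
      rw [QuotientGroup.mk_mul, (QuotientGroup.eq_one_iff l).mpr hl, one_mul]
    rw [h5]
    apply Cfsg.Agent.Helper2.commutator_le_frattini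
    have h6 : (commutator V).map (QuotientGroup.mk' L) ≤ commutator (V ⧸ L) := by
      rw [commutator_def, Subgroup.map_commutator, commutator_def]
      exact Subgroup.commutator_mono le_top le_top
    exact h6 ⟨y, hy', rfl⟩
  have hker := tate_abstract hQ β V hH (QuotientGroup.mk' L) (fun v => hβ v) hfr
  intro x hx
  have hxV : x ∈ V := hPV hx.1
  have h1 : ((⟨x, hxV⟩ : V) : V ⧸ L) ∈ β.ker := by
    rw [MonoidHom.mem_ker, hβ, QuotientGroup.eq_one_iff]
    exact hx.2
  rw [hker, Subgroup.mem_bot, QuotientGroup.eq_one_iff] at h1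
  exact ⟨⟨x, hxV⟩, h1, rfl⟩

end TateGeneral

end Cfsg.Agent.Helper52
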