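-- Shared lemmas (helper52): an Alperin-chain argument for groups of the form `X = L A` where `L` is normal
-- and centralizes a normal `p`-subgroup `B` with `A ∩ L B = B`.  Used for lifting control of strong fusion
-- from a normal subgroup (S1954).
import Mathlib
import Cfsg.Agent.Helper34.Focal
import Cfsg.Agent.S4251
import Cfsg.Agent.Helper31.LocalCore

set_option autoImplicit false

namespace Cfsg.Agent.Helper52

open Cfsg.Agent.Helper34

/-- Relative form of "Sylow ∩ normal is Sylow": if `S ∩ K` has index prime to `p` in `K`, `S` is a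
`p`-group and `Y ≤ K` is normalized by `K`, then `S ∩ Y` has index prime to `p` in `Y`. -/
theorem not_dvd_relIndex_of_normal_in {X : Type*} [Group X] [Finite X] {p : ℕ} [Fact p.Prime]
    (S K Y : Subgroup X) (hS : IsPGroup p S) (hSK : ¬ p ∣ S.relIndex K) (hYK : Y ≤ K)
    (hnorm : ∀ k ∈ K, ∀ y ∈ Y, k * y * k⁻¹ ∈ Y) : ¬ p ∣ S.relIndex Y := by
  have hS' : IsPGroup p (S.subgroupOf K) := hS.comap_subtype
  have hidx : ¬ p ∣ (S.subgroupOf K).index := hSK
  have : (Y.subgroupOf K).Normal := by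
    constructor
    intro n hn g
    rw [Subgroup.mem_subgroupOf] at hn ⊢
    simpa using hnorm g g.2 n hn
  have h1 := Helper31.not_dvd_relIndex_inf_normal (S.subgroupOf K) hS' hidx (Y.subgroupOf K)
  have h2 : (S.subgroupOf K ⊓ Y.subgroupOf K) = (S ⊓ Y).subgroupOf K := by
    ext x
    simp [Subgroup.mem_subgroupOf]
  rw [h2, Subgroup.relIndex_subgroupOf hYK, Subgroup.inf_relIndex_right] at h1
  exact h1

section chain

variable {X : Type*} [Group X] [Finite X] {p : ℕ} [Fact p.Prime]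
variable {G : Type*} [Group G]

/-- The local step: a tame intersection `D = S ∩ Q` containing `A` (with `L A = X`, `B ⊆ A`), `x ∈ N_X(D)`.
Either `D ∩ L B` is larger than `B` (then the hypothesis `hIH` applies) or `N_L(D)` acts on `D` as a
`p`-group and `x` factors through `S`. -/
theorem local_step (f : X →* G) (L B : Subgroup X) [L.Normal] [B.Normal] (hB : IsPGroup p B)
    (hLB : L ≤ Subgroup.centralizer (B : Set X)) (M : Subgroup G)
    (S : Sylow p X) (hSM : ∀ s ∈ (S : Subgroup X), f s ∈ M)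
    (hIH : ∀ D : Subgroup X, D ≤ S → B ≤ D → ¬ (D ⊓ (L ⊔ B) ≤ B) →
       ∀ x ∈ Subgroup.normalizer (D : Set X),
        ∃ c ∈ Subgroup.centralizer (f '' (D : Set X)), ∃ m ∈ M, f x = c * m)
    (A : Set X) (hBA : (B : Set X) ⊆ A) (hLA : ∀ y : X, ∃ l ∈ L, ∃ a ∈ A, y = l * a)
    (Q : Sylow p X) (x : X) (hstep : AStep S Q x)
    (hAD : A ⊆ ((((S : Subgroup X) ⊓ (Q : Subgroup X)) : Subgroup X) : Set X)) :
    ∃ c ∈ Subgroup.centralizer (f '' ((((S : Subgroup X) ⊓ (Q : Subgroup X)) : Subgroup X) : Set X)),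
      ∃ m ∈ M, f x = c * m := by
  obtain ⟨D, hD⟩ : ∃ D : Subgroup X, D = (S : Subgroup X) ⊓ (Q : Subgroup X) := ⟨_, rfl⟩
  rw [← hD] at hAD ⊢
  obtain ⟨hxN, htame, -, -⟩ := hstep
  rw [← hD] at hxN htame
  have hDS : D ≤ S := hD ▸ inf_le_left
  have hBD : B ≤ D := fun b hb => hAD (hBA hb)
  by_cases hcase : D ⊓ (L ⊔ B) ≤ B
  · -- unipotent case
    obtain ⟨l, hl, a, ha, hxla⟩ := hLA x
    have haD : a ∈ D := hAD ha
    have hlN : l ∈ Subgroup.normalizer (D : Set X) := by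
      have : l = x * a⁻¹ := by rw [hxla]; group
      rw [this]
      exact mul_mem hxN (inv_mem (Subgroup.le_normalizer haD))
    set Y : Subgroup X := L ⊓ Subgroup.normalizer (D : Set X) with hY
    set C : Subgroup X := Subgroup.centralizer (D : Set X) with hC
    -- commutators land in `B`
    have key1 : ∀ y ∈ Y, ∀ d ∈ D, y * d * y⁻¹ * d⁻¹ ∈ B := by
      intro y hy d hd
      apply hcase
      refine Subgroup.mem_inf.mpr ⟨?_, ?_⟩
      · have h1 : y * d * y⁻¹ ∈ D := (Subgroup.mem_normalizer_iff.mp hy.2 d).mp hd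
        exact mul_mem h1 (inv_mem hd)
      · apply Subgroup.mem_sup_left
        have h2 : d * y⁻¹ * d⁻¹ ∈ L := Subgroup.Normal.conj_mem inferInstance _ (inv_mem hy.1) d
        have : y * d * y⁻¹ * d⁻¹ = y * (d * y⁻¹ * d⁻¹) := by group
        rw [this]
        exact mul_mem hy.1 h2
    have key2 : ∀ y ∈ Y, ∀ d ∈ D, ∀ k : ℕ,
        y ^ k * d * (y ^ k)⁻¹ = (y * d * y⁻¹ * d⁻¹) ^ k * d := by
      intro y hy d hd k
      have hz : y * d * y⁻¹ * d⁻¹ ∈ B := key1 y hy d hd
      have hcomm : y * (y * d * y⁻¹ * d⁻¹) = (y * d * y⁻¹ * d⁻¹) * y := by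
        have := hLB hy.1
        rw [Subgroup.mem_centralizer_iff] at this
        exact (this _ hz).symm
      induction k with
      | zero => simp
      | succ k ih =>
        have hcommk : y * (y * d * y⁻¹ * d⁻¹) ^ k = (y * d * y⁻¹ * d⁻¹) ^ k * y := by
          have hc : Commute y (y * d * y⁻¹ * d⁻¹) := hcomm
          exact (hc.pow_right k).eq
        calc y ^ (k + 1) * d * (y ^ (k + 1))⁻¹
            = y * (y ^ k * d * (y ^ k)⁻¹) * y⁻¹ := by rw [pow_succ']; group
          _ = y * ((y * d * y⁻¹ * d⁻¹) ^ k * d) * y⁻¹ := by rw [ih]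
          _ = (y * (y * d * y⁻¹ * d⁻¹) ^ k) * (d * y⁻¹) := by group
          _ = (y * d * y⁻¹ * d⁻¹) ^ k * y * (d * y⁻¹) := by rw [hcommk]
          _ = (y * d * y⁻¹ * d⁻¹) ^ k * ((y * d * y⁻¹ * d⁻¹) * d) := by group
          _ = (y * d * y⁻¹ * d⁻¹) ^ (k + 1) * d := by rw [pow_succ]; group
    have key3 : ∀ y ∈ Y, y ^ Nat.card B ∈ C := by
      intro y hy
      rw [hC, Subgroup.mem_centralizer_iff]
      intro d hd
      have h1 := key2 y hy d hd (Nat.card B)
      have hz : y * d * y⁻¹ * d⁻¹ ∈ B := key1 y hy d hd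
      have h2 : (y * d * y⁻¹ * d⁻¹) ^ Nat.card B = 1 := by
        have := pow_card_eq_one' (G := B) (x := ⟨_, hz⟩)
        exact congrArg Subtype.val this
      rw [h2, one_mul] at h1
      have : y ^ Nat.card B * d = d * y ^ Nat.card B := by
        calc y ^ Nat.card B * d = (y ^ Nat.card B * d * (y ^ Nat.card B)⁻¹) * y ^ Nat.card B := by group
          _ = d * y ^ Nat.card B := by rw [h1]
      exact this.symm
    have hnorm : (C.subgroupOf Y).Normal := by
      constructor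
      intro n hn g
      rw [Subgroup.mem_subgroupOf] at hn ⊢
      rw [hC, Subgroup.mem_centralizer_iff] at hn ⊢
      intro d hd
      have hgN : (g : X) ∈ Subgroup.normalizer (D : Set X) := g.2.2
      have hd' : (g : X)⁻¹ * d * (g : X) ∈ D := by
        have := (Subgroup.mem_normalizer_iff.mp (inv_mem hgN) d).mp hd
        simpa using this
      have h1 := hn _ hd'
      simp only [Subgroup.coe_mul, Subgroup.coe_inv]
      calc d * ((g : X) * (n : X) * (g : X)⁻¹)
          = (g : X) * (((g : X)⁻¹ * d * (g : X)) * (n : X)) * (g : X)⁻¹ := by group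
        _ = (g : X) * ((n : X) * ((g : X)⁻¹ * d * (g : X))) * (g : X)⁻¹ := by rw [h1]
        _ = (g : X) * (n : X) * (g : X)⁻¹ * d := by group
    have hpg : IsPGroup p (↥Y ⧸ C.subgroupOf Y) := by
      obtain ⟨e, he⟩ := IsPGroup.iff_card.mp hB
      intro q
      obtain ⟨y, rfl⟩ := QuotientGroup.mk_surjective q
      refine ⟨e, ?_⟩
      rw [← QuotientGroup.mk_pow, QuotientGroup.eq_one_iff, Subgroup.mem_subgroupOf]
      have := key3 y y.2
      rw [he] at this
      simpa using this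
    have hSY : ¬ p ∣ (S : Subgroup X).relIndex Y := by
      apply not_dvd_relIndex_of_normal_in (S : Subgroup X) (Subgroup.normalizer (D : Set X)) Y S.isPGroup'
      · rwa [Subgroup.inf_relIndex_right] at htame
      · exact inf_le_right
      · intro k hk y hy
        have hy' := Subgroup.mem_inf.mp hy
        refine Subgroup.mem_inf.mpr ⟨Subgroup.Normal.conj_mem inferInstance _ hy'.1 k, ?_⟩
        exact mul_mem (mul_mem hk hy'.2) (inv_mem hk)
    have hlY : l⁻¹ ∈ Y := inv_mem ⟨hl, hlN⟩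
    obtain ⟨s, hs, c, hc, hlsc⟩ :=
      Cfsg.Agent.S4251.exists_mul_of_isPGroup_quotient Y C (S : Subgroup X) hpg hSY hlY
    -- l = c⁻¹ s⁻¹
    refine ⟨f c⁻¹, ?_, f (s⁻¹ * a), ?_, ?_⟩
    · rw [Subgroup.mem_centralizer_iff]
      rintro _ ⟨d, hd, rfl⟩
      have hc' : c⁻¹ ∈ C := inv_mem hc
      rw [hC, Subgroup.mem_centralizer_iff] at hc'
      rw [← map_mul, ← map_mul, hc' d hd]
    · exact hSM _ (mul_mem (inv_mem hs) (hDS haD))
    · rw [← map_mul]
      congr 1
      have : l = c⁻¹ * s⁻¹ := by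
        have h1 : l = (l⁻¹)⁻¹ := (inv_inv l).symm
        rw [h1, hlsc]; group
      rw [hxla, this]; group
  · exact hIH D hDS hBD hcase x hxN

/-- Assembly along an Alperin chain. -/
theorem chain_aux (f : X →* G) (L B : Subgroup X) [L.Normal] [B.Normal] (hB : IsPGroup p B)
    (hLB : L ≤ Subgroup.centralizer (B : Set X)) (M : Subgroup G)
    (S : Sylow p X) (hSM : ∀ s ∈ (S : Subgroup X), f s ∈ M)
    (hIH : ∀ D : Subgroup X, D ≤ S → B ≤ D → ¬ (D ⊓ (L ⊔ B) ≤ B) →
       ∀ x ∈ Subgroup.normalizer (D : Set X),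
        ∃ c ∈ Subgroup.centralizer (f '' (D : Set X)), ∃ m ∈ M, f x = c * m) :
    ∀ (Ls : List (Sylow p X × X)) (A : Set X), (B : Set X) ⊆ A →
      (∀ y : X, ∃ l ∈ L, ∃ a ∈ A, y = l * a) → AValid S A Ls →
      ∃ c ∈ Subgroup.centralizer (f '' A), ∃ m ∈ M, f (cprod Ls) = c * m := by
  intro Ls
  induction Ls with
  | nil =>
    intro A _ _ _
    exact ⟨1, one_mem _, 1, one_mem _, by simp [cprod_nil]⟩
  | cons hd Ls ih =>
    obtain ⟨Q, x⟩ := hd
    intro A hBA hLA hval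
    rw [aValid_cons] at hval
    obtain ⟨hstep, hAD, hval'⟩ := hval
    obtain ⟨c₁, hc₁, m₁, hm₁, hx⟩ := local_step f L B hB hLB M S hSM hIH A hBA hLA Q x hstep hAD
    have hBA' : (B : Set X) ⊆ rconj x A := by
      intro b hb
      rw [mem_rconj_iff]
      exact hBA (Subgroup.Normal.conj_mem inferInstance b hb x)
    have hLA' : ∀ y : X, ∃ l ∈ L, ∃ a ∈ rconj x A, y = l * a := by
      intro y
      obtain ⟨l, hl, a, ha, hy⟩ := hLA (x * y * x⁻¹)
      refine ⟨x⁻¹ * l * x, ?_, x⁻¹ * a * x, ⟨a, ha, rfl⟩, ?_⟩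
      · have := Subgroup.Normal.conj_mem (inferInstance : L.Normal) l hl x⁻¹
        simpa using this
      · have : y = x⁻¹ * (x * y * x⁻¹) * x := by group
        rw [this, hy]; group
    obtain ⟨c₂, hc₂, m₂, hm₂, hprod⟩ := ih (rconj x A) hBA' hLA' hval'
    have hc₁A : ∀ a ∈ A, f a * c₁ = c₁ * f a := by
      intro a ha
      rw [Subgroup.mem_centralizer_iff] at hc₁
      exact hc₁ _ ⟨a, hAD ha, rfl⟩
    refine ⟨c₁ * (m₁ * c₂ * m₁⁻¹), ?_, m₁ * m₂, mul_mem hm₁ hm₂, ?_⟩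
    · apply mul_mem
      · rw [Subgroup.mem_centralizer_iff]
        rintro _ ⟨a, ha, rfl⟩
        exact hc₁A a ha
      · rw [Subgroup.mem_centralizer_iff]
        rintro _ ⟨a, ha, rfl⟩
        -- `f (x⁻¹ a x) = m₁⁻¹ (f a) m₁`
        have h1 : f (x⁻¹ * a * x) = m₁⁻¹ * f a * m₁ := by
          rw [map_mul, map_mul, map_inv, hx]
          have := hc₁A a ha
          calc (c₁ * m₁)⁻¹ * f a * (c₁ * m₁) = m₁⁻¹ * (c₁⁻¹ * (f a * c₁)) * m₁ := by group
            _ = m₁⁻¹ * (c₁⁻¹ * (c₁ * f a)) * m₁ := by rw [this]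
            _ = m₁⁻¹ * f a * m₁ := by group
        rw [Subgroup.mem_centralizer_iff] at hc₂
        have h2 := hc₂ _ ⟨x⁻¹ * a * x, ⟨a, ha, rfl⟩, rfl⟩
        rw [h1] at h2
        calc f a * (m₁ * c₂ * m₁⁻¹) = m₁ * ((m₁⁻¹ * f a * m₁) * c₂) * m₁⁻¹ := by group
          _ = m₁ * (c₂ * (m₁⁻¹ * f a * m₁)) * m₁⁻¹ := by rw [h2]
          _ = m₁ * c₂ * m₁⁻¹ * f a := by group
    · rw [cprod_cons, map_mul, hx, hprod]; group

/-- **Chain control**: in `X = L A` with `S ≤ M` a Sylow `p`-subgroup containing `A` and `w⁻¹ A w`,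
the element `w` lies in `C(A) M` (computed in the ambient group through `f`). -/
theorem chain_control (f : X →* G) (L B : Subgroup X) [L.Normal] [B.Normal] (hB : IsPGroup p B)
    (hLB : L ≤ Subgroup.centralizer (B : Set X)) (M : Subgroup G)
    (S : Sylow p X) (hSM : ∀ s ∈ (S : Subgroup X), f s ∈ M)
    (hIH : ∀ D : Subgroup X, D ≤ S → B ≤ D → ¬ (D ⊓ (L ⊔ B) ≤ B) →
       ∀ x ∈ Subgroup.normalizer (D : Set X),
        ∃ c ∈ Subgroup.centralizer (f '' (D : Set X)), ∃ m ∈ M, f x = c * m)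
    (A : Set X) (hBA : (B : Set X) ⊆ A) (hAS : A ⊆ ((S : Subgroup X) : Set X))
    (hLA : ∀ y : X, ∃ l ∈ L, ∃ a ∈ A, y = l * a)
    (w : X) (hw : (fun a => w⁻¹ * a * w) '' A ⊆ ((S : Subgroup X) : Set X)) :
    ∃ c ∈ Subgroup.centralizer (f '' A), ∃ m ∈ M, f w = c * m := by
  obtain ⟨Ls, hLs, hprod⟩ := alperin_fusion_list S A w hAS hw
  rw [← hprod]
  exact chain_aux f L B hB hLB M S hSM hIH Ls A hBA hLA hLs

end chain

end Cfsg.Agent.Helper52
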