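-- Shared lemmas (helper52): control of strong fusion lifts from a normal subgroup `N` to `G`
-- (`lift_control`).  Used for S1954.
import Mathlib
import Cfsg.Agent.Helper52.ControlLift
import Cfsg.Agent.Helper52.SylowLemmas

set_option autoImplicit false

namespace Cfsg.Agent.Helper52

open Subgroup
open scoped Pointwise

section lift

variable {G : Type*} [Group G] [Finite G] {p : ℕ} [Fact p.Prime]

theorem card_lt_of_lt_sub {H K : Subgroup G} (h : H < K) : Nat.card H < Nat.card K := by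
  by_contra hcon
  push Not at hcon
  exact absurd (Subgroup.eq_of_le_of_card_ge h.le hcon) h.ne

/-- `P` normalizes `P ∩ N`. -/
theorem sylow_le_normalizer_inf (N : Subgroup G) [N.Normal] (P : Subgroup G) :
    P ≤ normalizer ((P ⊓ N : Subgroup G) : Set G) := by
  intro x hx
  rw [mem_normalizer_iff]
  intro t
  constructor
  · intro ht
    exact mem_inf.mpr ⟨mul_mem (mul_mem hx ht.1) (inv_mem hx), Normal.conj_mem inferInstance t ht.2 x⟩
  · intro ht
    have h1 : t = x⁻¹ * (x * t * x⁻¹) * x := by group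
    rw [h1]
    refine mem_inf.mpr ⟨mul_mem (mul_mem (inv_mem hx) ht.1) hx, ?_⟩
    have := Normal.conj_mem (inferInstance : N.Normal) _ ht.2 x⁻¹
    simpa using this

/-- Frattini argument, elementwise. -/
theorem frattini_elt (N : Subgroup G) [N.Normal] (P : Sylow p G) (g : G) :
    ∃ y ∈ normalizer (((P : Subgroup G) ⊓ N : Subgroup G) : Set G), ∃ n ∈ N, g = y * n := by
  have h1 := Helper31.frattini_rel N ((P : Subgroup G) ⊓ N) inf_le_right (P.isPGroup'.to_le inf_le_left)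
    (Helper31.not_dvd_relIndex_inf_normal (P : Subgroup G) P.isPGroup' P.not_dvd_index N)
  have h2 : g ∈ (normalizer (((P : Subgroup G) ⊓ N : Subgroup G) : Set G) ⊔ N : Subgroup G) := by
    rw [h1]; exact mem_top g
  rw [← SetLike.mem_coe, mul_normal] at h2
  obtain ⟨y, hy, n, hn, rfl⟩ := Set.mem_mul.mp h2
  exact ⟨y, hy, n, hn, rfl⟩

/-- The control hypothesis, extended from subgroups of `P ∩ N` to all `p`-subgroups of `M ∩ N`, and from
elements of `N` to all elements of `G`. -/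
theorem ctrl_ext (N : Subgroup G) [N.Normal] (P : Sylow p G) (M : Subgroup G)
    (hNT : normalizer (((P : Subgroup G) ⊓ N : Subgroup G) : Set G) ≤ M)
    (hctrl : ∀ B : Subgroup G, B ≤ (P : Subgroup G) ⊓ N → ∀ n ∈ N,
      (∀ b ∈ B, n * b * n⁻¹ ∈ (P : Subgroup G)) →
      ∃ h ∈ M, ∃ c ∈ N, c ∈ centralizer (B : Set G) ∧ n = h * c)
    (B : Subgroup G) (hBM : B ≤ M) (hBN : B ≤ N) (hB : IsPGroup p B) (g : G)
    (hg : ∀ b ∈ B, g * b * g⁻¹ ∈ M) :
    ∃ m ∈ M, ∃ c ∈ N, c ∈ centralizer (B : Set G) ∧ g = m * c := by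
  have hPM : (P : Subgroup G) ≤ M := (sylow_le_normalizer_inf N (P : Subgroup G)).trans hNT
  obtain ⟨m₁, hm₁, h1⟩ := exists_conj_le_sylow_of_le P M B hPM hBM hB
  have hB₂M : B.map (MulAut.conj g).toMonoidHom ≤ M := by
    rintro _ ⟨b, hb, rfl⟩
    exact hg b hb
  obtain ⟨m₂, hm₂, h2⟩ := exists_conj_le_sylow_of_le P M _ hPM hB₂M (hB.map _)
  obtain ⟨y, hy, n, hn, hg₁⟩ := frattini_elt N P (m₂ * g * m₁⁻¹)
  have hB₁ : B.map (MulAut.conj m₁).toMonoidHom ≤ (P : Subgroup G) ⊓ N := by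
    rintro _ ⟨b, hb, rfl⟩
    exact mem_inf.mpr ⟨h1 b hb, Normal.conj_mem inferInstance b (hBN hb) m₁⟩
  have hn' : n = y⁻¹ * (m₂ * g * m₁⁻¹) := by rw [hg₁]; group
  have hcond : ∀ b₁ ∈ B.map (MulAut.conj m₁).toMonoidHom, n * b₁ * n⁻¹ ∈ (P : Subgroup G) := by
    rintro _ ⟨b, hb, rfl⟩
    have h3 : m₂ * (g * b * g⁻¹) * m₂⁻¹ ∈ (P : Subgroup G) ⊓ N := by
      refine mem_inf.mpr ⟨h2 _ ⟨b, hb, rfl⟩, ?_⟩
      exact Normal.conj_mem inferInstance _ (Normal.conj_mem inferInstance b (hBN hb) g) m₂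
    have h4 : y⁻¹ * (m₂ * (g * b * g⁻¹) * m₂⁻¹) * y⁻¹⁻¹ ∈ (P : Subgroup G) ⊓ N :=
      (mem_normalizer_iff.mp (inv_mem hy) _).mp h3
    have h5 : n * (MulAut.conj m₁).toMonoidHom b * n⁻¹ = y⁻¹ * (m₂ * (g * b * g⁻¹) * m₂⁻¹) * y⁻¹⁻¹ := by
      rw [hn']
      simp only [MulEquiv.coe_toMonoidHom, MulAut.conj_apply]
      group
    rw [h5]
    exact h4.1
  obtain ⟨h, hh, c₁, hc₁N, hc₁B, hnhc⟩ := hctrl _ hB₁ n hn hcond
  refine ⟨m₂⁻¹ * y * h * m₁, ?_, m₁⁻¹ * c₁ * m₁, ?_, ?_, ?_⟩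
  · exact mul_mem (mul_mem (mul_mem (inv_mem hm₂) (hNT hy)) hh) hm₁
  · have := Normal.conj_mem (inferInstance : N.Normal) c₁ hc₁N m₁⁻¹
    simpa using this
  · rw [mem_centralizer_iff]
    intro b hb
    rw [mem_centralizer_iff] at hc₁B
    have h6 := hc₁B (m₁ * b * m₁⁻¹) ⟨b, hb, by simp [MulAut.conj_apply]⟩
    calc b * (m₁⁻¹ * c₁ * m₁) = m₁⁻¹ * ((m₁ * b * m₁⁻¹) * c₁) * m₁ := by group
      _ = m₁⁻¹ * (c₁ * (m₁ * b * m₁⁻¹)) * m₁ := by rw [h6]
      _ = m₁⁻¹ * c₁ * m₁ * b := by group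
  · have h7 : g = m₂⁻¹ * (m₂ * g * m₁⁻¹) * m₁ := by group
    rw [h7, hg₁, hnhc]; group

/-- `C_{M ∩ N}(B)` contains a Sylow `p`-subgroup of `C_N(B)`. -/
theorem not_dvd_relIndex_centralizer (N : Subgroup G) [N.Normal] (P : Sylow p G) (M : Subgroup G)
    (hNT : normalizer (((P : Subgroup G) ⊓ N : Subgroup G) : Set G) ≤ M)
    (hctrl : ∀ B : Subgroup G, B ≤ (P : Subgroup G) ⊓ N → ∀ n ∈ N,
      (∀ b ∈ B, n * b * n⁻¹ ∈ (P : Subgroup G)) →
      ∃ h ∈ M, ∃ c ∈ N, c ∈ centralizer (B : Set G) ∧ n = h * c)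
    (B : Subgroup G) (hBM : B ≤ M) (hBN : B ≤ N) (hB : IsPGroup p B) :
    ¬ p ∣ ((N ⊓ centralizer (B : Set G)) ⊓ M).relIndex (N ⊓ centralizer (B : Set G)) := by
  have hPM : (P : Subgroup G) ≤ M := (sylow_le_normalizer_inf N (P : Subgroup G)).trans hNT
  set L : Subgroup G := N ⊓ centralizer (B : Set G) with hL
  obtain ⟨Y⟩ : Nonempty (Sylow p ↥L) := inferInstance
  set YG : Subgroup G := (Y : Subgroup ↥L).map L.subtype with hYG
  have hYGL : YG ≤ L := map_subtype_le _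
  have hYGp : IsPGroup p YG := Y.isPGroup'.map _
  have hnorm : YG ≤ normalizer (B : Set G) := by
    intro y hy
    exact centralizer_le_normalizer _ (hYGL hy).2
  have hE : IsPGroup p (YG ⊔ B : Subgroup G) := hYGp.to_sup_of_normal_right' hB hnorm
  obtain ⟨g₀, -, hg₀⟩ := exists_conj_le_sylow_of_le P ⊤ (YG ⊔ B) le_top le_top hE
  obtain ⟨m₀, hm₀, c₀, hc₀N, hc₀B, hg₀mc⟩ := ctrl_ext N P M hNT hctrl B hBM hBN hB g₀
    (fun b hb => hPM (hg₀ b (mem_sup_right hb)))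
  have hc₀L : c₀ ∈ L := mem_inf.mpr ⟨hc₀N, hc₀B⟩
  have hconj : ∀ y ∈ YG, c₀ * y * c₀⁻¹ ∈ L ⊓ M := by
    intro y hy
    refine mem_inf.mpr ⟨mul_mem (mul_mem hc₀L (hYGL hy)) (inv_mem hc₀L), ?_⟩
    have h1 : c₀ * y * c₀⁻¹ = m₀⁻¹ * (g₀ * y * g₀⁻¹) * m₀ := by rw [hg₀mc]; group
    rw [h1]
    exact mul_mem (mul_mem (inv_mem hm₀) (hPM (hg₀ y (mem_sup_left hy)))) hm₀
  obtain ⟨Y', hY'⟩ : ∃ Y' : Sylow p ↥L, Y' = (MulAut.conj (⟨c₀, hc₀L⟩ : ↥L)) • Y := ⟨_, rfl⟩
  have hY'coe : (Y' : Subgroup ↥L) = (MulAut.conj (⟨c₀, hc₀L⟩ : ↥L)) • (Y : Subgroup ↥L) := by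
    rw [hY']; rfl
  have hY'le : (Y' : Subgroup ↥L) ≤ (L ⊓ M).subgroupOf L := by
    intro x hx
    rw [hY'coe, mem_pointwise_smul_iff_inv_smul_mem] at hx
    rw [mem_subgroupOf]
    have hxY : ((⟨c₀, hc₀L⟩ : ↥L)⁻¹ * x * (⟨c₀, hc₀L⟩ : ↥L) : ↥L) ∈ (Y : Subgroup ↥L) := by
      simpa [MulAut.smul_def, MulAut.conj_apply] using hx
    have h2 : c₀⁻¹ * (x : G) * c₀ ∈ YG := ⟨_, hxY, by simp⟩
    have h3 := hconj _ h2
    have h4 : c₀ * (c₀⁻¹ * (x : G) * c₀) * c₀⁻¹ = (x : G) := by group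
    rwa [h4] at h3
  have hdvd := Subgroup.index_dvd_of_le hY'le
  intro hp
  exact Y'.not_dvd_index (dvd_trans hp hdvd)

/-- index computation: if `H₀ ⊔ K = ⊤` with `K` normal then `[X : H₀] = [K : K ∩ H₀]`. -/
theorem index_eq_relIndex_of_sup_eq_top {X : Type*} [Group X] [Finite X] (H₀ K : Subgroup X) [K.Normal]
    (hsup : H₀ ⊔ K = ⊤) : H₀.index = (K ⊓ H₀).relIndex K := by
  have h1 : (K ⊓ H₀).relIndex K * K.index = (K ⊓ H₀).index := relIndex_mul_index inf_le_left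
  have h2 : (K ⊓ H₀).relIndex H₀ * H₀.index = (K ⊓ H₀).index := relIndex_mul_index inf_le_right
  have h3 : (K ⊓ H₀).relIndex H₀ = K.index := by
    rw [inf_relIndex_right, ← relIndex_sup_right H₀ K, hsup, relIndex_top_right]
  rw [h3] at h2
  have hK : K.index ≠ 0 := index_ne_zero_of_finite
  have h4 : K.index * H₀.index = K.index * (K ⊓ H₀).relIndex K := by
    rw [h2, ← h1, mul_comm]
  exact Nat.eq_of_mul_eq_mul_left (Nat.pos_of_ne_zero hK) h4

/-- **Lifting control of strong fusion** from a normal subgroup `N` to `G`: if `M ≥ N_G(P ∩ N)` and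
`M ∩ N` controls strong fusion in `P ∩ N` with respect to `N`, then `M` controls strong fusion in `P`
with respect to `G` (stated for all `p`-subgroups of `M`). -/
theorem lift_control (N : Subgroup G) [N.Normal] (P : Sylow p G) (M : Subgroup G)
    (hNT : normalizer (((P : Subgroup G) ⊓ N : Subgroup G) : Set G) ≤ M)
    (hctrl : ∀ B : Subgroup G, B ≤ (P : Subgroup G) ⊓ N → ∀ n ∈ N,
      (∀ b ∈ B, n * b * n⁻¹ ∈ (P : Subgroup G)) →
      ∃ h ∈ M, ∃ c ∈ N, c ∈ centralizer (B : Set G) ∧ n = h * c) :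
    ∀ (k : ℕ) (A : Subgroup G), A ≤ M → IsPGroup p A → Nat.card N - Nat.card ↥(A ⊓ N : Subgroup G) = k →
      ∀ g : G, (∀ a ∈ A, g * a * g⁻¹ ∈ M) →
      ∃ h ∈ M, ∃ c ∈ centralizer (A : Set G), g = h * c := by
  intro k
  induction k using Nat.strong_induction_on with
  | _ k ih =>
  intro A hAM hA hk g hg
  have hPM : (P : Subgroup G) ≤ M := (sylow_le_normalizer_inf N (P : Subgroup G)).trans hNT
  set B : Subgroup G := A ⊓ N with hBdef
  have hBA : B ≤ A := inf_le_left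
  have hBN : B ≤ N := inf_le_right
  have hBM : B ≤ M := hBA.trans hAM
  have hBp : IsPGroup p B := hA.to_le hBA
  obtain ⟨m, hm, c, hcN, hcB, hgmc⟩ := ctrl_ext N P M hNT hctrl B hBM hBN hBp g
    (fun b hb => hg b (hBA hb))
  -- it suffices to treat `c`
  suffices hsuff : ∃ h ∈ M, ∃ c' ∈ centralizer (A : Set G), c = h * c' by
    obtain ⟨h, hh, c', hc', hch⟩ := hsuff
    exact ⟨m * h, mul_mem hm hh, c', hc', by rw [hgmc, hch, mul_assoc]⟩
  have hcA : ∀ a ∈ A, c * a * c⁻¹ ∈ M := by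
    intro a ha
    have h1 : c * a * c⁻¹ = m⁻¹ * (g * a * g⁻¹) * m := by rw [hgmc]; group
    rw [h1]
    exact mul_mem (mul_mem (inv_mem hm) (hg a ha)) hm
  set L : Subgroup G := N ⊓ centralizer (B : Set G) with hLdef
  have hcL : c ∈ L := mem_inf.mpr ⟨hcN, hcB⟩
  -- `A` normalizes `B` and `L`
  have hAB : ∀ a ∈ A, ∀ b ∈ B, a * b * a⁻¹ ∈ B := by
    intro a ha b hb
    exact mem_inf.mpr ⟨mul_mem (mul_mem ha (hBA hb)) (inv_mem ha), Normal.conj_mem inferInstance b (hBN hb) a⟩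
  have hALconj : ∀ a ∈ A, ∀ l ∈ L, a * l * a⁻¹ ∈ L := by
    intro a ha l hl
    refine mem_inf.mpr ⟨Normal.conj_mem inferInstance l (mem_inf.mp hl).1 a, ?_⟩
    rw [mem_centralizer_iff]
    intro b hb
    have h1 : a⁻¹ * b * a ∈ B := by
      have := hAB a⁻¹ (inv_mem ha) b hb
      simpa using this
    have h2 := (mem_centralizer_iff.mp (mem_inf.mp hl).2) _ h1
    calc b * (a * l * a⁻¹) = a * ((a⁻¹ * b * a) * l) * a⁻¹ := by group
      _ = a * (l * (a⁻¹ * b * a)) * a⁻¹ := by rw [h2]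
      _ = a * l * a⁻¹ * b := by group
  have hAL : A ≤ normalizer (L : Set G) := by
    intro a ha
    rw [mem_normalizer_iff]
    intro l
    constructor
    · exact hALconj a ha l
    · intro hl
      have := hALconj a⁻¹ (inv_mem ha) _ hl
      have h1 : a⁻¹ * (a * l * a⁻¹) * a⁻¹⁻¹ = l := by group
      rwa [h1] at this
  set X : Subgroup G := L ⊔ A with hXdef
  have hLX : L ≤ X := le_sup_left
  have hAX : A ≤ X := le_sup_right
  have hXdec : ∀ x ∈ X, ∃ l ∈ L, ∃ a ∈ A, x = l * a := by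
    intro x hx
    rw [hXdef, ← SetLike.mem_coe, coe_mul_of_right_le_normalizer_left L A hAL] at hx
    obtain ⟨l, hl, a, ha, rfl⟩ := Set.mem_mul.mp hx
    exact ⟨l, hl, a, ha, rfl⟩
  have hXnL : X ≤ normalizer (L : Set G) := sup_le le_normalizer hAL
  have hXnB : X ≤ normalizer (B : Set G) := by
    apply sup_le
    · intro l hl
      exact centralizer_le_normalizer _ (mem_inf.mp hl).2
    · intro a ha
      rw [mem_normalizer_iff]
      intro b
      constructor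
      · exact hAB a ha b
      · intro hb
        have := hAB a⁻¹ (inv_mem ha) _ hb
        have h1 : a⁻¹ * (a * b * a⁻¹) * a⁻¹⁻¹ = b := by group
        rwa [h1] at this
  -- objects in `↥X`
  haveI hLXn : (L.subgroupOf X).Normal := normal_subgroupOf_of_le_normalizer hXnL
  haveI hBXn : (B.subgroupOf X).Normal := normal_subgroupOf_of_le_normalizer hXnB
  have hBXp : IsPGroup p (B.subgroupOf X) := hBp.comap_subtype
  have hLBX : L.subgroupOf X ≤ centralizer ((B.subgroupOf X : Subgroup ↥X) : Set ↥X) := by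
    intro l hl
    rw [mem_subgroupOf] at hl
    rw [mem_centralizer_iff]
    intro b hb
    have hb' : (b : G) ∈ B := mem_subgroupOf.mp hb
    have := (mem_centralizer_iff.mp (mem_inf.mp hl).2) _ hb'
    exact Subtype.ext (by simpa using this)
  -- the index of `M ∩ X` in `X` is prime to `p`
  have hF1 := not_dvd_relIndex_centralizer N P M hNT hctrl B hBM hBN hBp
  have hsup : M.subgroupOf X ⊔ L.subgroupOf X = ⊤ := by
    rw [eq_top_iff]
    intro y _
    obtain ⟨l, hl, a, ha, hy⟩ := hXdec y y.2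
    have hy' : y = (⟨l, hLX hl⟩ : ↥X) * (⟨a, hAX ha⟩ : ↥X) := Subtype.ext hy
    rw [hy']
    exact mul_mem (mem_sup_right (mem_subgroupOf.mpr hl)) (mem_sup_left (mem_subgroupOf.mpr (hAM ha)))
  have hF3 : ¬ p ∣ (M.subgroupOf X).index := by
    rw [index_eq_relIndex_of_sup_eq_top _ _ hsup]
    have h1 : L.subgroupOf X ⊓ M.subgroupOf X = (L ⊓ M).subgroupOf X := by
      ext x; simp [mem_subgroupOf]
    rw [h1, relIndex_subgroupOf hLX]
    exact hF1
  -- the conjugate `A' = c A c⁻¹` inside `X`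
  set A' : Subgroup G := A.map (MulAut.conj c).toMonoidHom with hA'def
  have hA'mem : ∀ x, x ∈ A' ↔ ∃ a ∈ A, c * a * c⁻¹ = x := by
    intro x
    rw [hA'def, mem_map]
    simp [MulAut.conj_apply]
  have hA'M : A' ≤ M := by
    intro x hx
    obtain ⟨a, ha, rfl⟩ := (hA'mem x).mp hx
    exact hcA a ha
  have hA'X : A' ≤ X := by
    intro x hx
    obtain ⟨a, ha, rfl⟩ := (hA'mem x).mp hx
    exact mul_mem (mul_mem (hLX hcL) (hAX ha)) (inv_mem (hLX hcL))
  have hA'p : IsPGroup p A' := hA.map _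
  -- a Sylow subgroup of `X` inside `M` containing `A'`
  obtain ⟨S, hSM, hA'S⟩ : ∃ S : Sylow p ↥X, (S : Subgroup ↥X) ≤ M.subgroupOf X ∧
      A'.subgroupOf X ≤ (S : Subgroup ↥X) := by
    have hle : A'.subgroupOf X ≤ M.subgroupOf X := by
      intro x hx
      exact mem_subgroupOf.mpr (hA'M (mem_subgroupOf.mp hx))
    have hp' : IsPGroup p ((A'.subgroupOf X).subgroupOf (M.subgroupOf X)) :=
      (hA'p.comap_subtype).comap_subtype
    obtain ⟨R₀, hR₀⟩ := hp'.exists_le_sylow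
    have hRp : IsPGroup p ((R₀ : Subgroup ↥(M.subgroupOf X)).map (M.subgroupOf X).subtype) :=
      R₀.isPGroup'.map _
    have hRidx : ¬ p ∣ ((R₀ : Subgroup ↥(M.subgroupOf X)).map (M.subgroupOf X).subtype).index := by
      rw [index_map_subtype]
      intro hdvd
      rcases (Nat.Prime.dvd_mul Fact.out).mp hdvd with h | h
      · exact R₀.not_dvd_index h
      · exact hF3 h
    refine ⟨hRp.toSylow hRidx, ?_, ?_⟩
    · intro x hx
      obtain ⟨r, -, rfl⟩ := hx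
      exact r.2
    · intro x hx
      exact ⟨⟨x, hle hx⟩, hR₀ (by simpa [mem_subgroupOf] using hx), rfl⟩
  -- conjugate `A` into `S` inside `M ∩ X`
  have hAXle : A.subgroupOf X ≤ M.subgroupOf X := by
    intro x hx
    exact mem_subgroupOf.mpr (hAM (mem_subgroupOf.mp hx))
  obtain ⟨u, hu, huA⟩ := exists_conj_le_sylow_of_le S (M.subgroupOf X) (A.subgroupOf X) hSM hAXle
    hA.comap_subtype
  set cX : ↥X := ⟨c, hLX hcL⟩ with hcX
  -- apply the chain lemma
  have hchain := chain_control X.subtype (L.subgroupOf X) (B.subgroupOf X) hBXp hLBX M S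
    (fun s hs => mem_subgroupOf.mp (hSM hs))
    (by
      -- the inductive hypothesis, transported to `X`
      intro D hDS hBD hcase x hx
      set DG : Subgroup G := D.map X.subtype with hDG
      have hDGM : DG ≤ M := by
        rintro _ ⟨d, hd, rfl⟩
        exact mem_subgroupOf.mp (hSM (hDS hd))
      have hDGp : IsPGroup p DG := (S.isPGroup'.to_le hDS).map _
      have hBDG : B ≤ DG ⊓ N := by
        intro b hb
        refine mem_inf.mpr ⟨⟨⟨b, hAX (hBA hb)⟩, hBD (mem_subgroupOf.mpr hb), rfl⟩, hBN hb⟩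
      have hlt : B < DG ⊓ N := by
        refine lt_of_le_of_ne hBDG ?_
        intro heq
        apply hcase
        intro d hd
        rw [mem_subgroupOf, heq]
        obtain ⟨hdD, hdLB⟩ := mem_inf.mp hd
        refine mem_inf.mpr ⟨⟨d, hdD, rfl⟩, ?_⟩
        have hle : L.subgroupOf X ⊔ B.subgroupOf X ≤ N.subgroupOf X := by
          apply sup_le
          · intro y hy; exact mem_subgroupOf.mpr (mem_inf.mp (mem_subgroupOf.mp hy)).1
          · intro y hy; exact mem_subgroupOf.mpr (hBN (mem_subgroupOf.mp hy))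
        exact mem_subgroupOf.mp (hle hdLB)
      have hcard : Nat.card N - Nat.card ↥(DG ⊓ N : Subgroup G) < k := by
        have h1 := card_lt_of_lt_sub hlt
        have h2 : Nat.card ↥(DG ⊓ N : Subgroup G) ≤ Nat.card N := Subgroup.card_le_of_le inf_le_right
        have h3 : Nat.card B ≤ Nat.card N := Subgroup.card_le_of_le hBN
        omega
      have hxinv : ∀ d ∈ DG, (x : G)⁻¹ * d * ((x : G)⁻¹)⁻¹ ∈ M := by
        rintro _ ⟨d, hd, rfl⟩
        apply hDGM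
        have h1 : x⁻¹ * d * x⁻¹⁻¹ ∈ D := (mem_normalizer_iff.mp (inv_mem hx) d).mp hd
        exact ⟨_, h1, by simp⟩
      obtain ⟨h, hh, c₀, hc₀, hxhc⟩ := ih _ hcard DG hDGM hDGp rfl (x : G)⁻¹ hxinv
      refine ⟨c₀⁻¹, ?_, h⁻¹, inv_mem hh, ?_⟩
      · have : (X.subtype '' (D : Set ↥X)) = (DG : Set G) := by
          rw [hDG, coe_map]
        rw [this]
        exact inv_mem hc₀
      · have : (X.subtype x) = ((x : G)⁻¹)⁻¹ := by simp
        rw [this, hxhc]; group)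
    ((A'.subgroupOf X : Subgroup ↥X) : Set ↥X)
    (by
      intro b hb
      have hb' : (b : G) ∈ B := mem_subgroupOf.mp hb
      show b ∈ A'.subgroupOf X
      rw [mem_subgroupOf, hA'mem]
      refine ⟨b, hBA hb', ?_⟩
      have := mem_centralizer_iff.mp hcB _ hb'
      calc c * (b : G) * c⁻¹ = (b : G) * c * c⁻¹ := by rw [this]
        _ = b := by group)
    (fun x hx => hA'S hx)
    (by
      intro y
      obtain ⟨l, hl, a, ha, hy⟩ := hXdec y y.2
      have hl' : l * (a * c * a⁻¹) * c⁻¹ ∈ L :=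
        mul_mem (mul_mem hl (hALconj a ha c hcL)) (inv_mem hcL)
      refine ⟨⟨l * (a * c * a⁻¹) * c⁻¹, hLX hl'⟩, mem_subgroupOf.mpr hl',
        ⟨c * a * c⁻¹, hA'X ((hA'mem _).mpr ⟨a, ha, rfl⟩)⟩, ?_, ?_⟩
      · show _ ∈ A'.subgroupOf X
        rw [mem_subgroupOf]
        exact (hA'mem _).mpr ⟨a, ha, rfl⟩
      · apply Subtype.ext
        simp only [Subgroup.coe_mul]
        rw [hy]; group)
    (cX * u⁻¹)
    (by
      rintro _ ⟨a', ha', rfl⟩
      have ha'' : (a' : G) ∈ A' := mem_subgroupOf.mp ha'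
      obtain ⟨a, ha, hca⟩ := (hA'mem _).mp ha''
      have h1 := huA ⟨a, hAX ha⟩ (mem_subgroupOf.mpr ha)
      have h2 : (cX * u⁻¹)⁻¹ * a' * (cX * u⁻¹) = u * ⟨a, hAX ha⟩ * u⁻¹ := by
        apply Subtype.ext
        simp only [Subgroup.coe_mul, Subgroup.coe_inv, hcX, ← hca]
        group
      show (cX * u⁻¹)⁻¹ * a' * (cX * u⁻¹) ∈ (S : Subgroup ↥X)
      rw [h2]
      exact h1)
  obtain ⟨c', hc', m', hm', hw⟩ := hchain
  -- unpack
  have hw' : c * (u : G)⁻¹ = c' * m' := by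
    have : X.subtype (cX * u⁻¹) = c * (u : G)⁻¹ := by simp [hcX]
    rw [← this]; exact hw
  have hc'A : ∀ a ∈ A, (c * a * c⁻¹) * c' = c' * (c * a * c⁻¹) := by
    intro a ha
    rw [mem_centralizer_iff] at hc'
    apply hc'
    refine ⟨⟨c * a * c⁻¹, hA'X ((hA'mem _).mpr ⟨a, ha, rfl⟩)⟩, ?_, rfl⟩
    show _ ∈ A'.subgroupOf X
    rw [mem_subgroupOf]
    exact (hA'mem _).mpr ⟨a, ha, rfl⟩
  refine ⟨m' * (u : G), mul_mem hm' (mem_subgroupOf.mp hu), c⁻¹ * c' * c, ?_, ?_⟩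
  · rw [mem_centralizer_iff]
    intro a ha
    have := hc'A a ha
    calc a * (c⁻¹ * c' * c) = c⁻¹ * ((c * a * c⁻¹) * c') * c := by group
      _ = c⁻¹ * (c' * (c * a * c⁻¹)) * c := by rw [this]
      _ = c⁻¹ * c' * c * a := by group
  · -- c = c' m' u, so c = (m' u) (c⁻¹ c' c)
    have h1 : c = c' * m' * (u : G) := by
      calc c = c * (u : G)⁻¹ * (u : G) := by group
        _ = c' * m' * (u : G) := by rw [hw']
    have h2 : m' * (u : G) = c'⁻¹ * c := by rw [h1]; group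
    rw [h2]; group

end lift

end Cfsg.Agent.Helper52
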