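import Cfsg.Agent.Helper39.X648.Defs

/-!
# Piece (A17a) for helper39's S3366: the relation `j r2 j⁻¹ = r1 r2⁻¹ c⁻¹`.
-/

set_option autoImplicit false

namespace Cfsg.Agent.Helper52.X648

open Cfsg.Agent.Helper39.X648

variable {X : Type*} [Group X] [Finite X] {R Z : Subgroup X} {u : X}
variable {t : X}
variable {Q : Subgroup X}
variable {i r1 : X}
variable {j d : X}

/-- pure group-word version of (A17a) -/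
theorem rel_j_r2_aux {G : Type*} [Group G] {i r1 r2 c j : G}
    (hr2 : r2 = i * r1 * i⁻¹) (hi2 : i * r2 * i⁻¹ = r1⁻¹)
    (hj1 : j * r1 * j⁻¹ = r1 * r2 * c) (hji : j * i * j⁻¹ = i⁻¹)
    (hc : c = r1 * r2 * r1⁻¹ * r2⁻¹) (hcc : ∀ g : G, g * c = c * g) (hc3 : c ^ 3 = 1) :
    j * r2 * j⁻¹ = r1 * r2⁻¹ * c⁻¹ := by
  have e1 : i⁻¹ * r1 * i = r2⁻¹ := by
    calc i⁻¹ * r1 * i = i⁻¹ * (r1⁻¹)⁻¹ * i := by rw [inv_inv]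
      _ = i⁻¹ * (i * r2 * i⁻¹)⁻¹ * i := by rw [hi2]
      _ = r2⁻¹ := by group
  have e2 : i⁻¹ * r2 * i = r1 := by
    rw [hr2]; group
  have e3 : c * r2 * r1 = r1 * r2 := by
    rw [hc]; group
  have e4 : i⁻¹ * c * i = c := by
    rw [mul_assoc, ← hcc i, inv_mul_cancel_left]
  have e5 : r2⁻¹ * r1 = c * (r1 * r2⁻¹) := by
    calc r2⁻¹ * r1 = r2⁻¹ * (r1 * r2) * r2⁻¹ := by group
      _ = r2⁻¹ * (c * r2 * r1) * r2⁻¹ := by rw [e3]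
      _ = (r2⁻¹ * c) * (r2 * r1 * r2⁻¹) := by group
      _ = (c * r2⁻¹) * (r2 * r1 * r2⁻¹) := by rw [hcc r2⁻¹]
      _ = c * (r1 * r2⁻¹) := by group
  have hc2 : c * c = c⁻¹ := by
    apply eq_inv_of_mul_eq_one_left
    rw [← hc3, pow_succ, pow_two]
  calc j * r2 * j⁻¹ = (j * i * j⁻¹) * (j * r1 * j⁻¹) * (j * i * j⁻¹)⁻¹ := by
        conv_lhs => rw [hr2]
        group
    _ = i⁻¹ * (r1 * r2 * c) * i := by rw [hji, hj1, inv_inv]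
    _ = (i⁻¹ * r1 * i) * (i⁻¹ * r2 * i) * (i⁻¹ * c * i) := by group
    _ = r2⁻¹ * r1 * c := by rw [e1, e2, e4]
    _ = c * (r1 * r2⁻¹) * c := by rw [e5]
    _ = (r1 * r2⁻¹) * c * c := by rw [← hcc (r1 * r2⁻¹)]
    _ = r1 * r2⁻¹ * (c * c) := by group
    _ = r1 * r2⁻¹ * c⁻¹ := by rw [hc2]

/-- (A17a) the relation `j r2 j⁻¹ = r1 r2⁻¹ c⁻¹` -/
theorem QSetup.rel_j_r2 (h : QSetup R Z u t Q) (hg : Gens R Z t Q i r1)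
    (hj1 : j * r1 * j⁻¹ = r1 * (i * r1 * i⁻¹) * cm r1 (i * r1 * i⁻¹))
    (hji : j * i * j⁻¹ = i⁻¹) :
    j * (i * r1 * i⁻¹) * j⁻¹ = r1 * (i * r1 * i⁻¹)⁻¹ * (cm r1 (i * r1 * i⁻¹))⁻¹ := by
  have hcc : ∀ g : X, g * cm r1 (i * r1 * i⁻¹) = cm r1 (i * r1 * i⁻¹) * g :=
    fun g => h.setup.Zcen _ hg.c_mem g
  have hc3 : cm r1 (i * r1 * i⁻¹) ^ 3 = 1 :=
    h.setup.base.exp3 _ (h.setup.base.Z_le hg.c_mem)
  exact rel_j_r2_aux rfl hg.i_r2 hj1 hji rfl hcc hc3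

end Cfsg.Agent.Helper52.X648
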