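import Cfsg.Agent.Helper39.X648.Defs

/-!
# Piece (A17b) for helper39's S3366: the relation `d i d⁻¹ = j`.
-/

set_option autoImplicit false

namespace Cfsg.Agent.Helper52.X648

open Cfsg.Agent.Helper39.X648

variable {X : Type*} [Group X] [Finite X] {R Z : Subgroup X} {u : X}
variable {t : X}
variable {Q : Subgroup X}
variable {i r1 : X}
variable {j d : X}

/-- (A17b) the relation `d i d⁻¹ = j` -/
theorem QSetup.rel_d_i (h : QSetup R Z u t Q) (hg : Gens R Z t Q i r1) (hj : j ∈ Q)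
    (hj1 : j * r1 * j⁻¹ = r1 * (i * r1 * i⁻¹) * cm r1 (i * r1 * i⁻¹))
    (hdt : d * t = t * d) (hd1 : d * r1 = r1 * d)
    (hd2 : d * (i * r1 * i⁻¹) * d⁻¹ = r1 * (i * r1 * i⁻¹) * cm r1 (i * r1 * i⁻¹)) :
    d * i * d⁻¹ = j := by
  have hs1 : r1 * (i * r1 * i⁻¹) * cm r1 (i * r1 * i⁻¹) ≠ 1 := by
    rw [← hj1]
    intro h1
    apply hg.r1_ne
    have : r1 = j⁻¹ * (j * r1 * j⁻¹) * j := by group
    rw [this, h1]; group
  obtain ⟨q, -, -, hq⟩ := h.reg r1 hg.r1_mem hg.r1_ne _ hg.r12_mem hs1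
  have hdiQ : d * i * d⁻¹ ∈ Q := h.isQ.norm d hdt i hg.i_mem
  have hdr : d⁻¹ * r1 * d = r1 := by
    rw [mul_assoc, ← hd1, inv_mul_cancel_left]
  have hdi1 : (d * i * d⁻¹) * r1 * (d * i * d⁻¹)⁻¹ =
      r1 * (i * r1 * i⁻¹) * cm r1 (i * r1 * i⁻¹) := by
    rw [← hd2]
    calc (d * i * d⁻¹) * r1 * (d * i * d⁻¹)⁻¹ = d * (i * (d⁻¹ * r1 * d) * i⁻¹) * d⁻¹ := by group
      _ = d * (i * r1 * i⁻¹) * d⁻¹ := by rw [hdr]
  rw [hq _ hdiQ hdi1, hq j hj hj1]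

end Cfsg.Agent.Helper52.X648
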