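import Mathlib
import Cfsg.Agent.Helper32.FExtI1aAux

/-!
# S2500 part 7, piece (7C), abstract part: two alternating spaces over isomorphic fields `K ≅ K₀`
(finite over `F`) whose forms are `K`-self-adjoint are isometric by a semilinear isometry.
-/

set_option autoImplicit false

namespace Cfsg.Agent.Helper52.Cov2.P7

open Module

/-- an `F`-linear isometry intertwining the `K`- and `K₀`-structures along `σ : K ≃ₐ[F] K₀` -/
theorem exists_intertwiner {F K K₀ V V₀ : Type*} [Field F] [Field K] [Field K₀]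
    [Algebra F K] [Algebra F K₀] [FiniteDimensional F K] [FiniteDimensional F K₀]
    [AddCommGroup V] [Module F V] [Module K V] [IsScalarTower F K V] [FiniteDimensional K V]
    [AddCommGroup V₀] [Module F V₀] [Module K₀ V₀] [IsScalarTower F K₀ V₀] [FiniteDimensional K₀ V₀]
    (σ : K ≃ₐ[F] K₀)
    (f : V →ₗ[F] V →ₗ[F] F)
    (hsa : ∀ (a : K) (u v : V), f (a • u) v = f u (a • v))
    (halt : ∀ (a : K) (v : V), f (a • v) v = 0)
    (hnd : ∀ u : V, (∀ v, f u v = 0) → u = 0)
    (f₀ : V₀ →ₗ[F] V₀ →ₗ[F] F)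
    (hsa₀ : ∀ (a : K₀) (u v : V₀), f₀ (a • u) v = f₀ u (a • v))
    (halt₀ : ∀ (a : K₀) (v : V₀), f₀ (a • v) v = 0)
    (hnd₀ : ∀ u : V₀, (∀ v, f₀ u v = 0) → u = 0)
    (hdim : Module.finrank F V = Module.finrank F V₀) :
    ∃ Θ : V →ₗ[F] V₀, (∀ u v, f₀ (Θ u) (Θ v) = f u v) ∧
      ∀ (a : K) (v : V), Θ (a • v) = σ a • Θ v := by
  classical
  obtain ⟨φ₀, hφ₀1⟩ : ∃ φ₀ : Module.Dual F K₀, φ₀ 1 ≠ 0 := by
    by_contra hcon
    push Not at hcon
    exact one_ne_zero ((Module.forall_dual_apply_eq_zero_iff F (1 : K₀)).1 hcon)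
  have hφ₀ : φ₀ ≠ 0 := fun h => hφ₀1 (by rw [h]; rfl)
  let φ : K →ₗ[F] F := φ₀ ∘ₗ σ.toLinearMap
  have hφapp : ∀ x : K, φ x = φ₀ (σ x) := fun _ => rfl
  have hφ : φ ≠ 0 := by
    intro h
    apply hφ₀1
    have h1 : φ 1 = 0 := by rw [h]; rfl
    rw [hφapp, map_one] at h1
    exact h1
  obtain ⟨-, n, b, hb⟩ := Cfsg.Agent.Helper32.FExtI1aAux.exists_symp_basis f hsa halt hnd φ hφ
  obtain ⟨-, n₀, b₀, hb₀⟩ :=
    Cfsg.Agent.Helper32.FExtI1aAux.exists_symp_basis f₀ hsa₀ halt₀ hnd₀ φ₀ hφ₀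
  -- `n = n₀`
  have hn : n = n₀ := by
    have h1 : Module.finrank F K * Module.finrank K V = Module.finrank F V :=
      Module.finrank_mul_finrank F K V
    have h2 : Module.finrank F K₀ * Module.finrank K₀ V₀ = Module.finrank F V₀ :=
      Module.finrank_mul_finrank F K₀ V₀
    have h3 : Module.finrank K V = n + n := by
      rw [Module.finrank_eq_card_basis b, Fintype.card_sum, Fintype.card_fin]
    have h4 : Module.finrank K₀ V₀ = n₀ + n₀ := by
      rw [Module.finrank_eq_card_basis b₀, Fintype.card_sum, Fintype.card_fin]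
    have h5 : Module.finrank F K = Module.finrank F K₀ := σ.toLinearEquiv.finrank_eq
    have h6 : 0 < Module.finrank F K := Module.finrank_pos
    rw [h3] at h1
    rw [h4, ← h5] at h2
    have h7 : Module.finrank F K * (n + n) = Module.finrank F K * (n₀ + n₀) := by
      rw [h1, h2, hdim]
    have h8 := Nat.eq_of_mul_eq_mul_left h6 h7
    omega
  subst hn
  -- the map
  let Θ : V →ₗ[F] V₀ :=
    { toFun := fun v => ∑ s, σ (b.repr v s) • b₀ s
      map_add' := by
        intro u v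
        simp only [map_add, Finsupp.add_apply, add_smul, Finset.sum_add_distrib]
      map_smul' := by
        intro c v
        rw [RingHom.id_apply, Finset.smul_sum]
        refine Finset.sum_congr rfl fun s _ => ?_
        rw [← algebraMap_smul K c v, map_smul, Finsupp.smul_apply, smul_eq_mul,
          ← Algebra.smul_def, map_smul, smul_assoc] }
  have hΘ : ∀ v, Θ v = ∑ s, σ (b.repr v s) • b₀ s := fun _ => rfl
  refine ⟨Θ, ?_, ?_⟩
  · intro u v
    have hu : u = ∑ s, b.repr u s • b s := (b.sum_repr u).symm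
    have hv : v = ∑ s, b.repr v s • b s := (b.sum_repr v).symm
    rw [hΘ, hΘ]
    conv_rhs => rw [hu, hv]
    simp only [map_sum, LinearMap.sum_apply]
    refine Finset.sum_congr rfl fun s _ => ?_
    refine Finset.sum_congr rfl fun t _ => ?_
    rw [hb₀, hb, hφapp, map_mul σ]
  · intro a v
    rw [hΘ, hΘ, Finset.smul_sum]
    refine Finset.sum_congr rfl fun s _ => ?_
    rw [map_smul, Finsupp.smul_apply, smul_eq_mul, map_mul σ, mul_smul]

end Cfsg.Agent.Helper52.Cov2.P7
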