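import Mathlib
import Cfsg.Agent.Helper43.Cov2.P7Defs
import Cfsg.Agent.Helper13.Symp
import Cfsg.Agent.Helper13.SympTrans
import Cfsg.Agent.Helper32.FExtKVec
import Cfsg.Agent.Helper52.Cov2P7Ca

/-!
# S2500 part 7, piece (7C) for helper43: an element of `Sp₆(F)` normalising some self-adjoint cubic
field is conjugate into the normaliser of a given one.

`exists_conj_cubic`: two self-adjoint cubic fields of matrices are conjugate under `Sp₆(F)`.
-/

set_option autoImplicit false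
set_option linter.style.haveILetI false

namespace Cfsg.Agent.Helper52.Cov2.P7

open Matrix Cfsg Cfsg.Geo Cfsg.Agent.Helper43.Cov2.P7 Cfsg.Agent.Helper13
  Cfsg.Agent.Helper32.FExtKVec

variable {F : Type*} [Field F]

/-- two self-adjoint cubic fields of matrices are conjugate under `Sp₆(F)` -/
theorem exists_conj_cubic [Fintype F] (h2 : (2 : F) ≠ 0) (K K₀ : Subalgebra F (M6 F))
    (hK : IsCubic K) (hK₀ : IsCubic K₀) :
    ∃ X : Sp6 F, (∀ k ∈ K, (X : M6 F) * k * ((X⁻¹ : Sp6 F) : M6 F) ∈ K₀) ∧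
      ∀ k₀ ∈ K₀, ∃ k ∈ K, (X : M6 F) * k * ((X⁻¹ : Sp6 F) : M6 F) = k₀ := by
  classical
  have h3 : 0 < 3 := by norm_num
  letI : Field ↥K := (isField_sub hK.1 h3).toField
  letI : Field ↥K₀ := (isField_sub hK₀.1 h3).toField
  haveI : FiniteDimensional F ↥K :=
    Module.finite_of_finrank_pos (by rw [hK.1.finrank_eq]; exact h3)
  haveI : FiniteDimensional F ↥K₀ :=
    Module.finite_of_finrank_pos (by rw [hK₀.1.finrank_eq]; exact h3)
  haveI : Finite ↥K₀ := Module.finite_of_finite F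
  obtain ⟨τ⟩ : Nonempty (↥K →ₐ[F] ↥K₀) :=
    FiniteField.nonempty_algHom_of_finrank_dvd (by rw [hK.1.finrank_eq, hK₀.1.finrank_eq])
  have hτinj : Function.Injective τ := τ.toRingHom.injective
  have hτsurj : Function.Surjective τ := by
    have h := LinearMap.injective_iff_surjective_of_finrank_eq_finrank
      (f := τ.toLinearMap) (by rw [hK.1.finrank_eq, hK₀.1.finrank_eq])
    exact h.1 hτinj
  let σ : ↥K ≃ₐ[F] ↥K₀ := AlgEquiv.ofBijective τ ⟨hτinj, hτsurj⟩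
  -- the forms
  let f : KVec K →ₗ[F] KVec K →ₗ[F] F :=
    LinearMap.mk₂ F (fun u v => sympForm 3 F (ofKVec K u) (ofKVec K v))
      (fun u u' v => sympForm_add_left _ _ _) (fun c u v => sympForm_smul_left c _ _)
      (fun u v v' => sympForm_add_right _ _ _) (fun c u v => sympForm_smul_right c _ _)
  let f₀ : KVec K₀ →ₗ[F] KVec K₀ →ₗ[F] F :=
    LinearMap.mk₂ F (fun u v => sympForm 3 F (ofKVec K₀ u) (ofKVec K₀ v))
      (fun u u' v => sympForm_add_left _ _ _) (fun c u v => sympForm_smul_left c _ _)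
      (fun u v v' => sympForm_add_right _ _ _) (fun c u v => sympForm_smul_right c _ _)
  have hfapp : ∀ u v, f u v = sympForm 3 F (ofKVec K u) (ofKVec K v) := fun _ _ => rfl
  have hf₀app : ∀ u v, f₀ u v = sympForm 3 F (ofKVec K₀ u) (ofKVec K₀ v) := fun _ _ => rfl
  have halt_gen : ∀ (L : Subalgebra F (M6 F)), IsSelfAdjointFor (sympForm 3 F) L →
      ∀ a ∈ L, ∀ v : V6 F, sympForm 3 F (a *ᵥ v) v = 0 := by
    intro L hL a ha v
    have h1 := hL a ha v v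
    have h4 := sympForm_swap (a *ᵥ v) v
    rw [← h1] at h4
    have h5 : (2 : F) * sympForm 3 F (a *ᵥ v) v = 0 := by linear_combination h4
    rcases mul_eq_zero.1 h5 with h | h
    · exact absurd h h2
    · exact h
  have hnd_gen : ∀ u : V6 F, (∀ v, sympForm 3 F u v = 0) → u = 0 := by
    intro u hu
    by_contra hne
    obtain ⟨x, hx⟩ := sympForm_nondeg_left (m := 3) (u := u) hne
    apply hx
    rw [sympForm_swap, hu x, neg_zero]
  obtain ⟨Θ, hΘiso, hΘsl⟩ := exists_intertwiner (V := KVec K) (V₀ := KVec K₀) σ f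
    (fun a u v => hK.2 a.1 a.2 (ofKVec K u) (ofKVec K v))
    (fun a v => halt_gen K hK.2 a.1 a.2 (ofKVec K v))
    (fun u hu => hnd_gen u hu) f₀
    (fun a u v => hK₀.2 a.1 a.2 (ofKVec K₀ u) (ofKVec K₀ v))
    (fun a v => halt_gen K₀ hK₀.2 a.1 a.2 (ofKVec K₀ v))
    (fun u hu => hnd_gen u hu) rfl
  -- the matrix
  let Θ' : V6 F →ₗ[F] V6 F := Θ
  let X₀ : M6 F := LinearMap.toMatrix' Θ'
  have hX₀v : ∀ v : V6 F, X₀ *ᵥ v = Θ v := fun v => LinearMap.toMatrix'_mulVec Θ' v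
  have hX₀mem : X₀ ∈ Matrix.symplecticGroup (Fin 3) F := by
    rw [mem_symplecticGroup_iff_preserves]
    intro u v
    rw [hX₀v, hX₀v]
    exact hΘiso u v
  have hint : ∀ k : ↥K, X₀ * (k : M6 F) = ((σ k : ↥K₀) : M6 F) * X₀ := by
    intro k
    apply matrix_eq_of_mulVec
    intro v
    rw [← Matrix.mulVec_mulVec, ← Matrix.mulVec_mulVec, hX₀v, hX₀v]
    exact hΘsl k v
  let X : Sp6 F := ⟨X₀, hX₀mem⟩
  have hXc : (X : M6 F) = X₀ := rfl
  have hconj : ∀ k : ↥K, (X : M6 F) * (k : M6 F) * ((X⁻¹ : Sp6 F) : M6 F) = ((σ k : ↥K₀) : M6 F) := by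
    intro k
    rw [hXc, hint k, Matrix.mul_assoc, ← hXc, coe_mul_inv_Sp6, Matrix.mul_one]
  refine ⟨X, ?_, ?_⟩
  · intro k hk
    rw [hconj ⟨k, hk⟩]
    exact (σ ⟨k, hk⟩).2
  · intro k₀ hk₀
    refine ⟨(σ.symm ⟨k₀, hk₀⟩ : ↥K), (σ.symm ⟨k₀, hk₀⟩).2, ?_⟩
    rw [hconj, AlgEquiv.apply_symm_apply]

/-- (7C) -/
theorem conj_into_normK [Fintype F] (h2 : (2 : F) ≠ 0) (K₀ : Subalgebra F (M6 F)) (hK₀ : IsCubic K₀)
    (g : Sp6 F) (h : NormCubic (g : M6 F)) : ∃ x : Sp6 F, x * g * x⁻¹ ∈ normK K₀ := by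
  classical
  obtain ⟨K, hK, hg⟩ := h
  obtain ⟨X, hX1, hX2⟩ := exists_conj_cubic h2 K K₀ hK hK₀
  refine ⟨X, ?_⟩
  have e1 : (g : M6 F) * ((X⁻¹ : Sp6 F) : M6 F) * (((X * g * X⁻¹)⁻¹ : Sp6 F) : M6 F) =
      ((X⁻¹ : Sp6 F) : M6 F) := by
    rw [← coe_mul_Sp6, ← coe_mul_Sp6]
    congr 1
    group
  have e2 : ((X * g * X⁻¹ : Sp6 F) : M6 F) * (X : M6 F) = (X : M6 F) * (g : M6 F) := by
    rw [← coe_mul_Sp6, ← coe_mul_Sp6]
    congr 1
    group
  have hfw : ∀ k₀ ∈ K₀, ((X * g * X⁻¹ : Sp6 F) : M6 F) * k₀ *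
      (((X * g * X⁻¹)⁻¹ : Sp6 F) : M6 F) ∈ K₀ := by
    intro k₀ hk₀
    obtain ⟨k, hk, rfl⟩ := hX2 k₀ hk₀
    obtain ⟨k', hk', hgk⟩ := hg k hk
    have : ((X * g * X⁻¹ : Sp6 F) : M6 F) * ((X : M6 F) * k * ((X⁻¹ : Sp6 F) : M6 F)) *
        (((X * g * X⁻¹)⁻¹ : Sp6 F) : M6 F) = (X : M6 F) * k' * ((X⁻¹ : Sp6 F) : M6 F) := by
      calc ((X * g * X⁻¹ : Sp6 F) : M6 F) * ((X : M6 F) * k * ((X⁻¹ : Sp6 F) : M6 F)) *
            (((X * g * X⁻¹)⁻¹ : Sp6 F) : M6 F)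
          = (((X * g * X⁻¹ : Sp6 F) : M6 F) * (X : M6 F)) * k * ((X⁻¹ : Sp6 F) : M6 F) *
              (((X * g * X⁻¹)⁻¹ : Sp6 F) : M6 F) := by simp only [Matrix.mul_assoc]
        _ = (X : M6 F) * ((g : M6 F) * k) * ((X⁻¹ : Sp6 F) : M6 F) *
              (((X * g * X⁻¹)⁻¹ : Sp6 F) : M6 F) := by rw [e2]; simp only [Matrix.mul_assoc]
        _ = (X : M6 F) * k' * ((g : M6 F) * ((X⁻¹ : Sp6 F) : M6 F) *
              (((X * g * X⁻¹)⁻¹ : Sp6 F) : M6 F)) := by rw [hgk]; simp only [Matrix.mul_assoc]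
        _ = (X : M6 F) * k' * ((X⁻¹ : Sp6 F) : M6 F) := by rw [e1]
    rw [this]
    exact hX1 k' hk'
  rw [mem_normK]
  intro k
  constructor
  · exact hfw k
  · intro hk
    haveI : FiniteDimensional F ↥K₀ :=
      Module.finite_of_finrank_pos (by rw [hK₀.1.finrank_eq]; norm_num)
    let c : ↥K₀ →ₗ[F] ↥K₀ :=
      { toFun := fun a => ⟨((X * g * X⁻¹ : Sp6 F) : M6 F) * a.1 *
          (((X * g * X⁻¹)⁻¹ : Sp6 F) : M6 F), hfw a.1 a.2⟩
        map_add' := by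
          intro a b
          apply Subtype.ext
          show ((X * g * X⁻¹ : Sp6 F) : M6 F) * (a.1 + b.1) * _ = _ + _
          rw [Matrix.mul_add, Matrix.add_mul]
        map_smul' := by
          intro r a
          apply Subtype.ext
          show ((X * g * X⁻¹ : Sp6 F) : M6 F) * (r • a.1) * _ = r • (_ * a.1 * _)
          rw [Matrix.mul_smul, Matrix.smul_mul] }
    have hcancel : ∀ a b : M6 F, ((X * g * X⁻¹ : Sp6 F) : M6 F) * a *
        (((X * g * X⁻¹)⁻¹ : Sp6 F) : M6 F) = ((X * g * X⁻¹ : Sp6 F) : M6 F) * b *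
        (((X * g * X⁻¹)⁻¹ : Sp6 F) : M6 F) → a = b := by
      intro a b hab
      have h1 := congrArg (fun m => (((X * g * X⁻¹)⁻¹ : Sp6 F) : M6 F) * m *
        ((X * g * X⁻¹ : Sp6 F) : M6 F)) hab
      simp only [Matrix.mul_assoc] at h1
      rw [coe_inv_mul_Sp6, Matrix.mul_one, Matrix.mul_one, ← Matrix.mul_assoc, ← Matrix.mul_assoc,
        coe_inv_mul_Sp6, Matrix.one_mul, Matrix.one_mul] at h1
      exact h1
    have hinj : Function.Injective c := by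
      intro a b hab
      apply Subtype.ext
      exact hcancel a.1 b.1 (congrArg Subtype.val hab)
    have hsurj : Function.Surjective c := LinearMap.surjective_of_injective hinj
    obtain ⟨k₁, hk₁⟩ := hsurj ⟨_, hk⟩
    have h1 := hcancel k₁.1 k (congrArg Subtype.val hk₁)
    rw [← h1]
    exact k₁.2

end Cfsg.Agent.Helper52.Cov2.P7
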