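import Mathlib
import Cfsg.Agent.S0345
import Cfsg.Agent.S0881
import Cfsg.Agent.Helper15.ZassKernel
import Cfsg.Agent.Helper15.ElemFacts
import Cfsg.Agent.Helper80.Pullback

/-!
# Feit's `2e ≥ h - 1` (S0885), lemma (W3) (helper52, for helper79)

In a simple Zassenhaus group the point stabiliser `G_a` is `H ⋊ G_{ab}` with `G_{ab}` cyclic, so an
irreducible character of `G_a` that is trivial on the Frobenius kernel `H` is linear.
-/

set_option autoImplicit false

namespace Cfsg.Agent.Helper52.FeitW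

open MulAction Cfsg

theorem lin_of_trivial_on_kernel {G Ω : Type*} [Group G] [Finite G] [MulAction G Ω] [Fintype Ω]
    (hZ : Cfsg.IsZassenhausGroup G Ω) {a b : Ω} (hab : a ≠ b) [IsSimpleGroup G] (H : Subgroup G)
    (hHa : H ≤ MulAction.stabilizer G a) (hHcard : Nat.card H + 1 = Fintype.card Ω)
    (hHfix : ∀ u ∈ H, u ≠ 1 → ∀ c : Ω, u • c = c → c = a)
    (μ : MulAction.stabilizer G a → ℂ) (hμ : Cfsg.IsIrrCharacter (MulAction.stabilizer G a) μ)
    (hμH : ∀ u : MulAction.stabilizer G a, (u : G) ∈ H → μ u = μ 1) : μ 1 = 1 := by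
  classical
  obtain ⟨hcyc, -⟩ := Cfsg.Agent.S0345.result hZ hab
  set N : Subgroup (stabilizer G a) := H.subgroupOf (stabilizer G a) with hN
  have hNn : N.Normal := by
    refine ⟨fun n hn g => ?_⟩
    rw [hN, Subgroup.mem_subgroupOf] at hn ⊢
    have hcoe : ((g * n * g⁻¹ : stabilizer G a) : G) = (g : G) * (n : G) * (g : G)⁻¹ := by simp
    by_cases hn1 : (n : G) = 1
    · rw [hcoe, hn1, mul_one, mul_inv_cancel]
      exact H.one_mem
    · apply Helper15.Zass.mem_kernel_of_fix_only hZ a H hHa hHcard hHfix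
      · exact (g * n * g⁻¹).2
      · intro c hc
        rw [hcoe, mul_smul, mul_smul] at hc
        have h1 : (n : G) • ((g : G)⁻¹ • c) = (g : G)⁻¹ • c := by
          have := congrArg (fun x => (g : G)⁻¹ • x) hc
          simpa using this
        have h2 := hHfix n hn hn1 _ h1
        have h3 : c = (g : G) • a := inv_smul_eq_iff.mp h2
        rw [h3]
        exact g.2
  -- every coset of `N` in `G_a` is represented by an element of `G_{ab}`
  have hrep : ∀ g : stabilizer G a, ∃ x : stabilizer G a, (x : G) ∈ stabilizer G b ∧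
      (QuotientGroup.mk x : stabilizer G a ⧸ N) = QuotientGroup.mk g := by
    intro g
    have hgb : (g : G)⁻¹ • b ≠ a := by
      intro h
      have hga : (g : G)⁻¹ • a = a := (g⁻¹).2
      exact hab (MulAction.injective (g : G)⁻¹ (hga.trans h.symm))
    obtain ⟨v, hvH, hvb⟩ := Cfsg.Agent.S0881.exists_mem_kernel_smul_eq a H hHa hHcard hHfix
      (Ne.symm hab) hgb
    refine ⟨g * ⟨v, hHa hvH⟩, ?_, ?_⟩
    · show ((g : G) * v) • b = b
      rw [mul_smul, hvb, smul_inv_smul]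
    · rw [QuotientGroup.eq, hN, Subgroup.mem_subgroupOf]
      have : (((g * ⟨v, hHa hvH⟩)⁻¹ * g : stabilizer G a) : G) = v⁻¹ := by simp
      rw [this]
      exact H.inv_mem hvH
  have hcommE : ∀ y₁ y₂ : ↥(stabilizer G a ⊓ stabilizer G b), y₁ * y₂ = y₂ * y₁ := by
    obtain ⟨g0, hg0⟩ := hcyc.exists_generator
    intro y₁ y₂
    obtain ⟨i, rfl⟩ := Subgroup.mem_zpowers_iff.mp (hg0 y₁)
    obtain ⟨j, rfl⟩ := Subgroup.mem_zpowers_iff.mp (hg0 y₂)
    exact (Commute.refl g0).zpow_zpow i j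
  have hcomm : ∀ q₁ q₂ : stabilizer G a ⧸ N, q₁ * q₂ = q₂ * q₁ := by
    intro q₁ q₂
    obtain ⟨g₁, rfl⟩ := QuotientGroup.mk_surjective q₁
    obtain ⟨g₂, rfl⟩ := QuotientGroup.mk_surjective q₂
    obtain ⟨x₁, hx₁, h₁⟩ := hrep g₁
    obtain ⟨x₂, hx₂, h₂⟩ := hrep g₂
    rw [← h₁, ← h₂, ← QuotientGroup.mk_mul, ← QuotientGroup.mk_mul]
    congr 1
    apply Subtype.ext
    have := congrArg Subtype.val (hcommE ⟨(x₁ : G), ⟨x₁.2, hx₁⟩⟩ ⟨(x₂ : G), ⟨x₂.2, hx₂⟩⟩)
    simpa using this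
  obtain ⟨ψ, hψ, hψμ⟩ := Helper80.IsIrrCharacter.exists_descend hμ (QuotientGroup.mk' N)
    (QuotientGroup.mk'_surjective N) (fun g hg => by
      rw [QuotientGroup.mk'_apply, QuotientGroup.eq_one_iff] at hg
      exact hμH g (Subgroup.mem_subgroupOf.mp hg))
  have h1 := Helper15.irr_one_eq_one_of_comm hcomm hψ
  rw [hψμ 1, map_one, h1]

end Cfsg.Agent.Helper52.FeitW
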