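import Mathlib
import Cfsg.Agent.Helper63.BG12Cube

/-!
# (CA) of board #3759 (helper50, for S1383): a central product `P₁ ∘ P₂` with `P₁` nonabelian of
order `p ^ 3`, `P₂` cyclic, acted on by a `p'`-group `K` all of whose non-identity elements have the
same nontrivial centralizer `Kst ≤ Q'`, is just `P₁`.

The hypothesis `hQp : IsPGroup p Q` was added to the first posted signature (board #3777, #3801) (without it the statement is
false: `Q = P₁ × C_r`).
-/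

set_option autoImplicit false

namespace Cfsg.Agent.Helper52.BG16CA

open Subgroup
open scoped commutatorElement

section Prod

variable {G : Type*} [Group G]

/-- the product set of two elementwise commuting subgroups, as a subgroup -/
def prodSub (P₁ P₂ : Subgroup G) (hcomm : ∀ a ∈ P₁, ∀ b ∈ P₂, a * b = b * a) : Subgroup G where
  carrier := {x | ∃ a ∈ P₁, ∃ b ∈ P₂, x = a * b}
  mul_mem' := by
    rintro x y ⟨a, ha, b, hb, rfl⟩ ⟨c, hc, d, hd, rfl⟩
    refine ⟨a * c, P₁.mul_mem ha hc, b * d, P₂.mul_mem hb hd, ?_⟩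
    have h := hcomm c hc b hb
    calc a * b * (c * d) = a * (b * c) * d := by group
      _ = a * (c * b) * d := by rw [h]
      _ = a * c * (b * d) := by group
  one_mem' := ⟨1, P₁.one_mem, 1, P₂.one_mem, by simp⟩
  inv_mem' := by
    rintro x ⟨a, ha, b, hb, rfl⟩
    refine ⟨a⁻¹, P₁.inv_mem ha, b⁻¹, P₂.inv_mem hb, ?_⟩
    have h := hcomm a⁻¹ (P₁.inv_mem ha) b⁻¹ (P₂.inv_mem hb)
    rw [mul_inv_rev, h]

theorem exists_mul_of_mem_sup {P₁ P₂ : Subgroup G} (hcomm : ∀ a ∈ P₁, ∀ b ∈ P₂, a * b = b * a)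
    {x : G} (hx : x ∈ P₁ ⊔ P₂) : ∃ a ∈ P₁, ∃ b ∈ P₂, x = a * b := by
  have h1 : P₁ ≤ prodSub P₁ P₂ hcomm := fun a ha => ⟨a, ha, 1, P₂.one_mem, by simp⟩
  have h2 : P₂ ≤ prodSub P₁ P₂ hcomm := fun b hb => ⟨1, P₁.one_mem, b, hb, by simp⟩
  exact (sup_le h1 h2) hx

end Prod

variable {G : Type*} [Group G] [Finite G] {p : ℕ} [Fact p.Prime]

theorem card_eq_cube_of_central_product (Q K P₁ P₂ Kst : Subgroup G)
    (hQp : IsPGroup p Q) (hsup : P₁ ⊔ P₂ = Q)
    (hcomm : ∀ a ∈ P₁, ∀ b ∈ P₂, a * b = b * a)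
    (hna : ¬ IsMulCommutative P₁) (hc3 : Nat.card P₁ = p ^ 3) (hP₂ : IsCyclic P₂)
    (hΩ : Subgroup.closure {x : G | x ∈ P₂ ∧ x ^ p = 1} = P₁ ⊓ Subgroup.centralizer (P₁ : Set G))
    (hKQ : K ≤ Subgroup.normalizer (Q : Set G)) (hK1 : K ≠ ⊥)
    (hcop : (Nat.card K).Coprime p)
    (hcent : ∀ k ∈ K, k ≠ 1 → Q ⊓ Subgroup.centralizer ({k} : Set G) = Kst)
    (hKst1 : Kst ≠ ⊥) (hKstle : Kst ≤ ⁅Q, Q⁆) :
    Nat.card Q = p ^ 3 ∧ Kst = Q ⊓ Subgroup.centralizer (Q : Set G) := by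
  classical
  have hpp : p.Prime := Fact.out
  set Z1 : Subgroup G := P₁ ⊓ Subgroup.centralizer (P₁ : Set G) with hZ1
  have hP₁Q : P₁ ≤ Q := hsup ▸ le_sup_left
  have hP₂Q : P₂ ≤ Q := hsup ▸ le_sup_right
  -- P₂ is commutative
  have hP₂c : ∀ x ∈ P₂, ∀ y ∈ P₂, x * y = y * x := by
    intro x hx y hy
    have hI := hP₂.isMulCommutative
    have h : (⟨x, hx⟩ : P₂) * ⟨y, hy⟩ = ⟨y, hy⟩ * ⟨x, hx⟩ := mul_comm' _ _
    exact congrArg Subtype.val h
  -- |Z1| = p
  have hZ1card : Nat.card Z1 = p := by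
    have h1 : Z1 = (center ↥P₁).map P₁.subtype := Cfsg.Agent.Helper63.BG12.cz_eq_map_center P₁
    rw [h1, Subgroup.card_map_of_injective P₁.subtype_injective]
    exact Cfsg.Agent.Helper63.BG12.card_center_of_card_cube hc3 hna
  -- commutators of P₁ lie in Z1
  have hcommZ : ∀ x ∈ P₁, ∀ y ∈ P₁, ⁅x, y⁆ ∈ Z1 := by
    intro x hx y hy
    have h1 : Z1 = (center ↥P₁).map P₁.subtype := Cfsg.Agent.Helper63.BG12.cz_eq_map_center P₁
    have hc := Cfsg.Agent.Helper63.BG12.commutator_le_center_of_card_cube (Q := ↥P₁) (p := p) hc3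
    rw [h1]
    refine ⟨⁅(⟨x, hx⟩ : P₁), ⟨y, hy⟩⁆, hc ?_, rfl⟩
    exact Subgroup.commutator_mem_commutator (Subgroup.mem_top _) (Subgroup.mem_top _)
  -- Z1 ≤ P₂
  have hZ1P₂ : Z1 ≤ P₂ := by
    rw [← hΩ, Subgroup.closure_le]
    intro x hx
    exact hx.1
  -- elements of P₂ commute with all of Q
  have hP₂cent : ∀ b ∈ P₂, ∀ y ∈ Q, b * y = y * b := by
    intro b hb y hy
    rw [← hsup] at hy
    obtain ⟨a, ha, c, hc, rfl⟩ := exists_mul_of_mem_sup hcomm hy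
    have h1 := hcomm a ha b hb
    have h2 := hP₂c b hb c hc
    calc b * (a * c) = (b * a) * c := by group
      _ = (a * b) * c := by rw [h1]
      _ = a * (b * c) := by group
      _ = a * (c * b) := by rw [h2]
      _ = a * c * b := by group
  -- ⁅Q,Q⁆ ≤ Z1
  have hQQ : ⁅Q, Q⁆ ≤ Z1 := by
    rw [Subgroup.commutator_le]
    intro x hx y hy
    rw [← hsup] at hx hy
    obtain ⟨a, ha, b, hb, rfl⟩ := exists_mul_of_mem_sup hcomm hx
    obtain ⟨c, hc, d, hd, rfl⟩ := exists_mul_of_mem_sup hcomm hy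
    have hbQ := hP₂cent b hb
    have hdQ := hP₂cent d hd
    have key : ⁅a * b, c * d⁆ = ⁅a, c⁆ := by
      have e1 : b * (c * d) = (c * d) * b := hbQ _ (Q.mul_mem (hP₁Q hc) (hP₂Q hd))
      have e2 : d * a⁻¹ = a⁻¹ * d := hdQ _ (Q.inv_mem (hP₁Q ha))
      have e3 : b * c = c * b := hbQ _ (hP₁Q hc)
      have e4 : d * c⁻¹ = c⁻¹ * d := hdQ _ (Q.inv_mem (hP₁Q hc))
      have e5 : b * a⁻¹ = a⁻¹ * b := hbQ _ (Q.inv_mem (hP₁Q ha))
      have e6 : b * c⁻¹ = c⁻¹ * b := hbQ _ (Q.inv_mem (hP₁Q hc))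
      have e7 : d * b⁻¹ = b⁻¹ * d := hdQ _ (Q.inv_mem (hP₂Q hb))
      rw [commutatorElement_def, commutatorElement_def]
      -- a b c d b⁻¹ a⁻¹ d⁻¹ c⁻¹
      calc a * b * (c * d) * (a * b)⁻¹ * (c * d)⁻¹
          = a * (b * (c * d)) * b⁻¹ * a⁻¹ * d⁻¹ * c⁻¹ := by group
        _ = a * ((c * d) * b) * b⁻¹ * a⁻¹ * d⁻¹ * c⁻¹ := by rw [e1]
        _ = a * c * (d * a⁻¹) * d⁻¹ * c⁻¹ := by group
        _ = a * c * (a⁻¹ * d) * d⁻¹ * c⁻¹ := by rw [e2]
        _ = a * c * a⁻¹ * c⁻¹ := by group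
    rw [key]
    exact hcommZ a ha c hc
  -- Kst = Z1
  have hKstZ1 : Kst = Z1 := by
    have hle : Kst ≤ Z1 := hKstle.trans hQQ
    have hdvd : Nat.card Kst ∣ p := hZ1card ▸ Subgroup.card_dvd_of_le hle
    rcases (Nat.dvd_prime hpp).1 hdvd with h1 | h1
    · exact absurd (Subgroup.card_eq_one.1 h1) hKst1
    · exact Subgroup.eq_of_le_of_card_ge hle (by rw [h1, hZ1card])
  -- pick k
  obtain ⟨k, hkK, hk1⟩ : ∃ k ∈ K, k ≠ 1 := by
    by_contra hcon
    push Not at hcon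
    exact hK1 ((Subgroup.eq_bot_iff_forall K).2 hcon)
  have hkQ := hcent k hkK hk1
  -- k normalizes Q
  have hkN : ∀ x, x ∈ Q ↔ k * x * k⁻¹ ∈ Q := fun x =>
    (Subgroup.mem_normalizer_iff.1 (hKQ hkK)) x
  -- Z(Q) ≤ P₂
  have hZQ : ∀ x ∈ Q, (∀ y ∈ Q, x * y = y * x) → x ∈ P₂ := by
    intro x hx hxc
    rw [← hsup] at hx
    obtain ⟨a, ha, b, hb, rfl⟩ := exists_mul_of_mem_sup hcomm hx
    have haZ : a ∈ Z1 := by
      rw [hZ1, Subgroup.mem_inf, Subgroup.mem_centralizer_iff]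
      refine ⟨ha, fun y hy => ?_⟩
      have h1 := hxc y (hP₁Q hy)
      have h2 := hcomm y hy b hb
      -- (a b) y = y (a b), b y = y b
      have : a * y * b = y * a * b := by
        calc a * y * b = a * (y * b) := by group
          _ = a * (b * y) := by rw [h2]
          _ = a * b * y := by group
          _ = y * (a * b) := h1
          _ = y * a * b := by group
      exact (mul_right_cancel this).symm
    exact P₂.mul_mem (hZ1P₂ haZ) hb
  -- k normalizes P₂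
  have hkP₂ : ∀ x ∈ P₂, k * x * k⁻¹ ∈ P₂ := by
    intro x hx
    apply hZQ _ ((hkN x).1 (hP₂Q hx))
    intro y hy
    have hy' : k⁻¹ * y * k ∈ Q := by
      have := (hkN (k⁻¹ * y * k)).2
      apply this
      have : k * (k⁻¹ * y * k) * k⁻¹ = y := by group
      rw [this]; exact hy
    have h := hP₂cent x hx _ hy'
    calc k * x * k⁻¹ * y = k * (x * (k⁻¹ * y * k)) * k⁻¹ := by group
      _ = k * ((k⁻¹ * y * k) * x) * k⁻¹ := by rw [h]
      _ = y * (k * x * k⁻¹) := by group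
  -- elements of order dividing p in P₂ are centralized by k
  have hΩk : ∀ z ∈ P₂, z ^ p = 1 → k * z = z * k := by
    intro z hz hzp
    have hzZ : z ∈ Z1 := by
      rw [← hΩ]
      exact Subgroup.subset_closure ⟨hz, hzp⟩
    have : z ∈ Q ⊓ Subgroup.centralizer ({k} : Set G) := by
      rw [hkQ, hKstZ1]; exact hzZ
    have h2 := (Subgroup.mem_inf.1 this).2
    rw [Subgroup.mem_centralizer_iff] at h2
    exact h2 k rfl
  -- k centralizes P₂
  have hkc : ∀ x ∈ P₂, k * x * k⁻¹ = x := by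
    by_contra hcon
    push Not at hcon
    obtain ⟨x, hx, hne⟩ := hcon
    -- c = k x k⁻¹ x⁻¹ ∈ P₂, c ≠ 1
    set c : G := k * x * k⁻¹ * x⁻¹ with hc
    have hcP : c ∈ P₂ := P₂.mul_mem (hkP₂ x hx) (P₂.inv_mem hx)
    have hc1 : c ≠ 1 := by
      intro h
      apply hne
      have : k * x * k⁻¹ = c * x := by rw [hc]; group
      rw [this, h, one_mul]
    -- order of c is a power of p
    obtain ⟨j, hj⟩ := (IsPGroup.iff_orderOf.1 hQp) ⟨c, hP₂Q hcP⟩
    rw [Subgroup.orderOf_mk] at hj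
    have hj0 : j ≠ 0 := by
      intro h0
      rw [h0, pow_zero, orderOf_eq_one_iff] at hj
      exact hc1 hj
    obtain ⟨i, rfl⟩ := Nat.exists_eq_succ_of_ne_zero hj0
    -- x' = x ^ (p^i), z = c ^ (p^i) = k x' k⁻¹ x'⁻¹, z has order p
    set n := p ^ i with hn
    have hxn : x ^ n ∈ P₂ := P₂.pow_mem hx n
    have hz : c ^ n = k * x ^ n * k⁻¹ * (x ^ n)⁻¹ := by
      have h1 : k * x ^ n * k⁻¹ = (k * x * k⁻¹) ^ n := by
        rw [conj_pow]
      have h2 : Commute (k * x * k⁻¹) x⁻¹ :=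
        hP₂c _ (hkP₂ x hx) _ (P₂.inv_mem hx)
      rw [h1, ← inv_pow, ← h2.mul_pow]
    have hzp : (c ^ n) ^ p = 1 := by
      rw [← pow_mul, hn, ← pow_succ, ← hj]
      exact pow_orderOf_eq_one c
    have hz1 : c ^ n ≠ 1 := by
      intro h
      have := orderOf_dvd_of_pow_eq_one h
      rw [hj, hn] at this
      have h3 : p ^ (i + 1) ≤ p ^ i := Nat.le_of_dvd (pow_pos hpp.pos i) this
      have h4 : p ^ i < p ^ (i+1) := Nat.pow_lt_pow_right hpp.one_lt (Nat.lt_succ_self i)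
      omega
    have hzP : c ^ n ∈ P₂ := P₂.pow_mem hcP n
    have hzk : k * c ^ n = c ^ n * k := hΩk _ hzP hzp
    -- k^m x' k^-m = z^m x'
    have hiter : ∀ m : ℕ, k ^ m * x ^ n * (k ^ m)⁻¹ = (c ^ n) ^ m * x ^ n := by
      intro m
      induction m with
      | zero => simp
      | succ m ih =>
        have hk1' : k * x ^ n * k⁻¹ = c ^ n * x ^ n := by rw [hz]; group
        have hzkm : k * (c ^ n) ^ m = (c ^ n) ^ m * k := by
          have : Commute k (c ^ n) := hzk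
          exact (this.pow_right m)
        calc k ^ (m+1) * x ^ n * (k ^ (m+1))⁻¹
            = k * (k ^ m * x ^ n * (k ^ m)⁻¹) * k⁻¹ := by rw [pow_succ']; group
          _ = k * ((c ^ n) ^ m * x ^ n) * k⁻¹ := by rw [ih]
          _ = (k * (c ^ n) ^ m) * x ^ n * k⁻¹ := by group
          _ = ((c ^ n) ^ m * k) * x ^ n * k⁻¹ := by rw [hzkm]
          _ = (c ^ n) ^ m * (k * x ^ n * k⁻¹) := by group
          _ = (c ^ n) ^ m * (c ^ n * x ^ n) := by rw [hk1']
          _ = (c ^ n) ^ (m+1) * x ^ n := by rw [pow_succ]; group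
    have hord := hiter (orderOf k)
    rw [pow_orderOf_eq_one, inv_one, one_mul, mul_one] at hord
    have hzo : (c ^ n) ^ orderOf k = 1 := by
      have := hord
      exact (mul_eq_right.1 this.symm)
    -- orderOf (c^n) ∣ p and ∣ orderOf k, coprime
    have hd1 : orderOf (c ^ n) ∣ p := orderOf_dvd_of_pow_eq_one hzp
    have hd2 : orderOf (c ^ n) ∣ orderOf k := orderOf_dvd_of_pow_eq_one hzo
    have hd3 : orderOf k ∣ Nat.card K := by
      have := orderOf_dvd_natCard (⟨k, hkK⟩ : K)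
      rwa [Subgroup.orderOf_mk] at this
    have hcop' : (orderOf k).Coprime p := Nat.Coprime.coprime_dvd_left hd3 hcop
    have : orderOf (c ^ n) = 1 := Nat.eq_one_of_dvd_coprimes hcop' hd2 hd1
    exact hz1 (orderOf_eq_one_iff.1 this)
  -- P₂ ≤ Z1 ≤ P₁
  have hP₂Z1 : P₂ ≤ Z1 := by
    intro x hx
    have : x ∈ Q ⊓ Subgroup.centralizer ({k} : Set G) := by
      rw [Subgroup.mem_inf, Subgroup.mem_centralizer_iff]
      refine ⟨hP₂Q hx, ?_⟩
      intro y hy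
      rw [Set.mem_singleton_iff] at hy
      subst hy
      have := hkc x hx
      calc y * x = (y * x * y⁻¹) * y := by group
        _ = x * y := by rw [this]
    rw [hkQ, hKstZ1] at this
    exact this
  have hQP₁ : Q = P₁ := by
    rw [← hsup]
    exact sup_eq_left.2 (hP₂Z1.trans inf_le_left)
  refine ⟨by rw [hQP₁, hc3], ?_⟩
  rw [hKstZ1, hZ1, hQP₁]

end Cfsg.Agent.Helper52.BG16CA
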