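import Mathlib
import Cfsg.Agent.Helper44.CT.Defs

/-!
# S3351 (Curtis–Tits farm, helper44): leaf (P4b) `lift_p_element`
-/

set_option autoImplicit false

namespace Cfsg.Agent.Helper52.CT

open Cfsg.Agent.Helper44.CT Cfsg.Agent.Helper96.StN Cfsg.Agent.Helper34.StNF
open scoped commutatorElement

universe u v

variable {F : Type u} [Field F] {G : Type v} [Group G]

/-- a central element of `SL₃(F)` has cube `1` (local copy). -/
theorem P4b_center_pow_three (z : SL3 F) (hz : z ∈ Subgroup.center (SL3 F)) : z ^ 3 = 1 := by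
  obtain ⟨r, hr, hrz⟩ := Matrix.SpecialLinearGroup.mem_center_iff.1 hz
  rw [Fintype.card_fin] at hr
  apply Subtype.ext
  rw [Matrix.SpecialLinearGroup.coe_pow, ← hrz, ← map_pow, hr, map_one]
  rfl

/-- in characteristic `3` the centre of `SL₃(F)` is trivial. -/
theorem P4b_center_char_three [CharP F 3] (z : SL3 F) (hz : z ∈ Subgroup.center (SL3 F)) :
    z = 1 := by
  obtain ⟨r, hr, hrz⟩ := Matrix.SpecialLinearGroup.mem_center_iff.1 hz
  rw [Fintype.card_fin] at hr
  have : Fact (Nat.Prime 3) := ⟨Nat.prime_three⟩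
  have h : (r - 1) ^ 3 = 0 := by
    rw [sub_pow_char r 1, hr, one_pow, sub_self]
  have hr1 : r = 1 := by
    have := pow_eq_zero_iff (n := 3) (by norm_num) |>.1 h
    exact sub_eq_zero.1 this
  apply Subtype.ext
  rw [← hrz, hr1, map_one]
  rfl

/-- (P4b) -/
theorem lift_p_element {p : ℕ} [Fact p.Prime] [CharP F p] (θ : SL3 F →* G)
    (hker : θ.ker ≤ Subgroup.center (SL3 F)) (m : SL3 F) (hm : θ m ^ p = 1) :
    ∃ m' : SL3 F, θ m' = θ m ∧ m' ^ p = 1 := by
  have hcker : m ^ p ∈ θ.ker := by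
    rw [MonoidHom.mem_ker, map_pow, hm]
  have hc : m ^ p ∈ Subgroup.center (SL3 F) := hker hcker
  have hc3 : (m ^ p) ^ 3 = 1 := P4b_center_pow_three _ hc
  have hθc : θ (m ^ p) = 1 := MonoidHom.mem_ker.1 hcker
  by_cases hp3 : p = 3
  · subst hp3
    exact ⟨m, rfl, P4b_center_char_three _ hc⟩
  · have hp : p.Prime := Fact.out
    have hcop : ¬ 3 ∣ p := by
      intro h
      exact hp3 ((Nat.prime_dvd_prime_iff_eq Nat.prime_three hp).1 h).symm
    have hcomm : Commute m (m ^ p) := (Commute.refl m).pow_right p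
    -- choose `k` with `3 ∣ 1 + k * p`
    obtain ⟨k, hk⟩ : ∃ k : ℕ, 3 ∣ 1 + k * p := by
      have h12 : p % 3 = 1 ∨ p % 3 = 2 := by omega
      rcases h12 with h | h
      · exact ⟨2, by omega⟩
      · exact ⟨1, by omega⟩
    refine ⟨m * (m ^ p) ^ k, ?_, ?_⟩
    · rw [map_mul, map_pow, hθc, one_pow, mul_one]
    · rw [(hcomm.pow_right k).mul_pow, ← pow_mul, ← pow_succ']
      obtain ⟨j, hj⟩ := hk
      have : k * p + 1 = 3 * j := by omega
      rw [this, pow_mul, hc3, one_pow]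

end Cfsg.Agent.Helper52.CT
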