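import Mathlib
import Cfsg.Agent.Helper44.CT.Defs

/-!
# S3351 (Curtis–Tits farm, helper44): leaf (P6c) `ringEquiv_of_sq`
-/

set_option autoImplicit false

namespace Cfsg.Agent.Helper52.CT

open Cfsg.Agent.Helper44.CT Cfsg.Agent.Helper96.StN Cfsg.Agent.Helper34.StNF
open scoped commutatorElement

universe u v

variable {F : Type u} [Field F] {G : Type v} [Group G]

/-- (P6c) -/
theorem ringEquiv_of_sq [Finite F] (h2 : (2 : F) ≠ 0) (f : F → F)
    (hadd : ∀ x y, f (x + y) = f x + f y) (h1 : f 1 = 1)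
    (hsq : ∀ a t, f (a ^ 2 * t) = f a ^ 2 * f t) (hinj : Function.Injective f) :
    ∃ σ : F ≃+* F, ∀ t, σ t = f t := by
  have h0 : f 0 = 0 := by
    have := hadd 0 0
    rw [add_zero] at this
    exact left_eq_add.mp this
  have hneg : ∀ x, f (-x) = -f x := by
    intro x
    have := hadd x (-x)
    rw [add_neg_cancel, h0] at this
    exact (neg_eq_of_add_eq_zero_right this.symm).symm
  have hsub : ∀ x y, f (x - y) = f x - f y := by
    intro x y
    rw [sub_eq_add_neg, hadd, hneg, ← sub_eq_add_neg]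
  have hsq1 : ∀ a, f (a ^ 2) = f a ^ 2 := by
    intro a
    have := hsq a 1
    rwa [mul_one, h1, mul_one] at this
  have hsq' : ∀ a t, f (a ^ 2 * t) = f (a ^ 2) * f t := by
    intro a t
    rw [hsq, hsq1]
  have hmul : ∀ s t, f (s * t) = f s * f t := by
    intro s t
    have hs : s = ((s + 1) / 2) ^ 2 - ((s - 1) / 2) ^ 2 := by
      field_simp
      ring
    have e1 : s * t = ((s + 1) / 2) ^ 2 * t - ((s - 1) / 2) ^ 2 * t := by
      rw [← sub_mul, ← hs]
    have e2 : f s = f (((s + 1) / 2) ^ 2) - f (((s - 1) / 2) ^ 2) := by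
      rw [← hsub, ← hs]
    rw [e1, hsub, hsq', hsq', e2, sub_mul]
  let φ : F →+* F :=
    { toFun := f
      map_one' := h1
      map_mul' := hmul
      map_zero' := h0
      map_add' := hadd }
  have hφ : Function.Bijective φ := Finite.injective_iff_bijective.mp hinj
  exact ⟨RingEquiv.ofBijective φ hφ, fun t => rfl⟩

end Cfsg.Agent.Helper52.CT
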