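import Mathlib
import Cfsg.Agent.Helper43.Cov2.P6Defs

/-!
# Piece (6C) of helper43's S2500 part 6: an isometry between two of the forms `Qa` conjugates the
stabilisers.  Also the polarisation identity `Qa_add` in characteristic `2`.
-/

set_option autoImplicit false

namespace Cfsg.Agent.Helper52.Cov2.P6

open Matrix Cfsg.Agent.Helper43.Cov2.P6

variable {F : Type*} [Field F] [Fintype F] {m : ℕ}

/-- `2 = 0` in a finite field of even order. -/
theorem two_eq_zero_of_even (heven : ¬ Odd (Fintype.card F)) : (2 : F) = 0 := by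
  have h2 : ringChar F = 2 := by
    rw [FiniteField.even_card_iff_char_two]
    rcases Nat.even_or_odd (Fintype.card F) with h | h
    · exact Nat.even_iff.mp h
    · exact absurd h heven
  have : CharP F 2 := by rw [← h2]; exact ringChar.charP F
  exact CharTwo.two_eq_zero

omit [Fintype F] in
/-- polarisation in characteristic `2`. -/
theorem Qa_add (h2 : (2 : F) = 0) (a u v : Fin m ⊕ Fin m → F) :
    Qa a (u + v) = Qa a u + Qa a v + Cfsg.sympForm m F u v := by
  unfold Qa Cfsg.quadFormPlus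
  rw [Cfsg.Agent.Helper13.sympForm_add_right, Cfsg.Agent.Helper13.sympForm_eq_sum u v]
  have h1 : ∀ i : Fin m, (u + v) (Sum.inl i) * (u + v) (Sum.inr i) =
      u (Sum.inl i) * u (Sum.inr i) + v (Sum.inl i) * v (Sum.inr i) +
        (u (Sum.inr i) * v (Sum.inl i) - u (Sum.inl i) * v (Sum.inr i)) +
        2 * (u (Sum.inl i) * v (Sum.inr i)) := by
    intro i
    simp only [Pi.add_apply]
    ring
  simp only [h1, Finset.sum_add_distrib, h2, zero_mul, add_zero]
  have h3 : (Cfsg.sympForm m F a u + Cfsg.sympForm m F a v) ^ 2 =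
      Cfsg.sympForm m F a u ^ 2 + Cfsg.sympForm m F a v ^ 2 +
        2 * (Cfsg.sympForm m F a u * Cfsg.sympForm m F a v) := by ring
  rw [h3, h2, zero_mul, add_zero]
  ring

/-- (6C) an isometry between two of the forms conjugates the stabilisers. -/
theorem conj_of_isometry (heven : ¬ Odd (Fintype.card F)) (a b : Fin m ⊕ Fin m → F)
    (C : (Fin m ⊕ Fin m → F) ≃ₗ[F] (Fin m ⊕ Fin m → F)) (hC : ∀ w, Qa b (C w) = Qa a w)
    (A : Matrix.symplecticGroup (Fin m) F) (hA : A ∈ stab (Qa a)) :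
    ∃ x : Matrix.symplecticGroup (Fin m) F, x * A * x⁻¹ ∈ stab (Qa b) := by
  have h2 := two_eq_zero_of_even heven
  set X : Matrix (Fin m ⊕ Fin m) (Fin m ⊕ Fin m) F := LinearMap.toMatrix' (C : _ →ₗ[F] _) with hX
  have hXv : ∀ v, X *ᵥ v = C v := fun v => LinearMap.toMatrix'_mulVec _ v
  have hXmem : X ∈ Matrix.symplecticGroup (Fin m) F := by
    rw [Cfsg.Agent.Helper13.mem_symplecticGroup_iff_preserves]
    intro u v
    rw [hXv, hXv]
    have e1 := Qa_add h2 b (C u) (C v)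
    have e2 := Qa_add h2 a u v
    rw [← map_add, hC, hC, hC] at e1
    rw [e2] at e1
    exact (add_left_cancel e1).symm
  refine ⟨⟨X, hXmem⟩, ?_⟩
  rw [mem_stab]
  intro v
  set x : Matrix.symplecticGroup (Fin m) F := ⟨X, hXmem⟩ with hx
  have hcoe : ((x * A * x⁻¹ : Matrix.symplecticGroup (Fin m) F) :
      Matrix (Fin m ⊕ Fin m) (Fin m ⊕ Fin m) F) =
      X * (A : Matrix (Fin m ⊕ Fin m) (Fin m ⊕ Fin m) F) * ((x⁻¹ : Matrix.symplecticGroup (Fin m) F) : Matrix (Fin m ⊕ Fin m) (Fin m ⊕ Fin m) F) := rfl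
  have hinv : X * ((x⁻¹ : Matrix.symplecticGroup (Fin m) F) : Matrix (Fin m ⊕ Fin m) (Fin m ⊕ Fin m) F) = 1 := by
    have : ((x * x⁻¹ : Matrix.symplecticGroup (Fin m) F) :
        Matrix (Fin m ⊕ Fin m) (Fin m ⊕ Fin m) F) = 1 := by rw [mul_inv_cancel]; rfl
    exact this
  set w := ((x⁻¹ : Matrix.symplecticGroup (Fin m) F) : Matrix (Fin m ⊕ Fin m) (Fin m ⊕ Fin m) F) *ᵥ v with hw
  have hxw : X *ᵥ w = v := by
    rw [hw, Matrix.mulVec_mulVec, hinv, Matrix.one_mulVec]
  rw [hcoe, ← Matrix.mulVec_mulVec, ← Matrix.mulVec_mulVec, ← hw, hXv, hC, hA w, ← hC, ← hXv,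
    hxw]

end Cfsg.Agent.Helper52.Cov2.P6
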