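import Mathlib
import Cfsg.Agent.Helper43.Cov2.P6Defs
import Cfsg.Agent.Helper52.Cov2P66C

/-!
# Piece (6D) of helper43's S2500 part 6: the stabilisers of the forms `Qa` are proper subgroups.
-/

set_option autoImplicit false

namespace Cfsg.Agent.Helper52.Cov2.P6

open Matrix Cfsg.Agent.Helper43.Cov2.P6

variable {F : Type*} [Field F] [Fintype F] {m : ℕ}

omit [Fintype F] in
/-- if the transvection `x ↦ x + f(x,e) e` preserves `Qa a` and `f(x,e) = 1` for some `x`, then
`Qa a e = 1` (characteristic `2`). -/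
theorem Qa_eq_one_of_transvection_mem (h2 : (2 : F) = 0) (a e x : Fin m ⊕ Fin m → F)
    (hx : Cfsg.sympForm m F x e = 1)
    (hT : (⟨Cfsg.sympTransvection m e 1, Cfsg.Agent.Helper13.sympTransvection_mem e 1⟩ :
      Matrix.symplecticGroup (Fin m) F) ∈ stab (Qa a)) : Qa a e = 1 := by
  have h := (mem_stab.mp hT) x
  have hTx : (Cfsg.sympTransvection m e (1 : F)) *ᵥ x = x + e := by
    rw [Cfsg.Agent.Helper13.sympTransvection_mulVec, hx, one_mul, one_smul]
  have h' : Qa a (x + e) = Qa a x := by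
    rw [← hTx]
    exact h
  rw [Qa_add h2, hx] at h'
  have h3 : Qa a e + 1 = 0 := by
    have : Qa a x + (Qa a e + 1) = Qa a x + 0 := by rw [← add_assoc, h', add_zero]
    exact add_left_cancel this
  have h4 : (1 : F) + 1 = 0 := by rw [one_add_one_eq_two, h2]
  calc Qa a e = Qa a e + (1 + 1) := by rw [h4, add_zero]
    _ = (Qa a e + 1) + 1 := by ring
    _ = 1 := by rw [h3, zero_add]

/-- (6D) the stabilisers are proper. -/
theorem stab_ne_top (hm : 2 ≤ m) (heven : ¬ Odd (Fintype.card F)) (a : Fin m ⊕ Fin m → F) :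
    stab (Qa a) ≠ ⊤ := by
  have h2 := two_eq_zero_of_even heven
  intro htop
  have hall : ∀ g : Matrix.symplecticGroup (Fin m) F, g ∈ stab (Qa a) := by
    intro g
    rw [htop]
    exact Subgroup.mem_top g
  set i0 : Fin m := ⟨0, by omega⟩ with hi0
  set i1 : Fin m := ⟨1, by omega⟩ with hi1
  have hne : i0 ≠ i1 := by
    intro h
    have := congrArg Fin.val h
    simp [hi0, hi1] at this
  set e₁ : Fin m ⊕ Fin m → F := Pi.single (Sum.inl i0) 1 with he₁
  set e₂ : Fin m ⊕ Fin m → F := Pi.single (Sum.inl i1) 1 with he₂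
  set x₁ : Fin m ⊕ Fin m → F := Pi.single (Sum.inr i0) 1 with hx₁
  set x₂ : Fin m ⊕ Fin m → F := Pi.single (Sum.inr i1) 1 with hx₂
  have f11 : Cfsg.sympForm m F x₁ e₁ = 1 := by
    rw [Cfsg.Agent.Helper13.sympForm_eq_sum, Finset.sum_eq_single i0]
    · simp [hx₁, he₁]
    · intro j _ hj
      simp [hx₁, he₁, hj]
    · intro h
      exact absurd (Finset.mem_univ _) h
  have f22 : Cfsg.sympForm m F x₂ e₂ = 1 := by
    rw [Cfsg.Agent.Helper13.sympForm_eq_sum, Finset.sum_eq_single i1]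
    · simp [hx₂, he₂]
    · intro j _ hj
      simp [hx₂, he₂, hj]
    · intro h
      exact absurd (Finset.mem_univ _) h
  have f12 : Cfsg.sympForm m F x₁ e₂ = 0 := by
    rw [Cfsg.Agent.Helper13.sympForm_eq_sum]
    apply Finset.sum_eq_zero
    intro j _
    by_cases hj : j = i1
    · subst hj
      simp [hx₁, he₂, hne]
    · simp [hx₁, he₂, hj]
  have fe : Cfsg.sympForm m F e₁ e₂ = 0 := by
    rw [Cfsg.Agent.Helper13.sympForm_eq_sum]
    apply Finset.sum_eq_zero
    intro j _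
    simp [he₁, he₂]
  have q1 : Qa a e₁ = 1 := Qa_eq_one_of_transvection_mem h2 a e₁ x₁ f11 (hall _)
  have q2 : Qa a e₂ = 1 := Qa_eq_one_of_transvection_mem h2 a e₂ x₂ f22 (hall _)
  have q3 : Qa a (e₁ + e₂) = 1 :=
    Qa_eq_one_of_transvection_mem h2 a (e₁ + e₂) x₁
      (by rw [Cfsg.Agent.Helper13.sympForm_add_right, f11, f12, add_zero]) (hall _)
  rw [Qa_add h2, q1, q2, fe, add_zero, one_add_one_eq_two, h2] at q3
  exact zero_ne_one q3

end Cfsg.Agent.Helper52.Cov2.P6
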