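import Cfsg.Agent.Helper19.E8C.Facts

/-!
# S5751 (helper19, `E₈(2)`, iterated cores), piece (QUOT): `UL m / UL (m + 1)` is collected

An element of `UL m` is the product of the root elements of level `m` at its coordinates, up to an element of
`UL (m + 1)` (characteristic `2`).
-/

set_option autoImplicit false

namespace Cfsg.Agent.Helper52.E8C

open Cfsg Cfsg.Lie Cfsg.Agent.Helper18 Cfsg.Agent.Helper19.Poinc Cfsg.Agent.Helper19.E8C

variable {F : Type*} [Field F]

/-- the product of the root elements `x_r (c r)`, `r` in the list -/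
noncomputable def QUOT_prod (L : List ℕ) (c : ℕ → F) : GL chevE8.Idx F :=
  (L.map (fun r => xGL chevE8 F r (c r))).prod

theorem QUOT_prod_nil (c : ℕ → F) : QUOT_prod ([] : List ℕ) c = 1 := rfl

theorem QUOT_prod_cons (r : ℕ) (L : List ℕ) (c : ℕ → F) :
    QUOT_prod (r :: L) c = xGL chevE8 F r (c r) * QUOT_prod L c := by
  unfold QUOT_prod
  rw [List.map_cons, List.prod_cons]

theorem QUOT_prod_congr (L : List ℕ) (c c' : ℕ → F) (h : ∀ r ∈ L, c r = c' r) :
    QUOT_prod L c = QUOT_prod L c' := by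
  unfold QUOT_prod
  have e : L.map (fun r => xGL chevE8 F r (c r)) = L.map (fun r => xGL chevE8 F r (c' r)) :=
    List.map_congr_left (fun r hr => by rw [h r hr])
  rw [e]

theorem QUOT_prod_mem (m : ℕ) (L : List ℕ) (hL : ∀ r ∈ L, r < chevE8.nroots ∧ lev r = (m : ℤ))
    (c : ℕ → F) : QUOT_prod L c ∈ UL F m := by
  unfold QUOT_prod
  apply Subgroup.list_prod_mem
  intro g hg
  obtain ⟨r, hr, rfl⟩ := List.mem_map.mp hg
  exact xGL_mem_UL F r (hL r hr).1 m (le_of_eq (hL r hr).2.symm) _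

/-- `UL m` normalises `UL (m + 1)` -/
theorem QUOT_conj_mem (hN : NormFact F) (m : ℕ) (g : GL chevE8.Idx F) (hg : g ∈ UL F m)
    (n : GL chevE8.Idx F) (hn : n ∈ UL F (m + 1)) :
    g⁻¹ * n * g ∈ UL F (m + 1) ∧ g * n * g⁻¹ ∈ UL F (m + 1) := by
  have h1 : g ∈ Subgroup.normalizer (UL F (m + 1) : Set (GL chevE8.Idx F)) :=
    hN (m + 1) (by omega) (UL_le_PJ F m hg)
  have h2 : g⁻¹ ∈ Subgroup.normalizer (UL F (m + 1) : Set (GL chevE8.Idx F)) := inv_mem h1
  constructor
  · have := (Subgroup.mem_normalizer_iff.mp h2 n).mp hn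
    rwa [inv_inv] at this
  · exact (Subgroup.mem_normalizer_iff.mp h1 n).mp hn

/-- the commutator word of two root elements of level `m` lies in `UL (m + 1)` -/
theorem QUOT_word_mem (m : ℕ) (hm : 1 ≤ m) (r s : ℕ) (hr : r < chevE8.nroots) (hs : s < chevE8.nroots)
    (hlr : lev r = (m : ℤ)) (hls : lev s = (m : ℤ)) (t u : F) :
    wordGL chevE8 F (chevE8.commWord F r s t u) ∈ UL F (m + 1) := by
  unfold wordGL ChevalleyDatum.commWord
  apply Subgroup.list_prod_mem
  intro g hg
  simp only [List.map_map, List.mem_map, Function.comp_apply] at hg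
  obtain ⟨c, hc, rfl⟩ := hg
  obtain ⟨c1, c2, c3, c4⟩ := commTerms_lvl chevE8 hE8 lev lev_additive r s hr hs c hc
  apply xGL_mem_UL F _ c1
  rw [c2, hlr, hls]
  have e3 : (1 : ℤ) ≤ (c.2.2.1 : ℤ) := by exact_mod_cast c3
  have e4 : (1 : ℤ) ≤ (c.2.2.2 : ℤ) := by exact_mod_cast c4
  have hm' : (1 : ℤ) ≤ (m : ℤ) := by exact_mod_cast hm
  push_cast
  nlinarith

/-- two root elements of level `m` commute modulo `UL (m + 1)` -/
theorem QUOT_swap (h25 : CommHyp chevE8 F) (m : ℕ) (hm : 1 ≤ m) (r s : ℕ) (hr : r < chevE8.nroots)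
    (hs : s < chevE8.nroots) (hlr : lev r = (m : ℤ)) (hls : lev s = (m : ℤ)) (hne : s ≠ r) (a t : F) :
    ∃ w ∈ UL F (m + 1), xGL chevE8 F s t * xGL chevE8 F r a = xGL chevE8 F r a * xGL chevE8 F s t * w := by
  have h2 : s ≠ chevE8.neg r := by
    intro e
    have := (lev_additive r hr).1
    rw [← e, hls, hlr] at this
    have hm' : (1 : ℤ) ≤ (m : ℤ) := by exact_mod_cast hm
    omega
  refine ⟨wordGL chevE8 F (chevE8.commWord F r s a t), QUOT_word_mem m hm r s hr hs hlr hls a t, ?_⟩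
  have := comm_xGL chevE8 hE8 h25 r s hr hs hne h2 a t
  rw [mul_assoc (xGL chevE8 F r a), ← this]
  group

/-- insertion of a root element of level `m` into a product of root elements of level `m` -/
theorem QUOT_insert (h25 : CommHyp chevE8 F) (hN : NormFact F) (m : ℕ) (hm : 1 ≤ m) (s : ℕ)
    (hs : s < chevE8.nroots) (hls : lev s = (m : ℤ)) (t : F) :
    ∀ L : List ℕ, L.Nodup → (∀ r ∈ L, r < chevE8.nroots ∧ lev r = (m : ℤ)) → ∀ c : ℕ → F,
      ∃ w ∈ UL F (m + 1), xGL chevE8 F s t * QUOT_prod L c =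
        QUOT_prod L (fun r => if r = s then c r + t else c r) *
          (if s ∈ L then 1 else xGL chevE8 F s t) * w := by
  intro L
  induction L with
  | nil =>
    intro _ _ c
    refine ⟨1, one_mem _, ?_⟩
    rw [QUOT_prod_nil, QUOT_prod_nil, if_neg (List.not_mem_nil), mul_one, one_mul, mul_one]
  | cons r L ih =>
    intro hnd hL c
    have hndL : L.Nodup := (List.nodup_cons.mp hnd).2
    have hrL : r ∉ L := (List.nodup_cons.mp hnd).1
    have hL' : ∀ r' ∈ L, r' < chevE8.nroots ∧ lev r' = (m : ℤ) :=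
      fun r' hr' => hL r' (List.mem_cons_of_mem _ hr')
    obtain ⟨hr, hlr⟩ := hL r (List.mem_cons_self)
    by_cases hsr : s = r
    · subst hsr
      refine ⟨1, one_mem _, ?_⟩
      rw [QUOT_prod_cons, QUOT_prod_cons, if_pos (List.mem_cons_self), if_pos rfl, mul_one, mul_one,
        ← mul_assoc, xGL_mul_add chevE8 hE8, add_comm t]
      have e : QUOT_prod L c = QUOT_prod L (fun r => if r = s then c r + t else c r) := by
        apply QUOT_prod_congr
        intro r' hr'
        have : r' ≠ s := by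
          rintro rfl
          exact hrL hr'
        rw [if_neg this]
      rw [← e]
    · obtain ⟨w₀, hw₀, e₀⟩ := QUOT_swap h25 m hm r s hr hs hlr hls hsr (c r) t
      obtain ⟨w₁, hw₁, e₁⟩ := ih hndL hL' c
      have hPm : QUOT_prod L c ∈ UL F m := QUOT_prod_mem m L hL' c
      have hw₀' := (QUOT_conj_mem hN m _ hPm w₀ hw₀).1
      refine ⟨w₁ * ((QUOT_prod L c)⁻¹ * w₀ * QUOT_prod L c), mul_mem hw₁ hw₀', ?_⟩
      have hmem : (s ∈ r :: L) ↔ s ∈ L := by
        rw [List.mem_cons]
        constructor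
        · rintro (h | h)
          · exact absurd h hsr
          · exact h
        · exact Or.inr
      have hcr : (if r = s then c r + t else c r) = c r := by
        rw [if_neg (fun h => hsr h.symm)]
      rw [QUOT_prod_cons, QUOT_prod_cons, hcr]
      have hite : (if s ∈ r :: L then (1 : GL chevE8.Idx F) else xGL chevE8 F s t) =
          (if s ∈ L then (1 : GL chevE8.Idx F) else xGL chevE8 F s t) := by
        by_cases h : s ∈ L
        · rw [if_pos h, if_pos (hmem.mpr h)]
        · rw [if_neg h, if_neg (fun h' => h (hmem.mp h'))]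
      rw [hite]
      calc xGL chevE8 F s t * (xGL chevE8 F r (c r) * QUOT_prod L c)
          = (xGL chevE8 F s t * xGL chevE8 F r (c r)) * QUOT_prod L c := by rw [mul_assoc]
        _ = (xGL chevE8 F r (c r) * xGL chevE8 F s t * w₀) * QUOT_prod L c := by rw [e₀]
        _ = xGL chevE8 F r (c r) * (xGL chevE8 F s t * QUOT_prod L c) *
              ((QUOT_prod L c)⁻¹ * w₀ * QUOT_prod L c) := by group
        _ = xGL chevE8 F r (c r) * (QUOT_prod L (fun r => if r = s then c r + t else c r) *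
              (if s ∈ L then 1 else xGL chevE8 F s t) * w₁) *
              ((QUOT_prod L c)⁻¹ * w₀ * QUOT_prod L c) := by rw [e₁]
        _ = _ := by simp only [mul_assoc]

/-- the coordinates of a product of root elements of level `m` -/
theorem QUOT_cmp_prod (h2 : (2 : F) = 0) (hc : CmpFacts F) (m : ℕ) (hm : 1 ≤ m) (c : ℕ → F) (r : ℕ)
    (hr : r < chevE8.nroots) (hlr : lev r = (m : ℤ)) :
    ∀ L : List ℕ, L.Nodup → (∀ r' ∈ L, r' < chevE8.nroots ∧ lev r' = (m : ℤ)) →
      cmp (QUOT_prod L c) r (jOdd r) = if r ∈ L then c r else 0 := by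
  intro L
  induction L with
  | nil =>
    intro _ _
    rw [QUOT_prod_nil, hc.one, if_neg (List.not_mem_nil)]
  | cons r' L ih =>
    intro hnd hL
    have hndL : L.Nodup := (List.nodup_cons.mp hnd).2
    have hrL : r' ∉ L := (List.nodup_cons.mp hnd).1
    have hL' : ∀ r'' ∈ L, r'' < chevE8.nroots ∧ lev r'' = (m : ℤ) :=
      fun r'' hr'' => hL r'' (List.mem_cons_of_mem _ hr'')
    obtain ⟨hr', hlr'⟩ := hL r' (List.mem_cons_self)
    rw [QUOT_prod_cons, hc.mul_UL m hm _ _ (xGL_mem_UL F r' hr' m (le_of_eq hlr'.symm) _)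
      (QUOT_prod_mem m L hL' c) r (jOdd r) hlr, ih hndL hL']
    by_cases hrr : r = r'
    · subst hrr
      rw [hc.gen_self h2 r hr, if_neg hrL, add_zero, if_pos (List.mem_cons_self)]
    · rw [hc.gen_ne r' hr' _ r hr hrr, zero_add]
      by_cases h : r ∈ L
      · rw [if_pos h, if_pos (List.mem_cons_of_mem _ h)]
      · rw [if_neg h, if_neg]
        rw [List.mem_cons]
        rintro (h' | h')
        · exact hrr h'
        · exact h h'

/-- every element of `UL m` is a product of root elements of level `m` modulo `UL (m + 1)` -/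
theorem QUOT_exists (h25 : CommHyp chevE8 F) (hN : NormFact F) (m : ℕ) (hm : 1 ≤ m)
    (g : GL chevE8.Idx F) (hg : g ∈ UL F m) :
    ∃ c : ℕ → F, ∃ z ∈ UL F (m + 1), g = QUOT_prod (lvlList m) c * z := by
  have hLl : ∀ r ∈ lvlList m, r < chevE8.nroots ∧ lev r = (m : ℤ) := fun r hr => (mem_lvlList m r).mp hr
  -- left multiplication by a generator
  have hgen : ∀ (s : ℕ) (t : F), s < chevE8.nroots → (m : ℤ) ≤ lev s → ∀ y : GL chevE8.Idx F,
      (∃ c : ℕ → F, ∃ z ∈ UL F (m + 1), y = QUOT_prod (lvlList m) c * z) →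
      ∃ c : ℕ → F, ∃ z ∈ UL F (m + 1), xGL chevE8 F s t * y = QUOT_prod (lvlList m) c * z := by
    rintro s t hs hms y ⟨c, z, hz, rfl⟩
    rcases eq_or_lt_of_le hms with hls | hls
    · obtain ⟨w, hw, e⟩ := QUOT_insert h25 hN m hm s hs hls.symm t (lvlList m) (nodup_lvlList m) hLl c
      have hsm : s ∈ lvlList m := (mem_lvlList m s).mpr ⟨hs, hls.symm⟩
      rw [if_pos hsm, mul_one] at e
      refine ⟨fun r => if r = s then c r + t else c r, w * z, mul_mem hw hz, ?_⟩
      rw [← mul_assoc, e, mul_assoc]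
    · have hx : xGL chevE8 F s t ∈ UL F (m + 1) := xGL_mem_UL F s hs (m + 1) (by push_cast; omega) t
      have hPm : QUOT_prod (lvlList m) c ∈ UL F m := QUOT_prod_mem m _ hLl c
      have hx' := (QUOT_conj_mem hN m _ hPm _ hx).1
      refine ⟨c, (QUOT_prod (lvlList m) c)⁻¹ * xGL chevE8 F s t * QUOT_prod (lvlList m) c * z,
        mul_mem hx' hz, ?_⟩
      group
  unfold UL at hg
  induction hg using Subgroup.closure_induction_left with
  | one =>
    refine ⟨fun _ => 0, 1, one_mem _, ?_⟩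
    rw [mul_one]
    unfold QUOT_prod
    symm
    apply List.prod_eq_one
    intro g hg
    obtain ⟨r, _, rfl⟩ := List.mem_map.mp hg
    exact xGL_zero' chevE8 hE8 r
  | mul_left x hx y _ ih =>
    obtain ⟨s, t, hs, hms, rfl⟩ := hx
    exact hgen s t hs hms y ih
  | inv_mul_cancel x hx y _ ih =>
    obtain ⟨s, t, hs, hms, rfl⟩ := hx
    rw [Cfsg.Agent.Helper18.xGL_inv' chevE8 hE8]
    exact hgen s (-t) hs hms y ih

/-- (QUOT) -/
theorem collectFact (h25 : CommHyp chevE8 F) (h2 : (2 : F) = 0) (hc : CmpFacts F) (hN : NormFact F) :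
    CollectFact F := by
  intro m hm g hg
  obtain ⟨c, z, hz, e⟩ := QUOT_exists h25 hN m hm g hg
  refine ⟨z, hz, ?_⟩
  have hLl : ∀ r ∈ lvlList m, r < chevE8.nroots ∧ lev r = (m : ℤ) := fun r hr => (mem_lvlList m r).mp hr
  have hzm : z ∈ UL F m := UL_mono F (Nat.le_succ m) hz
  have hPm : QUOT_prod (lvlList m) c ∈ UL F m := QUOT_prod_mem m _ hLl c
  have key : ∀ r ∈ lvlList m, cmp g r (jOdd r) = c r := by
    intro r hr
    obtain ⟨hr1, hr2⟩ := hLl r hr
    rw [e, hc.mul_UL m hm _ _ hPm hzm r (jOdd r) hr2,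
      QUOT_cmp_prod h2 hc m hm c r hr1 hr2 (lvlList m) (nodup_lvlList m) hLl, if_pos hr,
      hc.zero_UL (m + 1) (by omega) z hz r (jOdd r) (by rw [hr2]; push_cast; omega), add_zero]
  have : ((lvlList m).map (fun r => xGL chevE8 F r (cmp g r (jOdd r)))).prod = QUOT_prod (lvlList m) c := by
    unfold QUOT_prod
    have e : (lvlList m).map (fun r => xGL chevE8 F r (cmp g r (jOdd r))) =
        (lvlList m).map (fun r => xGL chevE8 F r (c r)) :=
      List.map_congr_left (fun r hr => by rw [key r hr])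
    rw [e]
  rw [this]
  exact e

end Cfsg.Agent.Helper52.E8C
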