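import Mathlib

/-!
# S3590 piece (REFC) for helper99: the fixed space of a matrix with eigenvalue `1`, even rank of
`M - 1` and even dimension has dimension at least 2.
-/

set_option autoImplicit false

universe u

namespace Cfsg.Agent.Helper52.Is8

open Matrix Polynomial

variable {F : Type u} [Field F] {ι : Type} [Fintype ι] [DecidableEq ι]

/-- (REFC) the fixed space has dimension at least 2. -/
theorem two_le_finrank_ker (M : Matrix ι ι F) (hdvd : (X - 1 : F[X]) ∣ minpoly F M)
    (hev : Even (M - 1).rank) (hcard : Even (Fintype.card ι)) :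
    2 ≤ Module.finrank F (LinearMap.ker (Matrix.toLin' (M - 1))) := by
  -- `1` is a root of the minimal polynomial
  have hroot : (minpoly F (Matrix.toLin' M)).IsRoot 1 := by
    rw [Matrix.minpoly_toLin']
    obtain ⟨c, hc⟩ := hdvd
    rw [hc, Polynomial.IsRoot.def, Polynomial.eval_mul]
    simp
  have hev1 : Module.End.HasEigenvalue (Matrix.toLin' M) 1 :=
    Module.End.hasEigenvalue_of_isRoot hroot
  obtain ⟨v, hv⟩ := hev1.exists_hasEigenvector
  have hvker : v ∈ LinearMap.ker (Matrix.toLin' (M - 1)) := by
    rw [LinearMap.mem_ker, map_sub, LinearMap.sub_apply, hv.apply_eq_smul, one_smul,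
      Matrix.toLin'_one, LinearMap.id_apply, sub_self]
  have hpos : 0 < Module.finrank F (LinearMap.ker (Matrix.toLin' (M - 1))) := by
    rw [Module.finrank_pos_iff_exists_ne_zero]
    refine ⟨⟨v, hvker⟩, ?_⟩
    intro h0
    exact hv.2 (congrArg Subtype.val h0)
  -- rank–nullity
  have hrn := LinearMap.finrank_range_add_finrank_ker (Matrix.toLin' (M - 1))
  rw [Module.finrank_fintype_fun_eq_card] at hrn
  have hrank : (M - 1).rank = Module.finrank F (LinearMap.range (Matrix.toLin' (M - 1))) := by
    rw [Matrix.rank, Matrix.toLin'_apply']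
  rw [← hrank] at hrn
  obtain ⟨a, ha⟩ := hev
  obtain ⟨b, hb⟩ := hcard
  omega

end Cfsg.Agent.Helper52.Is8
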