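import Mathlib
import Cfsg.Prelude.Def_Classical
import Cfsg.Agent.Helper99.Is8.Defs
import Cfsg.Agent.Helper44.OrthRealizeC
import Cfsg.Agent.Helper44.StdForms
import Cfsg.Agent.Helper44.StdNondeg

/-!
# S3590 piece (U32P) for helper99: a unipotent isometry of order 4 of the hyperbolic space of
dimension 6 in characteristic 2 (`UR F 3 1 2`).

`ur_of_zmod_two`: a general criterion (a `0/1` matrix over `ZMod 2` of order `2 ^ (n + 1)` whose image
preserves `Q`, a Smith normal form of `M₀ - 1` over `ZMod 2` with an even number of ones, and a vector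
over `ZMod 2` not killed by `(M₀ + 1) ^ (2 ^ (n + 1) - 1)`).
-/

set_option autoImplicit false
set_option linter.unusedSectionVars false
set_option linter.unusedVariables false
set_option maxRecDepth 100000

universe u

namespace Cfsg.Agent.Helper52.Is8

open Matrix Polynomial QuadraticMap Cfsg.Agent.Helper99.Is8 Cfsg.Agent.Helper44
  Cfsg.Agent.Helper44.QType

variable {F : Type u} [Field F] [Fintype F]

/-- a `0/1` criterion for `UR` -/
theorem ur_of_zmod_two [CharP F 2] {ι : Type} [Fintype ι] [DecidableEq ι]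
    (Q : QuadraticForm F (ι → F)) (m : ℕ) (ε : ℤ)
    (hcard : Fintype.card ι = 2 * m) (hnd : ∀ x, (∀ y, polar Q x y = 0) → x = 0)
    (hT : HasType (⇑Q) m ε) (M₀ : Matrix ι ι (ZMod 2)) (n : ℕ)
    (hM : ∀ v : ι → F, Q (Matrix.mulVec ((ZMod.castHom (dvd_refl 2) F).mapMatrix M₀) v) = Q v)
    (hpow : M₀ ^ 2 ^ (n + 1) = 1) (hne : M₀ ^ 2 ^ n ≠ 1)
    (P P' R R' : Matrix ι ι (ZMod 2)) (S : Finset ι) (hP : P * P' = 1) (hR : R * R' = 1)
    (hD : P * (M₀ - 1) * R = Matrix.diagonal (fun i => if i ∈ S then (1 : ZMod 2) else 0))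
    (hS : Even S.card)
    (w₀ : ι → ZMod 2) (hw : ((M₀ + 1) ^ (2 ^ (n + 1) - 1)) *ᵥ w₀ ≠ 0) : UR F m ε (n + 1) := by
  classical
  set φ : ZMod 2 →+* F := ZMod.castHom (dvd_refl 2) F with hφ
  set M : Matrix ι ι F := φ.mapMatrix M₀ with hMdef
  have hMpow : M ^ 2 ^ (n + 1) = 1 := by rw [hMdef, ← map_pow, hpow, map_one]
  have hpos : 1 ≤ 2 ^ (n + 1) := Nat.one_le_two_pow
  let g : GL ι F := ⟨M, M ^ (2 ^ (n + 1) - 1),
    by rw [← pow_succ', Nat.sub_add_cancel hpos, hMpow],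
    by rw [← pow_succ, Nat.sub_add_cancel hpos, hMpow]⟩
  have hg : g ∈ Cfsg.isometryGroup F ⇑Q := (Cfsg.Agent.Helper44.mem_isometryGroup_iff _ g).mpr hM
  have hinj : Function.Injective (φ.mapMatrix (m := ι)) := by
    intro A B hAB
    simp only [RingHom.mapMatrix_apply] at hAB
    exact Matrix.map_injective φ.injective hAB
  refine ⟨ι, inferInstance, inferInstance, Q, hcard, hnd, hT, ⟨g, hg⟩, fun i => φ (w₀ i), ?_, ?_, ?_⟩
  · -- the order
    have hcoe : ∀ k : ℕ, (((⟨g, hg⟩ : ↥(Cfsg.isometryGroup F ⇑Q)) ^ k : ↥(Cfsg.isometryGroup F ⇑Q)) :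
        GL ι F).1 = M ^ k := by
      intro k
      rw [Subgroup.coe_pow, Units.val_pow_eq_pow_val]
    have : Fact (Nat.Prime 2) := ⟨Nat.prime_two⟩
    apply orderOf_eq_prime_pow
    · intro h1
      have h2 := hcoe (2 ^ n)
      rw [h1] at h2
      have h3 : M ^ 2 ^ n = 1 := h2.symm
      rw [hMdef, ← map_pow] at h3
      apply hne
      apply hinj
      rw [h3, map_one]
    · apply Subtype.ext
      apply Units.ext
      rw [hcoe, hMpow]
      rfl
  · -- the rank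
    show Even (M - 1).rank
    have hA : M - 1 = φ.mapMatrix (M₀ - 1) := by rw [map_sub, map_one]
    have hPu : IsUnit (φ.mapMatrix P).det := by
      apply Matrix.isUnit_det_of_right_inverse (B := φ.mapMatrix P')
      rw [← map_mul, hP, map_one]
    have hRu : IsUnit (φ.mapMatrix R).det := by
      apply Matrix.isUnit_det_of_right_inverse (B := φ.mapMatrix R')
      rw [← map_mul, hR, map_one]
    have hDF : φ.mapMatrix P * (M - 1) * φ.mapMatrix R =
        Matrix.diagonal (fun i => if i ∈ S then (1 : F) else 0) := by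
      rw [hA, ← map_mul, ← map_mul, hD]
      ext i j
      simp only [RingHom.mapMatrix_apply, Matrix.map_apply, Matrix.diagonal_apply]
      by_cases hij : i = j
      · simp only [hij, if_true]
        split_ifs <;> simp
      · simp only [hij, if_false, map_zero]
    have hrank : (M - 1).rank = S.card := by
      rw [← Matrix.rank_mul_eq_right_of_isUnit_det (φ.mapMatrix P) (M - 1) hPu,
        ← Matrix.rank_mul_eq_left_of_isUnit_det (φ.mapMatrix R) _ hRu, hDF, Matrix.rank_diagonal]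
      apply Fintype.card_of_subtype
      intro x
      by_cases hx : x ∈ S <;> simp [hx]
    rw [hrank]
    exact hS
  · -- the vector
    show ((M + 1) ^ (2 ^ (n + 1) - 1)) *ᵥ (fun i => φ (w₀ i)) ≠ 0
    intro h0
    apply hw
    have hB : (M + 1) ^ (2 ^ (n + 1) - 1) = φ.mapMatrix ((M₀ + 1) ^ (2 ^ (n + 1) - 1)) := by
      rw [map_pow, map_add, map_one]
    rw [hB] at h0
    ext i
    have hi := congrFun h0 i
    apply φ.injective
    rw [Pi.zero_apply] at hi ⊢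
    rw [map_zero, ← hi]
    simp only [RingHom.mapMatrix_apply, Matrix.mulVec, dotProduct, Matrix.map_apply, map_sum,
      map_mul]

/-- the 4-cycle `x₁' = x₂, x₂' = y₁, y₁' = y₂, y₂' = x₁` with the swap `x₃ ↔ y₃`, over `ZMod 2` -/
def u32p_M : Matrix (Fin 3 ⊕ Fin 3) (Fin 3 ⊕ Fin 3) (ZMod 2) :=
  Matrix.fromBlocks !![0, 1, 0; 0, 0, 0; 0, 0, 0] !![0, 0, 0; 1, 0, 0; 0, 0, 1]
    !![0, 0, 0; 1, 0, 0; 0, 0, 1] !![0, 1, 0; 0, 0, 0; 0, 0, 0]

/-- row operations -/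
def u32p_P : Matrix (Fin 3 ⊕ Fin 3) (Fin 3 ⊕ Fin 3) (ZMod 2) :=
  Matrix.fromBlocks !![1, 0, 0; 0, 1, 0; 0, 0, 1] !![0, 0, 0; 0, 0, 0; 0, 0, 0]
    !![0, 0, 0; 1, 1, 0; 0, 0, 1] !![1, 0, 0; 1, 1, 0; 0, 0, 1]

/-- column operations -/
def u32p_R : Matrix (Fin 3 ⊕ Fin 3) (Fin 3 ⊕ Fin 3) (ZMod 2) :=
  Matrix.fromBlocks !![1, 1, 0; 0, 1, 0; 0, 0, 1] !![1, 1, 0; 1, 1, 0; 0, 0, 1]
    !![0, 0, 0; 0, 0, 0; 0, 0, 0] !![1, 1, 0; 0, 1, 0; 0, 0, 1]

/-- the inverse of the column operations -/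
def u32p_R' : Matrix (Fin 3 ⊕ Fin 3) (Fin 3 ⊕ Fin 3) (ZMod 2) :=
  Matrix.fromBlocks !![1, 1, 0; 0, 1, 0; 0, 0, 1] !![0, 0, 0; 1, 0, 0; 0, 0, 1]
    !![0, 0, 0; 0, 0, 0; 0, 0, 0] !![1, 1, 0; 0, 1, 0; 0, 0, 1]

/-- the support of the Smith normal form -/
def u32p_S : Finset (Fin 3 ⊕ Fin 3) := {Sum.inl 0, Sum.inl 1, Sum.inl 2, Sum.inr 0}

theorem u32p_pow : u32p_M ^ 2 ^ (1 + 1) = 1 := by decide

theorem u32p_ne : u32p_M ^ 2 ^ 1 ≠ 1 := by decide

theorem u32p_PP : u32p_P * u32p_P = 1 := by decide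

theorem u32p_RR : u32p_R * u32p_R' = 1 := by decide

theorem u32p_D : u32p_P * (u32p_M - 1) * u32p_R =
    Matrix.diagonal (fun i => if i ∈ u32p_S then (1 : ZMod 2) else 0) := by decide

theorem u32p_w : ((u32p_M + 1) ^ (2 ^ (1 + 1) - 1)) *ᵥ (Pi.single (Sum.inl 0) 1) ≠ 0 := by decide

/-- (U32P) -/
theorem ur_3_plus_2 [CharP F 2] : UR F 3 1 2 := by
  have h := ur_of_zmod_two (F := F) (Cfsg.Agent.Helper44.plusForm 3 F) 3 1
    (by simp) ((Cfsg.Agent.Helper44.QType.nondeg_iff _).mp (Cfsg.Agent.Helper44.nondegenerate_plusForm 3))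
    (Cfsg.Agent.Helper44.QType.hasType_plus 3) u32p_M 1 ?_ u32p_pow u32p_ne
    u32p_P u32p_P u32p_R u32p_R' u32p_S u32p_PP u32p_RR u32p_D (by decide)
    (Pi.single (Sum.inl 0) 1) u32p_w
  · exact h
  · intro v
    rw [Cfsg.Agent.Helper44.plusForm_coe]
    unfold Cfsg.quadFormPlus
    simp only [Fin.sum_univ_three, u32p_M, RingHom.mapMatrix_apply, Matrix.mulVec, dotProduct,
      Fintype.sum_sum_type, Matrix.map_apply, Matrix.fromBlocks_apply₁₁, Matrix.fromBlocks_apply₁₂,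
      Matrix.fromBlocks_apply₂₁, Matrix.fromBlocks_apply₂₂]
    simp
    ring

end Cfsg.Agent.Helper52.Is8
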