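import Mathlib
import Cfsg.Agent.Helper52.PQDefs
import Cfsg.Prelude.Def_Transfer
import Cfsg.Agent.Helper65.PQG
import Cfsg.Agent.Helper25.PQL
import Cfsg.Agent.Helper62.PQHH
import Cfsg.Agent.Helper79.PQFV
import Cfsg.Agent.Helper79.PQNS
import Cfsg.Agent.Helper37.PQSD
import Cfsg.Agent.Helper38.PQFA
import Cfsg.Agent.Helper41.PQFB
import Cfsg.Agent.Helper1.PQT1
import Cfsg.Agent.Helper33.PQP
import Cfsg.Agent.Helper32.PQSQ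
import Cfsg.Agent.Helper80.PQSR
import Cfsg.Agent.Helper79.PQPR
import Cfsg.Agent.Helper62.PQTY
import Cfsg.Agent.Helper41.PQBG
import Cfsg.Agent.Helper65.PQOB
import Cfsg.Agent.Helper65.PQBS
import Cfsg.Agent.Helper24.PQOF
import Cfsg.Agent.Helper37.PQBX
import Cfsg.Agent.Helper64.PQE2
import Cfsg.Agent.Helper84.PQE3
import Cfsg.Agent.Helper64.PQE1

set_option autoImplicit false

/-!
# S4306 (nonabelian `pq` acting fixed-point-freely): all pieces, wired (helper52)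

Every piece below has the EXACT signature of the WANTED posts #5134-#5137 and is proved by citing
the module of the seat that delivered it.
`τ_i := σ ^ i * τ * (σ ^ i)⁻¹`.  Conjugation is `g * x * g⁻¹`.
-/

namespace Cfsg.Agent.Helper52.PQPieces

open Subgroup Cfsg.Agent.Helper1.Shult Cfsg.Agent.Helper52.PQ

universe v v1 v2

section pieces

variable {H : Type*} [Group H] [Finite H]

/-! ### (F) API of `FrobPair` -/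

theorem frob_dvd_pred {s t : ℕ} {σ τ : H} (h : FrobPair s t σ τ) : t ∣ s - 1 := Cfsg.Agent.Helper38.PQFA.frob_dvd_pred h

theorem frob_ne {s t : ℕ} {σ τ : H} (h : FrobPair s t σ τ) : s ≠ t := Cfsg.Agent.Helper38.PQFA.frob_ne h

theorem frob_conj {s t : ℕ} {σ τ : H} (h : FrobPair s t σ τ) (i : ℕ) :
    FrobPair s t σ (σ ^ i * τ * (σ ^ i)⁻¹) := Cfsg.Agent.Helper38.PQFA.frob_conj h i

theorem inv_conj_iff (σ τ : H) (i : ℕ) (X : Subgroup H) :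
    Inv σ (σ ^ i * τ * (σ ^ i)⁻¹) X ↔ Inv σ τ X := Cfsg.Agent.Helper38.PQFA.inv_conj_iff σ τ i X

theorem fix_conj_eq (σ τ : H) (i : ℕ) (X : Subgroup H) :
    Fix σ (σ ^ i * τ * (σ ^ i)⁻¹) X = Fix σ τ X := Cfsg.Agent.Helper38.PQFA.fix_conj_eq σ τ i X

theorem frob_card_closure {s t : ℕ} {σ τ : H} (h : FrobPair s t σ τ) :
    Nat.card (closure ({σ, τ} : Set H)) = s * t := Cfsg.Agent.Helper41.PQ.frob_card_closure h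

theorem frob_isSolvable_closure {s t : ℕ} {σ τ : H} (h : FrobPair s t σ τ) :
    Group.IsSolvable (closure ({σ, τ} : Set H)) := Cfsg.Agent.Helper41.PQ.frob_isSolvable_closure h

/-- every subgroup of `⟨σ, τ⟩` contains `σ`, or is trivial, or is some `⟨τ_i⟩`. -/
theorem frob_subgroup_cases {s t : ℕ} {σ τ : H} (h : FrobPair s t σ τ) (B : Subgroup H)
    (hB : B ≤ closure ({σ, τ} : Set H)) :
    σ ∈ B ∨ B = ⊥ ∨ ∃ i : ℕ, B = zpowers (σ ^ i * τ * (σ ^ i)⁻¹) := Cfsg.Agent.Helper41.PQ.frob_subgroup_cases h B hB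

/-- conjugates of `σ` under `⟨σ, τ⟩` are nontrivial powers of `σ`. -/
theorem frob_conj_sigma {s t : ℕ} {σ τ : H} (h : FrobPair s t σ τ) (a : H)
    (ha : a ∈ closure ({σ, τ} : Set H)) :
    ∃ m : ℕ, ¬ s ∣ m ∧ a * σ * a⁻¹ = σ ^ m := Cfsg.Agent.Helper38.PQFA.frob_conj_sigma h a ha

/-- `σ` acts trivially on an `⟨σ,τ⟩`-invariant quotient of prime order. -/
theorem frob_sigma_cyclic_quotient {s t : ℕ} {σ τ : H} (h : FrobPair s t σ τ) (Q D : Subgroup H)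
    {q : ℕ} (hq : q.Prime) (hDQ : D ≤ Q) (hDn : Q ≤ normalizer (D : Set H))
    (hidx : D.relIndex Q = q) (hQinv : Inv σ τ Q) (hDinv : Inv σ τ D) :
    ∀ x ∈ Q, x⁻¹ * (σ * x * σ⁻¹) ∈ D := Cfsg.Agent.Helper38.PQFA.frob_sigma_cyclic_quotient h Q D hq hDQ hDn hidx hQinv hDinv

/-! ### (L) coprime lifting of fixed points, (G) surjectivity of `x ↦ x⁻¹ b x b⁻¹` -/

theorem pq_fixed_lift {s t : ℕ} {σ τ : H} (h : FrobPair s t σ τ) (N : Subgroup H) (hN : Inv σ τ N)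
    (hcop : (Nat.card N).Coprime (s * t)) (y : H)
    (hyσ : y⁻¹ * (σ * y * σ⁻¹) ∈ N) (hyτ : y⁻¹ * (τ * y * τ⁻¹) ∈ N) :
    ∃ n ∈ N, σ * (y * n) * σ⁻¹ = y * n ∧ τ * (y * n) * τ⁻¹ = y * n := Cfsg.Agent.Helper25.PQ.pq_fixed_lift h N hN hcop y hyσ hyτ

theorem surj_comm_of_fpf (b : H) (R R0 : Subgroup H) (hR0R : R0 ≤ R)
    (hRR0 : R ≤ normalizer (R0 : Set H)) (hbR : b ∈ normalizer (R : Set H))
    (hbR0 : b ∈ normalizer (R0 : Set H))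
    (hfpf : ∀ x ∈ R, x⁻¹ * (b * x * b⁻¹) ∈ R0 → x ∈ R0) :
    ∀ y ∈ R, ∃ x ∈ R, ∃ n ∈ R0, y = x⁻¹ * (b * x * b⁻¹) * n := Cfsg.Agent.Helper65.PQ.surj_comm_of_fpf b R R0 hR0R hRR0 hbR hbR0 hfpf

/-! ### (TY) types of hyperplanes -/

theorem types {s t ℓ w : ℕ} [Fact ℓ.Prime] [Fact w.Prime] {σ τ : H} (hF : FrobPair s t σ τ)
    (hwℓ : w ≠ ℓ) (hℓs : ℓ ≠ s) (hℓt : ℓ ≠ t) (hws : w ≠ s) (hwt : w ≠ t)
    (V T : Subgroup H) (hV : IsEA ℓ V) (hT : IsEA w T) (hVinv : Inv σ τ V) (hTinv : Inv σ τ T)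
    (hTV : T ≤ normalizer (V : Set H)) (hfixV : Fix σ τ V = ⊥) (hfixT : Fix σ τ T = ⊥)
    (hVT : V ⊓ centralizer (T : Set H) = ⊥)
    (D : Subgroup H) (hD : IsHyp w T ⊥ D) (hVD : V ⊓ centralizer (D : Set H) ≠ ⊥) :
    (σ ∈ normalizer (D : Set H) ∧ (∀ g ∈ T, g⁻¹ * (σ * g * σ⁻¹) ∈ D) ∧
        (V ⊓ centralizer (D : Set H)) ⊓ centralizer {σ} = ⊥) ∨
    (σ ∉ normalizer (D : Set H) ∧ ∃ i : ℕ,
        σ ^ i * τ * (σ ^ i)⁻¹ ∈ normalizer (D : Set H) ∧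
        (∀ g ∈ T, g⁻¹ * ((σ ^ i * τ * (σ ^ i)⁻¹) * g * (σ ^ i * τ * (σ ^ i)⁻¹)⁻¹) ∈ D) ∧
        (V ⊓ centralizer (D : Set H)) ⊓ centralizer {σ ^ i * τ * (σ ^ i)⁻¹} = ⊥) := Cfsg.Agent.Helper62.PQ.types hF hwℓ hℓs hℓt hws hwt V T hV hT hVinv hTinv hTV hfixV hfixT hVT D hD hVD

/-! ### (P) Lemma P -/

theorem lemmaP {s t w u : ℕ} [Fact w.Prime] [Fact u.Prime] {σ τ : H} (hF : FrobPair s t σ τ)
    (hwu : w ≠ u) (hws : w ≠ s) (hwt : w ≠ t) (hus : u ≠ s) (hut : u ≠ t)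
    (Q R R0 : Subgroup H) (hQ : IsEA w Q) (hR : IsPGroup u R)
    (hQinv : Inv σ τ Q) (hRinv : Inv σ τ R) (hR0inv : Inv σ τ R0)
    (hRQ : R ≤ normalizer (Q : Set H)) (hR0R : R0 ≤ R) (hR0 : R0 ≤ centralizer (Q : Set H))
    (hRcomm : ∀ x ∈ R, ∀ y ∈ R, x * y * x⁻¹ * y⁻¹ ∈ R0) (hRpow : ∀ x ∈ R, x ^ u ∈ R0)
    (hQR : Q ⊓ centralizer (R : Set H) = ⊥) (hfixQ : Fix σ τ Q = ⊥)
    (hρ : ∀ x ∈ R, x⁻¹ * (σ * x * σ⁻¹) ∈ R0 → x ∈ R0)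
    (N : Subgroup H) (hNQ : N ≤ Q) (hNτ : ∀ g ∈ Q, g⁻¹ * (τ * g * τ⁻¹) ∈ N)
    (hNy : ∀ x ∈ R, ∀ g ∈ Q,
      g⁻¹ * ((x⁻¹ * (τ * x * τ⁻¹)) * g * (x⁻¹ * (τ * x * τ⁻¹))⁻¹) ∈ N) :
    N = Q := Cfsg.Agent.Helper33.PQ.lemmaP hF hwu hws hwt hus hut Q R R0 hQ hR hQinv hRinv hR0inv hRQ hR0R hR0 hRcomm hRpow hQR hfixQ hρ N hNQ hNτ hNy

/-- (P') relative form: the same modulo an invariant subgroup `Q1` with `Q / Q1` elementary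
abelian. -/
theorem lemmaP_rel {s t w u : ℕ} [Fact w.Prime] [Fact u.Prime] {σ τ : H} (hF : FrobPair s t σ τ)
    (hwu : w ≠ u) (hws : w ≠ s) (hwt : w ≠ t) (hus : u ≠ s) (hut : u ≠ t)
    (Q Q1 R R0 : Subgroup H) (hQ : IsPGroup w Q) (hR : IsPGroup u R) (hQ1Q : Q1 ≤ Q)
    (hQcomm : ∀ g ∈ Q, ∀ h ∈ Q, g * h * g⁻¹ * h⁻¹ ∈ Q1) (hQpow : ∀ g ∈ Q, g ^ w ∈ Q1)
    (hQinv : Inv σ τ Q) (hQ1inv : Inv σ τ Q1) (hRinv : Inv σ τ R) (hR0inv : Inv σ τ R0)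
    (hRQ : R ≤ normalizer (Q : Set H)) (hRQ1 : R ≤ normalizer (Q1 : Set H)) (hR0R : R0 ≤ R)
    (hR0 : ∀ x ∈ R0, ∀ g ∈ Q, g⁻¹ * (x * g * x⁻¹) ∈ Q1)
    (hRcomm : ∀ x ∈ R, ∀ y ∈ R, x * y * x⁻¹ * y⁻¹ ∈ R0) (hRpow : ∀ x ∈ R, x ^ u ∈ R0)
    (hQR : ∀ g ∈ Q, (∀ x ∈ R, g⁻¹ * (x * g * x⁻¹) ∈ Q1) → g ∈ Q1) (hfixQ : Fix σ τ Q = ⊥)
    (hρ : ∀ x ∈ R, x⁻¹ * (σ * x * σ⁻¹) ∈ R0 → x ∈ R0)
    (N : Subgroup H) (hQ1N : Q1 ≤ N) (hNQ : N ≤ Q) (hNτ : ∀ g ∈ Q, g⁻¹ * (τ * g * τ⁻¹) ∈ N)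
    (hNy : ∀ x ∈ R, ∀ g ∈ Q,
      g⁻¹ * ((x⁻¹ * (τ * x * τ⁻¹)) * g * (x⁻¹ * (τ * x * τ⁻¹))⁻¹) ∈ N) :
    N = Q := Cfsg.Agent.Helper79.PQ.lemmaP_rel hF hwu hws hwt hus hut Q Q1 R R0 hQ hR hQ1Q hQcomm hQpow hQinv hQ1inv hRinv hR0inv hRQ hRQ1 hR0R hR0 hRcomm hRpow hQR hfixQ hρ N hQ1N hNQ hNτ hNy

/-! ### (HH) Hall–Higman–Shult wrapper of S3765 -/

theorem hhs_q {ℓ w r : ℕ} [Fact ℓ.Prime] [Fact w.Prime] (hr : r.Prime) (hwℓ : w ≠ ℓ) (hℓr : ℓ ≠ r)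
    (hwr : w ≠ r) (b : H) (hb : orderOf b = r) (Q W : Subgroup H) (hQ : IsPGroup w Q)
    (hW : IsEA ℓ W) (hbQ : b ∈ normalizer (Q : Set H)) (hbW : b ∈ normalizer (W : Set H))
    (hQW : Q ≤ normalizer (W : Set H)) (hfix : W ⊓ centralizer {b} = ⊥)
    (hexc : w = 2 → ¬ ∃ n : ℕ, r = 2 ^ n + 1) :
    ∀ g ∈ Q, g⁻¹ * (b * g * b⁻¹) ∈ centralizer (W : Set H) := Cfsg.Agent.Helper62.PQ.hhs_q hr hwℓ hℓr hwr b hb Q W hQ hW hbQ hbW hQW hfix hexc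

/-! ### (E) the exceptional configuration -/

theorem lemmaE1 {ℓ u t : ℕ} [Fact ℓ.Prime] [Fact u.Prime] {b : H} {W Q Z R : Subgroup H}
    (e : ECfg ℓ u t b W Q Z R) :
    Cfsg.IsExtraspecial 2 ↥(⁅Q, zpowers b⁆) ∧ Z ≤ ⁅Q, zpowers b⁆ ∧
    ⁅Q, zpowers b⁆ ⊓ centralizer ((⁅Q, zpowers b⁆ : Subgroup H) : Set H) = Z ∧
    ⁅Q, zpowers b⁆ ⊓ centralizer {b} = Z ∧
    ∃ n : ℕ, t = 2 ^ n + 1 ∧ Nat.card ↥(⁅Q, zpowers b⁆) = 2 ^ (2 * n + 1) := Cfsg.Agent.Helper64.PQ.lemmaE1 e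

theorem lemmaE2 {ℓ u t : ℕ} [Fact ℓ.Prime] [Fact u.Prime] {b : H} {W Q Z R : Subgroup H}
    (e : ECfg ℓ u t b W Q Z R) (n : ℕ) (hn : t = 2 ^ n + 1)
    (hcard : Nat.card ↥(⁅Q, zpowers b⁆) = 2 ^ (2 * n + 1)) (hZP : Z ≤ ⁅Q, zpowers b⁆)
    (hcen : ⁅Q, zpowers b⁆ ⊓ centralizer ((⁅Q, zpowers b⁆ : Subgroup H) : Set H) = Z) :
    ∀ x ∈ R, x⁻¹ * (b * x * b⁻¹) ∈ centralizer (Q : Set H) := Cfsg.Agent.Helper64.PQ.lemmaE2 e n hn hcard hZP hcen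

theorem lemmaE3 {ℓ u t : ℕ} [Fact ℓ.Prime] [Fact u.Prime] {b : H} {W Q Z R : Subgroup H}
    (e : ECfg ℓ u t b W Q Z R)
    (hP : Cfsg.IsExtraspecial 2 ↥(⁅Q, zpowers b⁆)) (hZP : Z ≤ ⁅Q, zpowers b⁆)
    (hcen : ⁅Q, zpowers b⁆ ⊓ centralizer ((⁅Q, zpowers b⁆ : Subgroup H) : Set H) = Z)
    (hCb : ⁅Q, zpowers b⁆ ⊓ centralizer {b} = Z)
    (n : ℕ) (hn : t = 2 ^ n + 1) (hcard : Nat.card ↥(⁅Q, zpowers b⁆) = 2 ^ (2 * n + 1))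
    (hRb : ∀ x ∈ R, x⁻¹ * (b * x * b⁻¹) ∈ centralizer (Q : Set H)) : False := Cfsg.Agent.Helper84.PQ.lemmaE3 e hP hZP hcen hCb n hn hcard hRb

theorem lemmaE {ℓ u t : ℕ} [Fact ℓ.Prime] [Fact u.Prime] {b : H} {W Q Z R : Subgroup H}
    (e : ECfg ℓ u t b W Q Z R) : False := by
  obtain ⟨hP, hZP, hcen, hCb, n, hn, hcard⟩ := lemmaE1 e
  exact lemmaE3 e hP hZP hcen hCb n hn hcard (lemmaE2 e n hn hcard hZP hcen)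

/-! ### the core: structure of the minimal tower -/

variable {s t ℓ w u : ℕ} [Fact ℓ.Prime] [Fact w.Prime] [Fact u.Prime] {σ τ : H}
  {V Q R : Subgroup H}

/-- (SR) structure of `R`; `R0 = C_R(Q)`. -/
theorem struct_R (c : CoreCfg s t ℓ w u σ τ V Q R) :
    R ⊓ centralizer (Q : Set H) ≠ R ∧
    (∀ x ∈ R, ∀ y ∈ R, x * y * x⁻¹ * y⁻¹ ∈ R ⊓ centralizer (Q : Set H)) ∧
    (∀ x ∈ R, x ^ u ∈ R ⊓ centralizer (Q : Set H)) ∧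
    ((R ≤ centralizer {σ} ∧ ∀ i : ℕ, ∀ x ∈ R,
        x⁻¹ * ((σ ^ i * τ * (σ ^ i)⁻¹) * x * (σ ^ i * τ * (σ ^ i)⁻¹)⁻¹) ∈
          R ⊓ centralizer (Q : Set H) → x ∈ R ⊓ centralizer (Q : Set H)) ∨
      (∀ x ∈ R, x⁻¹ * (σ * x * σ⁻¹) ∈ R ⊓ centralizer (Q : Set H) →
        x ∈ R ⊓ centralizer (Q : Set H))) := Cfsg.Agent.Helper80.PQ.struct_R c

/-- (SQ) structure of `Q`. -/
theorem struct_Q (c : CoreCfg s t ℓ w u σ τ V Q R) :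
    ⁅Q, Q⁆ ≤ centralizer (R : Set H) ∧ ⁅Q, Q⁆ ≤ centralizer (Q : Set H) ∧
    (∀ g ∈ Q, g ^ w ∈ ⁅Q, Q⁆) ∧ (∀ z ∈ ⁅Q, Q⁆, z ^ w = 1) ∧
    (∀ N : Subgroup H, ⁅Q, Q⁆ ≤ N → N ≤ Q → R ≤ normalizer (N : Set H) →
      ∀ g ∈ Q, (∀ x ∈ R, g⁻¹ * (x * g * x⁻¹) ∈ N) → g ∈ N) := Cfsg.Agent.Helper32.PQ.struct_Q c

/-- (FV) a nontrivial normal invariant subgroup of `Q` has no fixed points on `V`. -/
theorem fixV_of_normal (c : CoreCfg s t ℓ w u σ τ V Q R) (T : Subgroup H) (hTQ : T ≤ Q)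
    (hT1 : T ≠ ⊥) (hTinv : Inv σ τ T) (hQT : Q ≤ normalizer (T : Set H))
    (hRT : R ≤ normalizer (T : Set H)) : V ⊓ centralizer (T : Set H) = ⊥ := Cfsg.Agent.Helper79.PQ.fixV_of_normal c T hTQ hT1 hTinv hQT hRT

/-- (NS) `σ` cannot centralize both `Q` and `R`. -/
theorem not_sigma_central (c : CoreCfg s t ℓ w u σ τ V Q R) (hQσ : Q ≤ centralizer {σ})
    (hRσ : R ≤ centralizer {σ}) : False := Cfsg.Agent.Helper79.PQ.not_sigma_central c hQσ hRσ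

/-- (OF) the orbit lemma, `Q` abelian. -/
theorem orbit_fix (c : CoreCfg s t ℓ w u σ τ V Q R) (hQab : IsEA w Q) (D : Subgroup H)
    (hD : IsHyp w Q ⊥ D) (hVD : V ⊓ centralizer (D : Set H) ≠ ⊥) (b : H)
    (hb : b = σ ∨ ∃ i : ℕ, b = σ ^ i * τ * (σ ^ i)⁻¹) (hbD : b ∈ normalizer (D : Set H))
    (hbQ : ∀ g ∈ Q, g⁻¹ * (b * g * b⁻¹) ∈ D) :
    ∀ x ∈ R, ∀ g ∈ Q,
      g⁻¹ * ((x⁻¹ * (b * x * b⁻¹)) * g * (x⁻¹ * (b * x * b⁻¹))⁻¹) ∈ D := Cfsg.Agent.Helper24.PQ.orbit_fix_of_types c (fun hVQ => types c.hF c.hwℓ c.hℓs c.hℓt c.hws c.hwt V Q c.hV hQab c.hVinv c.hQinv c.hQV c.hfixV c.hfixQ hVQ) D hD hVD b hb hbD hbQ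

/-- (OB) `Q` nonabelian: the `⟨σ,τ⟩`-conjugates of `V_D` generate `V`, in the form used. -/
theorem caseB_orbit_faithful (c : CoreCfg s t ℓ w u σ τ V Q R) (D : Subgroup H)
    (hD : IsHyp w ⁅Q, Q⁆ ⊥ D) (hVD : V ⊓ centralizer (D : Set H) ≠ ⊥) :
    ∀ g ∈ Q, (∀ a ∈ closure ({σ, τ} : Set H),
      a * g * a⁻¹ ∈ centralizer ((V ⊓ centralizer (D : Set H) : Subgroup H) : Set H)) → g = 1 :=
  Cfsg.Agent.Helper65.PQ.caseB_orbit_faithful_of c (struct_Q c).1 (struct_Q c).2.1 D hD hVD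

/-- (BS) `Q` nonabelian, a hyperplane of `σ`-type. -/
theorem caseB_sigma (c : CoreCfg s t ℓ w u σ τ V Q R) (D : Subgroup H)
    (hD : IsHyp w ⁅Q, Q⁆ ⊥ D) (hVD : V ⊓ centralizer (D : Set H) ≠ ⊥)
    (hσD : σ ∈ normalizer (D : Set H))
    (hfix : (V ⊓ centralizer (D : Set H)) ⊓ centralizer {σ} = ⊥) : False := Cfsg.Agent.Helper65.PQ.caseB_sigma_of c (frob_dvd_pred c.hF) (frob_conj_sigma c.hF) (struct_Q c).1 (struct_Q c).2.1 (struct_R c) (not_sigma_central c) D hD hVD hσD hfix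

/-- (BG) `Q` nonabelian, a hyperplane of `τ`-type, `[Q, b] ≤ C_Q(V_D)`. -/
theorem caseB_tau_good (c : CoreCfg s t ℓ w u σ τ V Q R) (D : Subgroup H)
    (hD : IsHyp w ⁅Q, Q⁆ ⊥ D) (hVD : V ⊓ centralizer (D : Set H) ≠ ⊥) (i : ℕ)
    (hbD : σ ^ i * τ * (σ ^ i)⁻¹ ∈ normalizer (D : Set H))
    (hgood : ∀ g ∈ Q, g⁻¹ * ((σ ^ i * τ * (σ ^ i)⁻¹) * g * (σ ^ i * τ * (σ ^ i)⁻¹)⁻¹) ∈
      centralizer ((V ⊓ centralizer (D : Set H) : Subgroup H) : Set H)) : False := Cfsg.Agent.Helper41.PQ.caseB_tau_good_of c (struct_Q c) (struct_R c) (fun s t w u _ _ σ τ => lemmaP_rel) D hD hVD i hbD hgood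

/-- (BX) `Q` nonabelian, a hyperplane of `τ`-type, `[Q, b] ≰ C_Q(V_D)`: transport to
`N_H(C_Q(V_D)) / C_Q(V_D)` and `lemmaE`. -/
theorem caseB_tau_exc (c : CoreCfg s t ℓ w u σ τ V Q R) (D : Subgroup H)
    (hD : IsHyp w ⁅Q, Q⁆ ⊥ D) (hVD : V ⊓ centralizer (D : Set H) ≠ ⊥) (i : ℕ)
    (hbD : σ ^ i * τ * (σ ^ i)⁻¹ ∈ normalizer (D : Set H))
    (hfix : (V ⊓ centralizer (D : Set H)) ⊓ centralizer {σ ^ i * τ * (σ ^ i)⁻¹} = ⊥)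
    (hbad : ∃ g ∈ Q, g⁻¹ * ((σ ^ i * τ * (σ ^ i)⁻¹) * g * (σ ^ i * τ * (σ ^ i)⁻¹)⁻¹) ∉
      centralizer ((V ⊓ centralizer (D : Set H) : Subgroup H) : Set H)) : False := Cfsg.Agent.Helper37.PQ.caseB_tau_exc_of (fun H' _ _ ℓ' u' t' _ _ b' W' Q' Z' R' e => lemmaE e) c (struct_Q c) (struct_R c) D hD hVD i hbD hfix hbad

end pieces

/-- (T1) the chief factor step from the tower lemma. -/
theorem t1_of_tower (hT : PQTowerStmt.{v}) : PQT1Stmt.{v} := Cfsg.Agent.Helper1.PQ.t1_of_tower hT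

/-- (SD) S4306 from the ambient theorem (semidirect product). -/
theorem pq_of_ambient (hW : PQAmbientStmt.{max v1 v2}) {G : Type v1} {A : Type v2} [Group G]
    [Finite G] [Group.IsSolvable G] [Group A] [Finite A] [MulDistribMulAction A G] (p q : ℕ)
    (hp : p.Prime) (hq : q.Prime) (hpq : p ≠ q) (hA : Nat.card A = p * q)
    (hAna : ¬ IsMulCommutative A) (hcop : (Nat.card G).Coprime (p * q))
    (hfpf : ∀ g : G, (∀ a : A, a • g = g) → g = 1) :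
    ∃ F : Subgroup G, ∃ hF : F.Normal, Group.IsNilpotent ↥F ∧ Group.IsNilpotent (G ⧸ F) := Cfsg.Agent.Helper37.PQ.pq_of_ambient hW p q hp hq hpq hA hAna hcop hfpf

end Cfsg.Agent.Helper52.PQPieces
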