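import Mathlib
import Cfsg.Agent.Helper52.PQPieces
import Cfsg.Agent.Helper60.WardW2

set_option autoImplicit false

namespace Cfsg.Agent.Helper52.PQAsm

open Subgroup Cfsg.Agent.Helper1.Shult Cfsg.Agent.Helper52.PQ Cfsg.Agent.Helper52.PQPieces
open scoped commutatorElement

variable {H : Type*} [Group H] [Finite H]

/-- an element normalizing `K` (finite group): criterion. -/
theorem mem_normalizer_of_conj_mem {K : Subgroup H} {g : H} (h : ∀ x ∈ K, g * x * g⁻¹ ∈ K) :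
    g ∈ normalizer (K : Set H) := by
  rw [mem_normalizer_iff]
  intro x
  refine ⟨h x, fun hx => ?_⟩
  -- conjugation by g is an injective self-map of the finite set K, hence surjective
  have hinj : Function.Injective (fun y : K => (⟨g * y.1 * g⁻¹, h y.1 y.2⟩ : K)) := by
    intro a b hab
    have := congrArg Subtype.val hab
    simp only [mul_left_inj, mul_right_inj] at this
    exact Subtype.ext this
  obtain ⟨y, hy⟩ := (Finite.surjective_of_injective hinj) ⟨g * x * g⁻¹, hx⟩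
  have h2 : g * y.1 * g⁻¹ = g * x * g⁻¹ := congrArg Subtype.val hy
  have h3 : y.1 = x := by simpa using h2
  rw [← h3]; exact y.2

theorem conj_commutator_mem {K : Subgroup H} {g : H} (hg : g ∈ normalizer (K : Set H)) :
    g ∈ normalizer ((⁅K, K⁆ : Subgroup H) : Set H) := by
  apply mem_normalizer_of_conj_mem
  intro x hx
  have h1 : (⁅K, K⁆).map (MulAut.conj g).toMonoidHom = ⁅K, K⁆ := by
    rw [Subgroup.map_commutator]
    have : K.map (MulAut.conj g).toMonoidHom = K := by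
      ext y
      constructor
      · rintro ⟨z, hz, rfl⟩
        exact (mem_normalizer_iff.mp hg z).mp hz
      · intro hy
        refine ⟨g⁻¹ * y * g, ?_, by simp [mul_assoc]⟩
        have := (mem_normalizer_iff.mp (inv_mem hg) y).mp hy
        simpa using this
    rw [this]
  have : g * x * g⁻¹ ∈ (⁅K, K⁆).map (MulAut.conj g).toMonoidHom := ⟨x, hx, rfl⟩
  rwa [h1] at this

theorem isPGroup_of_isEA {r : ℕ} {W : Subgroup H} (hW : IsEA r W) : IsPGroup r W := by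
  intro g
  refine ⟨1, ?_⟩
  have := hW.2 g.1 g.2
  rw [pow_one]
  exact Subtype.ext (by simpa using this)

theorem coprime_card_of_isEA {r q : ℕ} [Fact r.Prime] [Fact q.Prime] (hrq : q ≠ r) {W : Subgroup H}
    (hW : IsEA r W) : (Nat.card W).Coprime q := by
  obtain ⟨n, hn⟩ := IsPGroup.iff_card.mp (isPGroup_of_isEA hW)
  rw [hn]
  exact Nat.Coprime.pow_left n ((Nat.coprime_primes Fact.out Fact.out).mpr (Ne.symm hrq))

variable {s t ℓ w u : ℕ} [Fact ℓ.Prime] [Fact w.Prime] [Fact u.Prime] {σ τ : H}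
  {V Q R : Subgroup H}

/-- existence of a hyperplane `D` of the elementary abelian `T ≤ Q` with `V_D ≠ ⊥`. -/
theorem exists_hyp (c : CoreCfg s t ℓ w u σ τ V Q R) (T : Subgroup H) (hT : IsEA w T)
    (hTQ : T ≤ Q) (hVT : V ⊓ centralizer (T : Set H) = ⊥) :
    ∃ D : Subgroup H, IsHyp w T ⊥ D ∧ V ⊓ centralizer (D : Set H) ≠ ⊥ := by
  by_contra hcon
  push Not at hcon
  have hgen := Cfsg.Agent.Helper60.WardW2.gen_hyperplanes (s := w) V T ⊥ c.hV.1
    (hTQ.trans c.hQV) (coprime_card_of_isEA c.hwℓ c.hV) bot_le bot_le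
    (fun a ha b hb => by
      rw [mem_bot]
      have := hT.1 a ha b hb
      rw [this]; group)
    (fun a ha => by rw [mem_bot]; exact hT.2 a ha) hVT
  have hVbot : V = ⊥ := by
    rw [eq_bot_iff]
    refine hgen.trans (iSup_le ?_)
    rintro ⟨D, hD⟩
    rw [hcon D hD]
  -- then Q centralizes V, so Q = ⊥
  apply c.hQne
  rw [eq_bot_iff, ← c.hfaith]
  refine le_inf le_rfl ?_
  rw [hVbot]
  intro g _
  rw [mem_centralizer_iff]
  intro v hv
  rw [coe_bot, Set.mem_singleton_iff] at hv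
  rw [hv]; simp

/-- (CB) the nonabelian case. -/
theorem caseB (c : CoreCfg s t ℓ w u σ τ V Q R) (hnab : ¬ ∀ x ∈ Q, ∀ y ∈ Q, x * y = y * x) :
    False := by
  obtain ⟨hQ1R, hQ1Q, -, hQ1exp, -⟩ := struct_Q c
  have hQ1ne : ⁅Q, Q⁆ ≠ ⊥ := by
    intro h
    apply hnab
    intro x hx y hy
    have h1 : ⁅x, y⁆ ∈ ⁅Q, Q⁆ := commutator_mem_commutator hx hy
    rw [h, mem_bot, commutatorElement_eq_one_iff_mul_comm] at h1
    exact h1
  have hQ1le : ⁅Q, Q⁆ ≤ Q := by
    rw [commutator_le]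
    intro a ha b hb
    exact Q.mul_mem (Q.mul_mem (Q.mul_mem ha hb) (Q.inv_mem ha)) (Q.inv_mem hb)
  have hQ1ea : IsEA w ⁅Q, Q⁆ := by
    refine ⟨fun a ha b hb => ?_, hQ1exp⟩
    exact (mem_centralizer_iff.mp (hQ1Q ha) b (hQ1le hb)).symm
  have hQ1inv : Inv σ τ ⁅Q, Q⁆ := ⟨conj_commutator_mem c.hQinv.1, conj_commutator_mem c.hQinv.2⟩
  have hQQ1 : Q ≤ normalizer ((⁅Q, Q⁆ : Subgroup H) : Set H) := fun g hg =>
    conj_commutator_mem (le_normalizer hg)
  have hRQ1 : R ≤ normalizer ((⁅Q, Q⁆ : Subgroup H) : Set H) := fun g hg =>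
    conj_commutator_mem (c.hRQ hg)
  have hfixQ1 : Fix σ τ ⁅Q, Q⁆ = ⊥ := by
    rw [eq_bot_iff, ← c.hfixQ]
    exact inf_le_inf_right _ hQ1le
  have hVQ1 : V ⊓ centralizer ((⁅Q, Q⁆ : Subgroup H) : Set H) = ⊥ :=
    fixV_of_normal c _ hQ1le hQ1ne hQ1inv hQQ1 hRQ1
  obtain ⟨D, hD, hVD⟩ := exists_hyp c _ hQ1ea hQ1le hVQ1
  rcases types c.hF c.hwℓ c.hℓs c.hℓt c.hws c.hwt V _ c.hV hQ1ea c.hVinv hQ1inv
    (hQ1le.trans c.hQV) c.hfixV hfixQ1 hVQ1 D hD hVD with ⟨hσD, -, hfix⟩ | ⟨-, i, hbD, -, hfix⟩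
  · exact caseB_sigma c D hD hVD hσD hfix
  · by_cases hgood : ∀ g ∈ Q, g⁻¹ * ((σ ^ i * τ * (σ ^ i)⁻¹) * g * (σ ^ i * τ * (σ ^ i)⁻¹)⁻¹) ∈
        centralizer ((V ⊓ centralizer (D : Set H) : Subgroup H) : Set H)
    · exact caseB_tau_good c D hD hVD i hbD hgood
    · push Not at hgood
      exact caseB_tau_exc c D hD hVD i hbD hfix hgood

end Cfsg.Agent.Helper52.PQAsm
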