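import Mathlib
import Cfsg.Agent.Helper52.PQAsmB

set_option autoImplicit false

namespace Cfsg.Agent.Helper52.PQAsm

open Subgroup Cfsg.Agent.Helper1.Shult Cfsg.Agent.Helper52.PQ Cfsg.Agent.Helper52.PQPieces
open scoped commutatorElement

variable {H : Type*} [Group H] [Finite H]

omit [Finite H] in
theorem conj_mem_of_mem_normalizer {K : Subgroup H} {g x : H} (hg : g ∈ normalizer (K : Set H))
    (hx : x ∈ K) : g * x * g⁻¹ ∈ K := (mem_normalizer_iff.mp hg x).mp hx

omit [Finite H] in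
theorem conj_inv_mem_of_mem_normalizer {K : Subgroup H} {g x : H}
    (hg : g ∈ normalizer (K : Set H)) (hx : x ∈ K) : g⁻¹ * x * g ∈ K := by
  have := conj_mem_of_mem_normalizer (inv_mem hg) hx
  simpa using this

/-- `g` normalizes `R` and `Q`, hence `R ⊓ C(Q)`. -/
theorem mem_normalizer_inf_centralizer {R Q : Subgroup H} {g : H}
    (hR : g ∈ normalizer (R : Set H)) (hQ : g ∈ normalizer (Q : Set H)) :
    g ∈ normalizer ((R ⊓ centralizer (Q : Set H) : Subgroup H) : Set H) := by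
  apply mem_normalizer_of_conj_mem
  intro x hx
  obtain ⟨hxR, hxQ⟩ := mem_inf.mp hx
  refine mem_inf.mpr ⟨conj_mem_of_mem_normalizer hR hxR, ?_⟩
  rw [mem_centralizer_iff]
  intro q hq
  have h1 : g⁻¹ * q * g ∈ Q := conj_inv_mem_of_mem_normalizer hQ hq
  have h2 := mem_centralizer_iff.mp hxQ _ h1
  -- h2 : g⁻¹ * q * g * x = x * (g⁻¹ * q * g)
  calc q * (g * x * g⁻¹) = g * ((g⁻¹ * q * g) * x) * g⁻¹ := by group
    _ = g * (x * (g⁻¹ * q * g)) * g⁻¹ := by rw [h2]
    _ = g * x * g⁻¹ * q := by group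

omit [Finite H] in
theorem conjpair_mem_normalizer {K : Subgroup H} {σ τ : H} (h : Inv σ τ K) (i : ℕ) :
    σ ^ i * τ * (σ ^ i)⁻¹ ∈ normalizer (K : Set H) :=
  mul_mem (mul_mem (pow_mem h.1 i) h.2) (inv_mem (pow_mem h.1 i))

omit [Finite H] in
/-- the elements acting trivially on `Q / D` are closed under products. -/
theorem triv_mul {Q D : Subgroup H} (hDQ : D ≤ Q) {z1 z2 : H}
    (h1 : ∀ g ∈ Q, g⁻¹ * (z1 * g * z1⁻¹) ∈ D) (h2 : ∀ g ∈ Q, g⁻¹ * (z2 * g * z2⁻¹) ∈ D) :
    ∀ g ∈ Q, g⁻¹ * ((z1 * z2) * g * (z1 * z2)⁻¹) ∈ D := by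
  intro g hg
  have hd : g⁻¹ * (z2 * g * z2⁻¹) ∈ D := h2 g hg
  have h3 : z1 * (g⁻¹ * (z2 * g * z2⁻¹)) * z1⁻¹ ∈ D := by
    have := h1 _ (hDQ hd)
    have h4 := D.mul_mem hd this
    have e : g⁻¹ * (z2 * g * z2⁻¹) * ((g⁻¹ * (z2 * g * z2⁻¹))⁻¹ *
        (z1 * (g⁻¹ * (z2 * g * z2⁻¹)) * z1⁻¹)) = z1 * (g⁻¹ * (z2 * g * z2⁻¹)) * z1⁻¹ := by group
    rwa [e] at h4
  have h5 := D.mul_mem (h1 g hg) h3
  have e : g⁻¹ * (z1 * g * z1⁻¹) * (z1 * (g⁻¹ * (z2 * g * z2⁻¹)) * z1⁻¹) =
      g⁻¹ * ((z1 * z2) * g * (z1 * z2)⁻¹) := by group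
  rwa [e] at h5

variable {s t ℓ w u : ℕ} [Fact ℓ.Prime] [Fact w.Prime] [Fact u.Prime] {σ τ : H}
  {V Q R : Subgroup H}

/-- (CA) the abelian case. -/
theorem caseA (c : CoreCfg s t ℓ w u σ τ V Q R) (hab : ∀ x ∈ Q, ∀ y ∈ Q, x * y = y * x) :
    False := by
  have hw : w.Prime := Fact.out
  obtain ⟨-, -, hpow, -, hlast⟩ := struct_Q c
  obtain ⟨-, hRcomm, hRpow, htype⟩ := struct_R c
  set R0 : Subgroup H := R ⊓ centralizer (Q : Set H) with hR0
  have hQ1 : ⁅Q, Q⁆ = ⊥ := by
    rw [eq_bot_iff, commutator_le]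
    intro a ha b hb
    rw [mem_bot, commutatorElement_eq_one_iff_mul_comm]
    exact hab a ha b hb
  have hQea : IsEA w Q :=
    ⟨hab, fun g hg => by have := hpow g hg; rwa [hQ1, mem_bot] at this⟩
  have hQR : Q ⊓ centralizer (R : Set H) = ⊥ := by
    rw [eq_bot_iff]
    intro g hg
    obtain ⟨hgQ, hgR⟩ := mem_inf.mp hg
    refine hlast ⊥ (by rw [hQ1]) bot_le (fun x _ => ?_) g hgQ (fun x hx => ?_)
    · apply mem_normalizer_of_conj_mem
      intro y hy
      rw [mem_bot] at hy ⊢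
      rw [hy]; group
    · rw [mem_bot]
      have := mem_centralizer_iff.mp hgR x hx
      -- this : x * g = g * x
      rw [this]; group
  have hVQ : V ⊓ centralizer (Q : Set H) = ⊥ :=
    fixV_of_normal c Q le_rfl c.hQne c.hQinv le_normalizer c.hRQ
  obtain ⟨D, hD, hVD⟩ := exists_hyp c Q hQea le_rfl hVQ
  have hDQ : D ≤ Q := hD.2.1
  have hDne : ¬ Q ≤ D := by
    intro h
    have h1 : D.relIndex Q = 1 := relIndex_eq_one.mpr h
    rw [hD.2.2] at h1
    exact hw.one_lt.ne' h1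
  -- if all of `R` acts trivially on `Q / D` then `Q = [Q,R] ≤ D`
  have key : (∀ z ∈ R, ∀ g ∈ Q, g⁻¹ * (z * g * z⁻¹) ∈ D) → False := by
    intro hz
    apply hDne
    refine c.hQR.trans ?_
    rw [commutator_le]
    intro g hg z hzR
    have := hz z hzR g⁻¹ (Q.inv_mem hg)
    rw [commutatorElement_def]
    have e : g⁻¹⁻¹ * (z * g⁻¹ * z⁻¹) = g * z * g⁻¹ * z⁻¹ := by group
    rwa [e] at this
  have hRR0 : R ≤ normalizer (R0 : Set H) := fun x hx =>
    mem_normalizer_inf_centralizer (le_normalizer hx) (c.hRQ hx)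
  have hR0triv : ∀ n ∈ R0, ∀ g ∈ Q, g⁻¹ * (n * g * n⁻¹) ∈ D := by
    intro n hn g hg
    have := mem_centralizer_iff.mp (mem_inf.mp hn).2 g hg
    -- this : g * n = n * g
    rw [← this]
    have e : g⁻¹ * (g * n * n⁻¹) = 1 := by group
    rw [e]; exact D.one_mem
  -- from the orbit lemma and surjectivity: all of `R` acts trivially
  have allR : ∀ b : H, (b = σ ∨ ∃ i : ℕ, b = σ ^ i * τ * (σ ^ i)⁻¹) →
      b ∈ normalizer (D : Set H) → (∀ g ∈ Q, g⁻¹ * (b * g * b⁻¹) ∈ D) →
      (∀ x ∈ R, x⁻¹ * (b * x * b⁻¹) ∈ R0 → x ∈ R0) → False := by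
    intro b hb hbD hbQ hfpf
    have hbR : b ∈ normalizer (R : Set H) := by
      rcases hb with rfl | ⟨i, rfl⟩
      · exact c.hRinv.1
      · exact conjpair_mem_normalizer c.hRinv i
    have hbQn : b ∈ normalizer (Q : Set H) := by
      rcases hb with rfl | ⟨i, rfl⟩
      · exact c.hQinv.1
      · exact conjpair_mem_normalizer c.hQinv i
    have hof := orbit_fix c hQea D hD hVD b hb hbD hbQ
    have hsurj := surj_comm_of_fpf b R R0 inf_le_left hRR0 hbR
      (mem_normalizer_inf_centralizer hbR hbQn) hfpf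
    apply key
    intro z hz
    obtain ⟨x, hx, n, hn, rfl⟩ := hsurj z hz
    exact triv_mul hDQ (hof x hx) (hR0triv n hn)
  rcases types c.hF c.hwℓ c.hℓs c.hℓt c.hws c.hwt V Q c.hV hQea c.hVinv c.hQinv
    c.hQV c.hfixV c.hfixQ hVQ D hD hVD with ⟨hσD, hσQ, -⟩ | ⟨-, i, hbD, hbQ, -⟩
  · -- `σ`-type
    rcases htype with ⟨hRσ, -⟩ | hρ
    · -- type ε: `C_Q(σ)` is `Q` or `⊥`
      set Q2 : Subgroup H := Q ⊓ centralizer {σ} with hQ2
      by_cases hQ2Q : Q2 = Q
      · exact not_sigma_central c (by rw [← hQ2Q]; exact inf_le_right) hRσ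
      · have hQ2inv : Inv σ τ Q2 := by
          constructor
          · apply mem_normalizer_of_conj_mem
            intro x hx
            obtain ⟨hxQ, hxσ⟩ := mem_inf.mp hx
            refine mem_inf.mpr ⟨conj_mem_of_mem_normalizer c.hQinv.1 hxQ, ?_⟩
            rw [mem_centralizer_singleton_iff] at hxσ ⊢
            -- hxσ : x * σ = σ * x
            calc σ * x * σ⁻¹ * σ = σ * (x * σ * σ⁻¹) := by group
              _ = σ * (σ * x * σ⁻¹) := by rw [hxσ]
          · apply mem_normalizer_of_conj_mem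
            intro x hx
            obtain ⟨hxQ, hxσ⟩ := mem_inf.mp hx
            refine mem_inf.mpr ⟨conj_mem_of_mem_normalizer c.hQinv.2 hxQ, ?_⟩
            rw [mem_centralizer_singleton_iff] at hxσ ⊢
            -- τ⁻¹ σ τ is a power of σ
            obtain ⟨m, -, hm⟩ := frob_conj_sigma c.hF τ⁻¹
              (inv_mem (subset_closure (by simp)))
            rw [inv_inv] at hm
            have hxm : x * σ ^ m = σ ^ m * x := by
              have : Commute x σ := hxσ
              exact (this.pow_right m).eq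
            calc τ * x * τ⁻¹ * σ = τ * (x * (τ⁻¹ * σ * τ)) * τ⁻¹ := by group
              _ = τ * (σ ^ m * x) * τ⁻¹ := by rw [hm, hxm]
              _ = τ * ((τ⁻¹ * σ * τ) * x) * τ⁻¹ := by rw [hm]
              _ = σ * (τ * x * τ⁻¹) := by group
        have hRQ2 : R ≤ normalizer (Q2 : Set H) := by
          intro x hx
          apply mem_normalizer_of_conj_mem
          intro y hy
          obtain ⟨hyQ, hyσ⟩ := mem_inf.mp hy
          refine mem_inf.mpr ⟨conj_mem_of_mem_normalizer (c.hRQ hx) hyQ, ?_⟩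
          have hxσ := mem_centralizer_singleton_iff.mp (hRσ hx)
          rw [mem_centralizer_singleton_iff] at hyσ ⊢
          -- hxσ : x * σ = σ * x ; hyσ : y * σ = σ * y
          have hxσ' : x⁻¹ * σ = σ * x⁻¹ := by
            calc x⁻¹ * σ = x⁻¹ * (σ * x) * x⁻¹ := by group
              _ = x⁻¹ * (x * σ) * x⁻¹ := by rw [hxσ]
              _ = σ * x⁻¹ := by group
          calc x * y * x⁻¹ * σ = x * y * (x⁻¹ * σ) := by group
            _ = x * y * (σ * x⁻¹) := by rw [hxσ']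
            _ = x * (y * σ) * x⁻¹ := by group
            _ = x * (σ * y) * x⁻¹ := by rw [hyσ]
            _ = (x * σ) * y * x⁻¹ := by group
            _ = σ * (x * y * x⁻¹) := by rw [hxσ]; group
        have hQ2R := c.hminQ Q2 inf_le_left hQ2Q hQ2inv hRQ2
        have hQ2bot : Q2 = ⊥ := by
          rw [eq_bot_iff, ← hQR]
          exact le_inf inf_le_left hQ2R
        -- `σ` is fixed-point-free on `Q`
        have hsurj := surj_comm_of_fpf σ Q ⊥ bot_le
          (fun x _ => by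
            apply mem_normalizer_of_conj_mem
            intro y hy
            rw [mem_bot] at hy ⊢
            rw [hy]; group)
          c.hQinv.1
          (by
            apply mem_normalizer_of_conj_mem
            intro y hy
            rw [mem_bot] at hy ⊢
            rw [hy]; group)
          (fun x hx hx1 => by
            rw [mem_bot] at hx1
            have : x ∈ Q2 := by
              refine mem_inf.mpr ⟨hx, ?_⟩
              rw [mem_centralizer_singleton_iff]
              calc x * σ = x * (x⁻¹ * (σ * x * σ⁻¹)) * σ := by rw [hx1]; group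
                _ = σ * x := by group
            rwa [hQ2bot] at this)
        apply hDne
        intro y hy
        obtain ⟨x, hx, n, hn, rfl⟩ := hsurj y hy
        rw [mem_bot] at hn
        rw [hn, mul_one]
        exact hσQ x hx
    · -- type ρ
      exact allR σ (Or.inl rfl) hσD hσQ hρ
  · -- `τ_i`-type
    rcases htype with ⟨-, hτi⟩ | hρ
    · exact allR _ (Or.inr ⟨i, rfl⟩) hbD hbQ (hτi i)
    · -- Lemma P for the pair `(σ, τ_i)`
      have hR0inv : Inv σ τ R0 :=
        ⟨mem_normalizer_inf_centralizer c.hRinv.1 c.hQinv.1,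
          mem_normalizer_inf_centralizer c.hRinv.2 c.hQinv.2⟩
      have hof := orbit_fix c hQea D hD hVD _ (Or.inr ⟨i, rfl⟩) hbD hbQ
      have hfixQ' : Fix σ (σ ^ i * τ * (σ ^ i)⁻¹) Q = ⊥ := by
        rw [fix_conj_eq]; exact c.hfixQ
      have := lemmaP (frob_conj c.hF i) c.hwu c.hws c.hwt c.hus c.hut Q R R0 hQea c.hR
        ((inv_conj_iff σ τ i Q).mpr c.hQinv) ((inv_conj_iff σ τ i R).mpr c.hRinv)
        ((inv_conj_iff σ τ i R0).mpr hR0inv) c.hRQ inf_le_left inf_le_right hRcomm hRpow hQR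
        hfixQ' hρ D hDQ hbQ hof
      exact hDne this.ge

end Cfsg.Agent.Helper52.PQAsm
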