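import Mathlib
import Cfsg.Agent.Helper52.PQAsmA
import Cfsg.Agent.Helper1.PQTW
import Cfsg.Agent.Helper49.PQAM

set_option autoImplicit false

/-!
# S4306: the chain core → tower → chief factor step → ambient → semidirect product (helper52)
-/

namespace Cfsg.Agent.Helper52.PQMain

open Subgroup Cfsg.Agent.Helper1.Shult Cfsg.Agent.Helper52.PQ Cfsg.Agent.Helper52.PQPieces
  Cfsg.Agent.Helper52.PQAsm

universe v v1 v2

/-- (CORE) -/
theorem core : PQCoreStmt.{v} := by
  intro H _ _ s t ℓ w u _ _ _ σ τ V Q R c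
  by_cases hab : ∀ x ∈ Q, ∀ y ∈ Q, x * y = y * x
  · exact caseA c hab
  · exact caseB c hab

/-- (TW) the tower lemma from the core (induction on `|V| + |S| + |R|`). -/
theorem tower_of_core (hC : PQCoreStmt.{v}) : PQTowerStmt.{v} := Cfsg.Agent.Helper1.PQ.tower_of_core hC

/-- (AM) the ambient theorem from the chief factor step. -/
theorem ambient_of_t1 (hT : PQT1Stmt.{v}) : PQAmbientStmt.{v} := Cfsg.Agent.Helper49.PQ.ambient_of_t1 hT


theorem pq_main {G : Type v1} {A : Type v2} [Group G]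
    [Finite G] [Group.IsSolvable G] [Group A] [Finite A] [MulDistribMulAction A G] (p q : ℕ)
    (hp : p.Prime) (hq : q.Prime) (hpq : p ≠ q) (hA : Nat.card A = p * q)
    (hAna : ¬ IsMulCommutative A) (hcop : (Nat.card G).Coprime (p * q))
    (hfpf : ∀ g : G, (∀ a : A, a • g = g) → g = 1) :
    ∃ F : Subgroup G, ∃ hF : F.Normal, Group.IsNilpotent ↥F ∧ Group.IsNilpotent (G ⧸ F) :=
  pq_of_ambient (ambient_of_t1 (t1_of_tower (tower_of_core core))) p q hp hq hpq hA hAna hcop hfpf

end Cfsg.Agent.Helper52.PQMain
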