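import Cfsg.Agent.Helper58.PsuIo.OdDefs
import Cfsg.Agent.Helper58.PsuIo.AbsDefs
import Cfsg.Agent.Helper5.SuBN.Defs
import Cfsg.Agent.Helper52.PsuIo_OAR1

/-!
# S2089 block I-odd (helper58 farm #15378): pieces (OAR2)/(OAR3) `exists_d_O2`, `exists_d_O3`
-/

set_option autoImplicit false

namespace Cfsg.Agent.Helper52.PsuIo

open Matrix
open scoped commutatorElement
open Cfsg.Agent.Helper43.PsuM
open Cfsg.Agent.Helper58.PsuIo Cfsg.Agent.Helper58.PsuIo.Od

universe u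

variable {F : Type*} [Field F] {m : ℕ} {σ : F →+* F}

section finite

variable {K : Type u} [Field K] [Fintype K] {q : ℕ} {σ : K →+* K}

/-- for `q ≥ 3` there is a `σ`-fixed element `s ≠ 0, 1`. -/
theorem OAR_exists_fixed (k : ℕ) (hk : 1 ≤ k) (hσq : ∀ x : K, σ x = x ^ (k + 2)) (g : K)
    (hg0 : g ≠ 0) (hg1 : g ^ (k ^ 2 + 4 * k + 3) = 1)
    (hgn : ∀ n : ℕ, g ^ n = 1 → (k ^ 2 + 4 * k + 3) ∣ n) :
    ∃ s : K, s ≠ 0 ∧ s ≠ 1 ∧ σ s = s := by
  refine ⟨g ^ (k + 3), pow_ne_zero _ hg0, ?_, ?_⟩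
  · intro h
    have := Nat.le_of_dvd (by positivity) (hgn _ h)
    nlinarith
  · rw [hσq, ← pow_mul]
    have e : (k + 3) * (k + 2) = (k ^ 2 + 4 * k + 3) + (k + 3) := by ring
    rw [e, pow_add, hg1, one_mul]

/-- (OAR2) -/
theorem exists_d_O2 (hK : Fintype.card K = q ^ 2) (hσq : ∀ x, σ x = x ^ q) (i j : Fin m)
    (hij : i ≠ j) :
    ∃ d : Fin m → K, (∀ l, d l ≠ 0) ∧ d j = cw σ d ∧ d i ≠ cw σ d := by
  classical
  obtain ⟨k, hqk, g, hg0, hg1, hgn⟩ := OAR_setup (K := K) hK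
  subst hqk
  rcases Nat.eq_zero_or_pos k with hk | hk
  · -- `q = 2`
    subst hk
    obtain ⟨d, hd0, hdj, hdo, hP⟩ := OAR_one j g hg0
    have hcw : cw σ d = g := by
      rw [OAR_cw, hP, hσq]
      field_simp
    refine ⟨d, hd0, by rw [hdj, hcw], ?_⟩
    rw [hdo i hij, hcw]
    intro h
    have h1 : g ^ 1 = 1 := by rw [pow_one]; exact h.symm
    have := Nat.le_of_dvd (by norm_num) (hgn 1 h1)
    omega
  · -- `q ≥ 3`
    obtain ⟨s, hs0, hs1, hσs⟩ := OAR_exists_fixed k hk hσq g hg0 hg1 hgn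
    obtain ⟨d, hd0, hdi, hdo, hP⟩ := OAR_one i s hs0
    have hcw : cw σ d = 1 := by
      rw [OAR_cw, hP, hσs, mul_inv_cancel₀ hs0]
    refine ⟨d, hd0, by rw [hdo j (Ne.symm hij), hcw], ?_⟩
    rw [hdi, hcw]
    exact hs1

/-- (OAR3) -/
theorem exists_d_O3 (hK : Fintype.card K = q ^ 2) (hσq : ∀ x, σ x = x ^ q) (a b : Fin m)
    (hab : a ≠ b) :
    ∃ d : Fin m → K, (∀ l, d l ≠ 0) ∧ d a = d b ∧ ∀ i, d i ≠ cw σ d := by
  classical
  obtain ⟨k, hqk, g, hg0, hg1, hgn⟩ := OAR_setup (K := K) hK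
  subst hqk
  rcases Nat.eq_zero_or_pos k with hk | hk
  · -- `q = 2`
    subst hk
    have hg3 : g ^ 3 = 1 := by simpa using hg1
    have hgne : g ≠ 1 := by
      intro h
      have h1 : g ^ 1 = 1 := by rw [pow_one]; exact h
      have := Nat.le_of_dvd (by norm_num) (hgn 1 h1)
      omega
    have hg20 : g ^ 2 ≠ 0 := pow_ne_zero _ hg0
    obtain ⟨d, hd0, hda, hdb, hdo, hP⟩ := OAR_two a b hab (g ^ 2) (g ^ 2) hg20 hg20
    have hP' : ∏ i, d i = g := by
      rw [hP, ← pow_add]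
      have : g ^ (2 + 2) = g ^ 3 * g := by rw [← pow_succ]
      rw [this, hg3, one_mul]
    have hcw : cw σ d = g := by
      rw [OAR_cw, hP', hσq]
      field_simp
    refine ⟨d, hd0, by rw [hda, hdb], ?_⟩
    intro i
    rw [hcw]
    by_cases hia : i = a
    · rw [hia, hda]
      intro h
      apply hgne
      have : g * g = 1 * g := by rw [one_mul, ← sq]; exact h
      exact mul_right_cancel₀ hg0 this
    · by_cases hib : i = b
      · rw [hib, hdb]
        intro h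
        apply hgne
        have : g * g = 1 * g := by rw [one_mul, ← sq]; exact h
        exact mul_right_cancel₀ hg0 this
      · rw [hdo i hia hib]
        exact fun h => hgne h.symm
  · -- `q ≥ 3`
    obtain ⟨s, hs0, hs1, hσs⟩ := OAR_exists_fixed k hk hσq g hg0 hg1 hgn
    refine ⟨fun _ => s, fun _ => hs0, rfl, ?_⟩
    intro i
    have hcw : cw σ (fun _ : Fin m => s) = 1 := by
      rw [OAR_cw, map_prod]
      simp only [hσs]
      exact mul_inv_cancel₀ (Finset.prod_ne_zero_iff.2 fun _ _ => hs0)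
    rw [hcw]
    exact hs1

end finite

end Cfsg.Agent.Helper52.PsuIo
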