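import Mathlib
import Cfsg.Agent.Helper99.QSpDefs
import Cfsg.Agent.Helper94.TnD

/-!
# (QB1) of helper99's S5974 programme: the structure of an isometry of odd prime order `r ≠ p`
of a quadratic space, in arbitrary characteristic.

Eight structure lemmas for `QSetup Q r y`.  The first seven are quoted from helper94's
`Ts.OSetup` (whose structure fields do not mention the characteristic); the block extraction
`exists_blocks` is by cases on `(2 : F) = 0` (helper94 `Tn.exists_nd_block` if `2 ≠ 0`,
helper99 `SpSetup.exists_block` for the alternating polar form if `2 = 0`).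
-/

set_option autoImplicit false
set_option linter.unusedSectionVars false

namespace Cfsg.Agent.Helper52.QSp

open Module Polynomial
open Cfsg.Agent.Helper59.InvChain Cfsg.Agent.Helper59.Elusive
open Cfsg.Agent.Helper99.SpStruct Cfsg.Agent.Helper99.RDecomp
open Cfsg.Agent.Helper44 Cfsg.Agent.Helper44.QType
open Cfsg.Agent.Helper99.QSp

universe u v

variable {F : Type u} [Field F] [Fintype F]
variable {V : Type v} [AddCommGroup V] [Module F V] [FiniteDimensional F V]
variable {Q : QuadraticForm F V} {r : ℕ} {y : Module.End F V}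

/-- the orthogonal setup of helper94 for the polar form (no assumption on the characteristic) -/
theorem QSetup.toOSetup (h : QSetup Q r y) :
    Cfsg.Agent.Helper94.Ts.OSetup (pB Q) r y (orderOf ((Fintype.card F : ℕ) : ZMod r)) where
  symm := pB_symm Q
  nondeg := h.nondeg
  isom := isom_pB h.iso
  setup := h.setup
  hp := h.hp
  odd := h.odd

/-- the symplectic setup of helper99 for the polar form in characteristic two -/
theorem QSetup.toSpSetup (h : QSetup Q r y) (h2 : (2 : F) = 0) :
    SpSetup (pB Q) r y (orderOf ((Fintype.card F : ℕ) : ZMod r)) where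
  alt := fun x => by rw [pB_self, h2, zero_mul]
  nondeg := h.nondeg
  isom := isom_pB h.iso
  setup := h.setup
  hp := h.hp

/-- (QB1) -/
theorem QSetup.inv_orthogonal (h : QSetup Q r y) {W : Submodule F V} (hW : Inv y W) :
    Inv y ((pB Q).orthogonal W) :=
  (QSetup.toOSetup h).inv_orthogonal hW

theorem QSetup.orth_fix_cyc (h : QSetup Q r y) : Orth (pB Q) (fixSp y) (cycSp r y) :=
  (QSetup.toOSetup h).orth_fix_cyc

theorem QSetup.nd_fix (h : QSetup Q r y) : Nd (pB Q) (fixSp y) :=
  (QSetup.toOSetup h).nd_fix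

theorem QSetup.nd_cyc (h : QSetup Q r y) : Nd (pB Q) (cycSp r y) :=
  (QSetup.toOSetup h).nd_cyc

theorem QSetup.nd_inf_fix (h : QSetup Q r y) {W : Submodule F V} (hWinv : Inv y W)
    (hW : Nd (pB Q) W) : Nd (pB Q) (W ⊓ fixSp y) :=
  (QSetup.toOSetup h).nd_inf_fix hWinv hW

theorem QSetup.nd_inf_cyc (h : QSetup Q r y) {W : Submodule F V} (hWinv : Inv y W)
    (hW : Nd (pB Q) W) : Nd (pB Q) (W ⊓ cycSp r y) :=
  (QSetup.toOSetup h).nd_inf_cyc hWinv hW

theorem QSetup.blockSize_dvd (h : QSetup Q r y) {W : Submodule F V} (hWinv : Inv y W)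
    (hW : Nd (pB Q) W) (hWc : W ≤ cycSp r y) :
    blockSize (orderOf ((Fintype.card F : ℕ) : ZMod r)) ∣ finrank F ↥W :=
  (QSetup.toOSetup h).blockSize_dvd hWinv hW hWc

/-- one nondegenerate invariant block inside a nonzero nondegenerate invariant subspace of the
cyclotomic part, in every characteristic -/
theorem QSetup.exists_block (h : QSetup Q r y) {W : Submodule F V} (hWinv : Inv y W)
    (hW : Nd (pB Q) W) (hWc : W ≤ cycSp r y) (hne : W ≠ ⊥) :
    ∃ N : Submodule F V, N ≤ W ∧ Inv y N ∧ Nd (pB Q) N ∧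
      finrank F ↥N = blockSize (orderOf ((Fintype.card F : ℕ) : ZMod r)) := by
  by_cases h2 : (2 : F) = 0
  · exact (QSetup.toSpSetup h h2).exists_block h.odd W hWinv hW hWc hne
  · exact Cfsg.Agent.Helper94.Tn.exists_nd_block (QSetup.toOSetup h) h2 hWinv hW hWc hne

theorem QSetup.exists_blocks (h : QSetup Q r y) (j : ℕ) {W : Submodule F V} (hWinv : Inv y W)
    (hW : Nd (pB Q) W) (hWc : W ≤ cycSp r y)
    (hj : j * blockSize (orderOf ((Fintype.card F : ℕ) : ZMod r)) ≤ finrank F ↥W) :
    ∃ N : Submodule F V, N ≤ W ∧ Inv y N ∧ Nd (pB Q) N ∧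
      finrank F ↥N = j * blockSize (orderOf ((Fintype.card F : ℕ) : ZMod r)) := by
  set c := blockSize (orderOf ((Fintype.card F : ℕ) : ZMod r)) with hc
  have hcpos : 0 < c := blockSize_pos h.setup.c_pos
  have hrefl : (pB Q).IsRefl := pB_refl Q
  induction j generalizing W with
  | zero =>
    exact ⟨⊥, bot_le, inv_bot y, nd_bot, by simp⟩
  | succ j ih =>
    have hne : W ≠ ⊥ := by
      intro h0
      rw [h0, finrank_bot] at hj
      have : 0 < (j + 1) * c := Nat.mul_pos (Nat.succ_pos j) hcpos
      omega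
    obtain ⟨U, hUW, hUinv, hUnd, hUdim⟩ := QSetup.exists_block h hWinv hW hWc hne
    have hfr := hUnd.finrank_inf_orth hrefl hUW
    have hW'inv : Inv y (W ⊓ (pB Q).orthogonal U) :=
      inv_inf hWinv (QSetup.inv_orthogonal h hUinv)
    have hsucc : (j + 1) * c = j * c + c := by ring
    obtain ⟨N', hN'le, hN'inv, hN'nd, hN'dim⟩ := ih hW'inv
      (hUnd.inf_orth hrefl hUW hW) (inf_le_left.trans hWc) (by omega)
    have horth : Orth (pB Q) U N' := orth_inf_orth.mono le_rfl hN'le
    refine ⟨U ⊔ N', sup_le hUW (hN'le.trans inf_le_left), inv_sup hUinv hN'inv,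
      hUnd.sup hrefl hN'nd horth, ?_⟩
    rw [finrank_sup_of_disjoint (horth.disjoint hUnd), hUdim, hN'dim]
    omega

end Cfsg.Agent.Helper52.QSp
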