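import Mathlib
import Cfsg.Agent.S0274
import Cfsg.Agent.S0199
import Cfsg.Agent.S5299
import Cfsg.Agent.S3788
import Cfsg.Agent.Helper97.QuadLin

set_option autoImplicit false

/-!
# A quadratic element outside `O_p` forces an `SL₂(p)` section (abstract action form)
-/

namespace Cfsg.Agent.Helper52.QuadInvolves

open Cfsg

/-- a finite group generated by elements of order dividing `p` and with at most one Sylow
`p`-subgroup is a `p`-group -/
theorem isPGroup_of_gens_of_sylow' {R : Type*} [Group R] [Finite R] {p : ℕ} [Fact p.Prime]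
    (gens : Set R) (hgens : Subgroup.closure gens = ⊤) (hgp : ∀ s ∈ gens, s ^ p = 1)
    (hS : Nat.card (Sylow p R) ≤ 1) : IsPGroup p R := by
  have hsub : Subsingleton (Sylow p R) := Finite.card_le_one_iff_subsingleton.1 hS
  let P : Sylow p R := default
  have hle : Subgroup.closure gens ≤ (P : Subgroup R) := by
    rw [Subgroup.closure_le]
    intro s hs
    have hz : IsPGroup p (Subgroup.zpowers s) := by
      rintro ⟨z, hz⟩
      obtain ⟨k, rfl⟩ := Subgroup.mem_zpowers_iff.1 hz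
      refine ⟨1, Subtype.ext ?_⟩
      show (s ^ k) ^ (p ^ 1) = 1
      rw [pow_one, ← zpow_natCast, ← zpow_mul, mul_comm, zpow_mul, zpow_natCast, hgp s hs, one_zpow]
    obtain ⟨Q, hQ⟩ := hz.exists_le_sylow
    rw [Subsingleton.elim P Q]
    exact hQ (Subgroup.mem_zpowers s)
  rw [hgens] at hle
  intro r
  obtain ⟨k, hk⟩ := P.2 ⟨r, hle (Subgroup.mem_top r)⟩
  refine ⟨k, ?_⟩
  have := congrArg Subtype.val hk
  simpa using this

section action

variable {A : Type*} [CommGroup A] {Γ : Type*} [Group Γ] (θ : Γ →* MulAut A)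

/-- iterating a quadratic automorphism -/
theorem quad_pow_apply (a : Γ) (ha : ∀ v : A, θ a (θ a v / v) = θ a v / v) (k : ℕ) (v : A) :
    θ (a ^ k) v = v * (θ a v / v) ^ k := by
  induction k with
  | zero => simp
  | succ n ih =>
    have hN : θ a v = v * (θ a v / v) := by rw [mul_div_cancel]
    rw [pow_succ', map_mul, MulAut.mul_apply, ih, map_mul, map_pow, ha, pow_succ]
    generalize θ a v / v = N at hN ⊢
    rw [hN, mul_assoc, mul_comm N]

theorem quad_pow_eq_one {p : ℕ} (hA : ∀ v : A, v ^ p = 1) (hθ : Function.Injective θ) (a : Γ)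
    (ha : ∀ v : A, θ a (θ a v / v) = θ a v / v) : a ^ p = 1 := by
  apply hθ
  rw [map_one]
  ext v
  rw [quad_pow_apply θ a ha, hA, mul_one, MulAut.one_apply]

theorem quad_conj (a g : Γ) (ha : ∀ v : A, θ a (θ a v / v) = θ a v / v) (v : A) :
    θ (g * a * g⁻¹) (θ (g * a * g⁻¹) v / v) = θ (g * a * g⁻¹) v / v := by
  have e : ∀ u : A, θ (g * a * g⁻¹) u = θ g (θ a (θ g⁻¹ u)) := by
    intro u
    rw [map_mul, map_mul]; rfl
  have e2 : θ g⁻¹ (θ g (θ a (θ g⁻¹ v)) / v) = θ a (θ g⁻¹ v) / θ g⁻¹ v := by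
    rw [map_div]
    congr 1
    rw [← MulAut.mul_apply, ← map_mul, inv_mul_cancel, map_one, MulAut.one_apply]
  rw [e (θ (g * a * g⁻¹) v / v), e v, e2, ha, ← e2]
  rw [← MulAut.mul_apply, ← map_mul, mul_inv_cancel, map_one, MulAut.one_apply]

end action

/-- **Faithful form**: `Γ` acts faithfully on a finite elementary abelian `p`-group, `p` odd, and
some element acting quadratically lies outside `O_p(Γ)`; then `Γ` involves `SL₂(p)`. -/
theorem involves_sl2p_of_quadratic_action {A : Type*} [CommGroup A] [Finite A] {p : ℕ}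
    [Fact p.Prime] (hp : p ≠ 2) (hA : ∀ v : A, v ^ p = 1) {Γ : Type*} [Group Γ] [Finite Γ]
    (θ : Γ →* MulAut A) (hθ : Function.Injective θ) (a : Γ)
    (ha : ∀ v : A, θ a (θ a v / v) = θ a v / v) (hna : a ∉ Cfsg.pCore p Γ) :
    Cfsg.Involves (Matrix.SpecialLinearGroup (Fin 2) (ZMod p)) Γ := by
  classical
  have hap : a ^ p = 1 := quad_pow_eq_one θ hA hθ a ha
  have hXp : IsPGroup p (Subgroup.zpowers a) := by
    rintro ⟨z, hz⟩
    obtain ⟨k, rfl⟩ := Subgroup.mem_zpowers_iff.1 hz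
    refine ⟨1, Subtype.ext ?_⟩
    show (a ^ k) ^ (p ^ 1) = 1
    rw [pow_one, ← zpow_natCast, ← zpow_mul, mul_comm, zpow_mul, zpow_natCast, hap, one_zpow]
  have hex : ∃ g : Γ, ¬ IsPGroup p ↥(Subgroup.zpowers a ⊔
      (Subgroup.zpowers a).map (MulAut.conj g).toMonoidHom) := by
    by_contra hcon
    push Not at hcon
    obtain ⟨N, hN1, hN2, hN3⟩ := Cfsg.Agent.S0199.result (Subgroup.zpowers a) hXp hcon
    have hle : N ≤ Cfsg.pCore p Γ := le_sSup ⟨hN1, hN2⟩
    exact hna (hle (hN3 (Subgroup.mem_zpowers a)))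
  obtain ⟨g, hg⟩ := hex
  obtain ⟨b, hb⟩ : ∃ b : Γ, b = g * a * g⁻¹ := ⟨_, rfl⟩
  obtain ⟨H₀, hH₀⟩ : ∃ H₀ : Subgroup Γ, H₀ = Subgroup.closure ({a, b} : Set Γ) := ⟨_, rfl⟩
  have haH : a ∈ H₀ := by rw [hH₀]; exact Subgroup.subset_closure (by simp)
  have hbH : b ∈ H₀ := by rw [hH₀]; exact Subgroup.subset_closure (by simp)
  have hnp : ¬ IsPGroup p H₀ := by
    intro hp0
    apply hg
    refine hp0.to_le (sup_le ?_ ?_)
    · rw [Subgroup.zpowers_le]; exact haH
    · rw [MonoidHom.map_zpowers, Subgroup.zpowers_le]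
      show g * a * g⁻¹ ∈ H₀
      rw [← hb]; exact hbH
  have hgen : Subgroup.closure ({(⟨a, haH⟩ : H₀), ⟨b, hbH⟩} : Set H₀) = ⊤ := by
    subst hH₀
    have h1 := Subgroup.closure_closure_coe_preimage (k := ({a, b} : Set Γ))
    have h2 : ((↑) : Subgroup.closure ({a, b} : Set Γ) → Γ) ⁻¹' ({a, b} : Set Γ) =
        ({(⟨a, haH⟩ : Subgroup.closure ({a, b} : Set Γ)), ⟨b, hbH⟩} : Set _) := by
      ext z
      simp only [Set.mem_preimage, Set.mem_insert_iff, Set.mem_singleton_iff, Subtype.ext_iff]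
    rw [← h2]
    exact h1
  have hbq : ∀ v : A, θ b (θ b v / v) = θ b v / v := by
    intro v; rw [hb]; exact quad_conj θ a g ha v
  obtain ⟨K, iF, iFt, iC, φ, hnpφ, hxp', hyp'⟩ :=
    Cfsg.Agent.Helper97.QuadLin.exists_hom_SL2_of_action hA (θ.comp H₀.subtype)
      (hθ.comp Subtype.val_injective) ⟨a, haH⟩ ⟨b, hbH⟩ hgen (fun v => ha v) (fun v => hbq v) hnp
  have hsurj : Function.Surjective φ.rangeRestrict := φ.rangeRestrict_surjective
  let gens : Set φ.range := {φ.rangeRestrict ⟨a, haH⟩, φ.rangeRestrict ⟨b, hbH⟩}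
  have hgens : Subgroup.closure gens = ⊤ := by
    have h2 : gens = φ.rangeRestrict '' ({(⟨a, haH⟩ : H₀), ⟨b, hbH⟩} : Set H₀) := by
      simp only [gens, Set.image_insert_eq, Set.image_singleton]
    rw [h2, ← MonoidHom.map_closure, hgen, ← MonoidHom.range_eq_map,
      MonoidHom.range_eq_top.2 hsurj]
  have hgp : ∀ s ∈ gens, s ^ p = 1 := by
    rintro s (rfl | rfl)
    · rw [← map_pow, hxp', map_one]
    · rw [← map_pow, hyp', map_one]
  have hS : 1 < Nat.card (Sylow p φ.range) := by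
    by_contra hle
    exact hnpφ (isPGroup_of_gens_of_sylow' gens hgens hgp (not_lt.1 hle))
  obtain ⟨K₁, hK₁, ⟨e⟩⟩ := Cfsg.Agent.S0274.result p hp φ.range hS
  let j : ↥(K₁.comap φ) →* Γ := H₀.subtype.comp (K₁.comap φ).subtype
  have hj : Function.Injective j := Subtype.val_injective.comp Subtype.val_injective
  let π : ↥(K₁.comap φ) →* Matrix.SpecialLinearGroup (Fin 2) (ZMod p) :=
    e.toMonoidHom.comp (φ.subgroupComap K₁)
  have hπ : Function.Surjective π := by
    intro s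
    obtain ⟨h₀, hh₀⟩ := hK₁ (e.symm s).2
    refine ⟨⟨h₀, by rw [Subgroup.mem_comap, hh₀]; exact (e.symm s).2⟩, ?_⟩
    show e ⟨φ h₀, _⟩ = s
    have : (⟨φ h₀, by rw [hh₀]; exact (e.symm s).2⟩ : K₁) = e.symm s := Subtype.ext hh₀
    rw [this, MulEquiv.apply_symm_apply]
  exact Cfsg.Agent.S5299.involves_of_inj_surj j hj π hπ

/-- **General form**: `Γ` acts on a finite elementary abelian `p`-group, `p` odd, and the image in
`Γ / ker` of some element acting quadratically lies outside `O_p(Γ / ker)`; then `Γ` involves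
`SL₂(p)`. -/
theorem involves_sl2p_of_quadratic_hom {A : Type*} [CommGroup A] [Finite A] {p : ℕ}
    [Fact p.Prime] (hp : p ≠ 2) (hA : ∀ v : A, v ^ p = 1) {Γ : Type*} [Group Γ] [Finite Γ]
    (ψ : Γ →* MulAut A) (a : Γ) (ha : ∀ v : A, ψ a (ψ a v / v) = ψ a v / v)
    (hna : (QuotientGroup.mk a : Γ ⧸ ψ.ker) ∉ Cfsg.pCore p (Γ ⧸ ψ.ker)) :
    Cfsg.Involves (Matrix.SpecialLinearGroup (Fin 2) (ZMod p)) Γ := by
  have hθmk : ∀ g : Γ, QuotientGroup.kerLift ψ (QuotientGroup.mk g) = ψ g :=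
    fun g => QuotientGroup.kerLift_mk ψ g
  have h1 := involves_sl2p_of_quadratic_action hp hA (QuotientGroup.kerLift ψ)
    (QuotientGroup.kerLift_injective ψ) (QuotientGroup.mk a) (by
      intro v; rw [hθmk]; exact ha v) hna
  exact Cfsg.Agent.S3788.involves_of_surjective (QuotientGroup.mk' ψ.ker)
    (QuotientGroup.mk'_surjective _) h1

end Cfsg.Agent.Helper52.QuadInvolves
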