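import Mathlib
import Cfsg.Prelude.Def_Local
import Cfsg.Agent.Helper52.QuadInvolves
import Cfsg.Agent.Helper70.FrattiniAction
import Cfsg.Agent.Helper63.Frattini
import Cfsg.Agent.Lib.Cores

set_option autoImplicit false

/-!
# Quadratic action on a `p`-subgroup `P` outside `O_p(N(P)/C(P))` forces an `SL₂(p)` section
-/

namespace Cfsg.Agent.Helper52.QuadNormalizer

open Cfsg Cfsg.Agent.Helper70

theorem involves_of_subgroup' {G : Type*} [Group G] (M : Subgroup G) {Q : Type*} [Group Q]
    (h : Cfsg.Involves Q ↥M) : Cfsg.Involves Q G := by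
  obtain ⟨K', R', hn, ⟨e⟩⟩ := h
  haveI := hn
  refine Cfsg.Agent.S5299.involves_of_inj_surj (M.subtype.comp K'.subtype)
    (M.subtype_injective.comp K'.subtype_injective)
    (e.toMonoidHom.comp (QuotientGroup.mk' (R'.subgroupOf K'))) ?_
  exact e.surjective.comp (QuotientGroup.mk'_surjective _)

/-- automorphisms of a finite `p`-group acting trivially on the Frattini quotient form a
`p`-group -/
theorem isPGroup_ker_autQuot {Q : Type*} [Group Q] [Finite Q] {p : ℕ} [Fact p.Prime]
    (hQ : IsPGroup p Q) : IsPGroup p (autQuot (frattini Q)).ker := by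
  have hp : p.Prime := Fact.out
  obtain ⟨n, hn⟩ := IsPGroup.iff_card.mp hQ
  obtain ⟨r, -, hr⟩ : ∃ r, r ≤ n ∧ (frattini Q).index = p ^ r := by
    have h1 : (frattini Q).index ∣ p ^ n := by
      rw [← hn]; exact Subgroup.index_dvd_card _
    exact (Nat.dvd_prime_pow hp).mp h1
  have hA : ∀ α ∈ (autQuot (frattini Q)).ker, ∀ x : Q, α x * x⁻¹ ∈ frattini Q := by
    intro α hα x
    rw [MonoidHom.mem_ker] at hα
    have h1 : autQuot (frattini Q) α ((x : Q) : Q ⧸ frattini Q) = x := by rw [hα]; rfl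
    rw [autQuot_mk] at h1
    rw [← QuotientGroup.eq_one_iff, QuotientGroup.mk_mul, QuotientGroup.mk_inv, h1, mul_inv_cancel]
  have hcard := Cfsg.Agent.S4207.result hn hr _ hA
  obtain ⟨j, -, hj⟩ := (Nat.dvd_prime_pow hp).mp hcard
  exact IsPGroup.of_card hj


/-- **Core (normalizer form)**: a `p`-subgroup `A` normalizing a `p`-subgroup `P` with
`[P, A, A] = 1` whose image in `N(P)/C(P)` is not inside `O_p(N(P)/C(P))` forces an `SL₂(p)`
section of `N(P)`. -/
theorem involves_sl2p_normalizer_of_quadratic {X : Type*} [Group X] [Finite X] {p : ℕ}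
    [Fact p.Prime] (hp : p ≠ 2) (A P : Subgroup X) (hP : IsPGroup p P)
    (hq : ⁅⁅P, A⁆, A⁆ = ⊥)
    (hnot : ¬ (A.subgroupOf (Subgroup.normalizer (P : Set X))).map
          (QuotientGroup.mk' ((Subgroup.centralizer (P : Set X)).subgroupOf
            (Subgroup.normalizer (P : Set X))))
        ≤ Cfsg.pCore p _) :
    Cfsg.Involves (Matrix.SpecialLinearGroup (Fin 2) (ZMod p))
      ↥(Subgroup.normalizer (P : Set X)) := by
  classical
  set N := Subgroup.normalizer (P : Set X) with hNdef
  set Q : Subgroup N := P.subgroupOf N with hQdef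
  haveI hQn : Q.Normal := Subgroup.normal_in_normalizer
  have hQp : IsPGroup p Q := hP.comap_subtype
  letI : CommGroup (↥Q ⧸ frattini ↥Q) :=
    { (inferInstance : Group (↥Q ⧸ frattini ↥Q)) with mul_comm := frattiniQuot_comm hQp }
  have hM : ∀ v : ↥Q ⧸ frattini ↥Q, v ^ p = 1 := by
    intro v
    induction v using QuotientGroup.induction_on with | _ x => ?_
    rw [← QuotientGroup.mk_pow, QuotientGroup.eq_one_iff]
    exact Cfsg.Agent.Helper63.pow_prime_mem_frattini hQp x
  obtain ⟨y, hy, hynot⟩ := SetLike.not_le_iff_exists.1 hnot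
  obtain ⟨a, haA, rfl⟩ := hy
  have haA' : (a : X) ∈ A := haA
  -- quadratic action on the Frattini quotient
  have hqa : ⁅⁅P, Subgroup.zpowers (a : X)⁆, Subgroup.zpowers (a : X)⁆ = ⊥ := by
    rw [eq_bot_iff, ← hq]
    have hz : Subgroup.zpowers (a : X) ≤ A := Subgroup.zpowers_le.2 haA'
    exact Subgroup.commutator_mono (Subgroup.commutator_mono le_rfl hz) hz
  have ha : ∀ v : ↥Q ⧸ frattini ↥Q,
      frattiniAct Q a (frattiniAct Q a v / v) = frattiniAct Q a v / v := by
    intro v
    induction v using QuotientGroup.induction_on with | _ x => ?_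
    rw [frattiniAct_mk, div_eq_mul_inv, ← QuotientGroup.mk_inv, ← QuotientGroup.mk_mul,
      frattiniAct_mk]
    congr 1
    apply Subtype.ext
    apply Subtype.ext
    have hxP : ((x : N) : X) ∈ P := x.2
    have := Cfsg.Agent.Helper97.QuadLin.conj_comm_eq_of_quadratic P (a : X) hqa _ hxP
    simpa using this
  apply Cfsg.Agent.Helper52.QuadInvolves.involves_sl2p_of_quadratic_hom hp hM (frattiniAct Q) a ha
  intro hcon
  apply hynot
  -- the preimage `D` of `O_p(N / ker)` maps to a normal `p`-subgroup of `N / C`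
  set ψ := frattiniAct Q with hψ
  set C' : Subgroup N := (Subgroup.centralizer (P : Set X)).subgroupOf N with hC'
  set D : Subgroup N := (Cfsg.pCore p (↥N ⧸ ψ.ker)).comap (QuotientGroup.mk' ψ.ker) with hD
  haveI hDn : D.Normal := by
    haveI : (Cfsg.pCore p (↥N ⧸ ψ.ker)).Normal := inferInstance
    exact Subgroup.Normal.comap inferInstance _
  have haD : a ∈ D := hcon
  have hker : ∀ z ∈ ψ.ker, ∃ j : ℕ, z ^ p ^ j ∈ C' := by
    intro z hz
    have hmem : MulAut.conjNormal z ∈ (autQuot (frattini ↥Q)).ker := by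
      rw [MonoidHom.mem_ker]; exact hz
    obtain ⟨j, hj⟩ := isPGroup_ker_autQuot hQp ⟨_, hmem⟩
    have hj' : (MulAut.conjNormal z : MulAut ↥Q) ^ p ^ j = 1 := by
      have := congrArg Subtype.val hj
      simpa using this
    rw [← map_pow] at hj'
    refine ⟨j, ?_⟩
    rw [hC', Subgroup.mem_subgroupOf, Subgroup.mem_centralizer_iff]
    intro x hx
    have hxN : x ∈ N := Subgroup.le_normalizer hx
    have h1 := congrArg (fun f : MulAut ↥Q => (((f ⟨⟨x, hxN⟩, hx⟩ : ↥Q) : N) : X)) hj'
    simp only [MulAut.conjNormal_apply, MulAut.one_apply] at h1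
    have h2 : ((z ^ p ^ j : N) : X) * x * ((z ^ p ^ j : N) : X)⁻¹ = x := by
      simpa using h1
    calc x * ((z ^ p ^ j : N) : X) = (((z ^ p ^ j : N) : X) * x * ((z ^ p ^ j : N) : X)⁻¹) *
          ((z ^ p ^ j : N) : X) := by rw [h2]
      _ = ((z ^ p ^ j : N) : X) * x := by group
  have hDp : IsPGroup p (D.map (QuotientGroup.mk' C')) := by
    rintro ⟨_, d, hd, rfl⟩
    obtain ⟨k, hk⟩ := (Cfsg.Agent.Lib.isPGroup_pCore p) ⟨_, hd⟩
    have hk' : d ^ p ^ k ∈ ψ.ker := by
      have := congrArg Subtype.val hk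
      simp only [Subgroup.coe_pow, Subgroup.coe_one] at this
      rw [← QuotientGroup.eq_one_iff]
      simpa using this
    obtain ⟨j, hj⟩ := hker _ hk'
    refine ⟨k + j, Subtype.ext ?_⟩
    simp only [Subgroup.coe_pow, Subgroup.coe_one]
    rw [← map_pow, QuotientGroup.mk'_apply, QuotientGroup.eq_one_iff, pow_add, pow_mul]
    exact hj
  have hDmapn : (D.map (QuotientGroup.mk' C')).Normal :=
    Subgroup.Normal.map hDn _ (QuotientGroup.mk'_surjective _)
  exact Cfsg.Agent.Lib.le_pCore hDmapn hDp ⟨a, haD, rfl⟩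


/-- **Core**: a `p`-subgroup `A` normalizing a `p`-subgroup `P` with `[P, A, A] = 1` whose image in
`N(P)/C(P)` is not inside `O_p(N(P)/C(P))` forces an `SL₂(p)` section. -/
theorem involves_sl2p_of_quadratic_normalizer {X : Type*} [Group X] [Finite X] {p : ℕ}
    [Fact p.Prime] (hp : p ≠ 2) (A P : Subgroup X) (hP : IsPGroup p P)
    (hq : ⁅⁅P, A⁆, A⁆ = ⊥)
    (hnot : ¬ (A.subgroupOf (Subgroup.normalizer (P : Set X))).map
          (QuotientGroup.mk' ((Subgroup.centralizer (P : Set X)).subgroupOf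
            (Subgroup.normalizer (P : Set X))))
        ≤ Cfsg.pCore p _) :
    Cfsg.Involves (Matrix.SpecialLinearGroup (Fin 2) (ZMod p)) X :=
  involves_of_subgroup' _ (involves_sl2p_normalizer_of_quadratic hp A P hP hq hnot)

end Cfsg.Agent.Helper52.QuadNormalizer
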