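import Mathlib
import Cfsg.Agent.Helper81.RO0

/-!
# Real odd-degree characters: conjugating sign characters (piece N1 of helper81's S4581 plan)

* `exists_equiv_conj`: if conjugation by `n` maps the image of `ι : S →* G` into itself then
  there is a bijection `e : S ≃ S` lifting it, `ι (e s) = n * ι s * n⁻¹`.
* `oddMult_of_conjSign`: odd multiplicity is invariant under `ConjSign`.
* `exists_conjSign`: the conjugate of a linear character trivial on `ker ι` exists.
-/

set_option autoImplicit false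

namespace Cfsg.Agent.Helper52.RON

open Cfsg Cfsg.Agent.Helper81.RO
open scoped ComplexConjugate

universe u

variable {S G : Type u}

theorem exists_equiv_conj [Group S] [Finite S] [Group G] (ι : S →* G) (n : G)
    (hn : ∀ s, ∃ s', ι s' = n * ι s * n⁻¹) :
    ∃ e : S ≃ S, ∀ s, ι (e s) = n * ι s * n⁻¹ := by
  classical
  have hc : ∀ g : G, ∃ t : S, (∃ s, ι s = g) → ι t = n * g * n⁻¹ * g⁻¹ := by
    intro g
    by_cases h : ∃ s, ι s = g
    · obtain ⟨s, rfl⟩ := h
      obtain ⟨s', hs'⟩ := hn s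
      exact ⟨s' * s⁻¹, fun _ => by rw [map_mul, map_inv, hs']⟩
    · exact ⟨1, fun h' => absurd h' h⟩
  choose c hc using hc
  have hf : ∀ s, ι (c (ι s) * s) = n * ι s * n⁻¹ := by
    intro s
    rw [map_mul, hc (ι s) ⟨s, rfl⟩]
    group
  have hinj : Function.Injective (fun s => c (ι s) * s) := by
    intro s₁ s₂ h
    have h2 : c (ι s₁) * s₁ = c (ι s₂) * s₂ := h
    have h1 : ι s₁ = ι s₂ := by
      have h3 := congrArg ι h2
      rw [hf, hf] at h3
      exact mul_left_cancel (mul_right_cancel h3)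
    rw [h1] at h2
    exact mul_left_cancel h2
  exact ⟨Equiv.ofBijective _ (Finite.injective_iff_bijective.mp hinj), hf⟩

theorem oddMult_of_conjSign [Group S] [Fintype S] [Group G] [Fintype G] (ι : S →* G) {χ : G → ℂ}
    (hχ : IsClassFunction G χ) (ν ν' : S →* ℂˣ) (h : ConjSign ι ν ν') (hm : OddMult ι χ ν) :
    OddMult ι χ ν' := by
  obtain ⟨n, hn, hνν'⟩ := h
  obtain ⟨m, hodd, hm⟩ := hm
  obtain ⟨e, he⟩ := exists_equiv_conj ι n hn
  refine ⟨m, hodd, ?_⟩
  rw [← hm]
  unfold classInner
  congr 1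
  rw [← Equiv.sum_comp e]
  refine Finset.sum_congr rfl fun s _ => ?_
  have h1 : χ (ι (e s)) = χ (ι s) := by rw [he s]; exact hχ (ι s) n
  have h2 : ν' (e s) = ν s := hνν' s (e s) (he s)
  simp only [Helper74.linFun_apply]
  rw [h1, h2]

theorem exists_conjSign [Group S] [Finite S] [Group G] (ι : S →* G) (n : G)
    (hn : ∀ s, ∃ s', ι s' = n * ι s * n⁻¹) (ν : S →* ℂˣ) (hker : ∀ s, ι s = 1 → ν s = 1) :
    ∃ ν' : S →* ℂˣ, (∀ s s', ι s' = n * ι s * n⁻¹ → ν' s' = ν s) ∧ (IsSign ν → IsSign ν') := by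
  obtain ⟨e, he⟩ := exists_equiv_conj ι n hn
  have hτ : ∀ s', ι s' = n * ι (e.symm s') * n⁻¹ := fun s' => by
    rw [← he, Equiv.apply_symm_apply]
  have hwd : ∀ a b : S, ι a = ι b → ν a = ν b := by
    intro a b hab
    have h1 : ι (a⁻¹ * b) = 1 := by rw [map_mul, map_inv, hab, inv_mul_cancel]
    have h2 := hker _ h1
    rw [map_mul, map_inv] at h2
    exact (inv_mul_eq_one.mp h2)
  have hinjc : ∀ a b : G, n * a * n⁻¹ = n * b * n⁻¹ → a = b :=
    fun a b h => mul_left_cancel (mul_right_cancel h)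
  have hone : ι (e.symm 1) = 1 := by
    apply hinjc
    rw [← hτ 1, map_one]
    group
  have hmul : ∀ a b : S, ι (e.symm (a * b)) = ι (e.symm a * e.symm b) := by
    intro a b
    apply hinjc
    rw [← hτ (a * b), map_mul, map_mul, hτ a, hτ b]
    group
  refine ⟨{ toFun := fun s' => ν (e.symm s')
            map_one' := hker _ hone
            map_mul' := fun a b => by
              rw [← map_mul]
              exact hwd _ _ (hmul a b) }, ?_, ?_⟩
  · intro s s' hss'
    show ν (e.symm s') = ν s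
    apply hwd
    apply hinjc
    rw [← hτ s', hss']
  · intro hν s
    show ν (e.symm s) * ν (e.symm s) = 1
    exact hν _

end Cfsg.Agent.Helper52.RON
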