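import Mathlib
import Cfsg.Agent.Helper81.RO2

/-!
# Real odd-degree characters: the `cliff` field for the self-normalizing class
(piece (SC) of helper81's S4581 plan, board #3363)

* `selfNorm_of_odd_index`: `SelfNorm` passes to subgroups of odd index.
* `snAdm_cliff`: the `cliff` field of `AdmClass SNAdm AnyAdm`, verbatim.
-/

set_option autoImplicit false

namespace Cfsg.Agent.Helper52.ROSC

open Cfsg Cfsg.Agent.Helper81.RO

universe u

/-- `SelfNorm` passes to subgroups of odd index. -/
theorem selfNorm_of_odd_index {G : Type u} [Group G] [Finite G] (h : SelfNorm G)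
    (T : Subgroup G) (hT : ¬ 2 ∣ T.index) : SelfNorm T := by
  intro Q hQ hQi x hx
  have hQ' : IsPGroup 2 (Q.map T.subtype) := hQ.map _
  have hidx : (Q.map T.subtype).index = Q.index * T.index := Subgroup.index_map_subtype Q
  have hodd : ¬ 2 ∣ (Q.map T.subtype).index := by
    rw [hidx]
    intro h2
    rcases (Nat.Prime.dvd_mul Nat.prime_two).mp h2 with h3 | h3
    · exact hQi h3
    · exact hT h3
  have hn := h _ hQ' hodd
  have hx' : (x : G) ∈ Subgroup.normalizer ((Q.map T.subtype : Subgroup G) : Set G) := by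
    rw [Subgroup.mem_normalizer_iff] at hx ⊢
    intro g
    constructor
    · rintro ⟨q, hq, rfl⟩
      exact ⟨x * q * x⁻¹, (hx q).mp hq, by simp⟩
    · rintro ⟨q, hq, hqe⟩
      have hg : g = ((x⁻¹ * q * x : T) : G) := by
        have : (q : G) = (x : G) * g * (x : G)⁻¹ := hqe
        simp only [Subgroup.coe_mul, Subgroup.coe_inv, this]
        group
      refine ⟨x⁻¹ * q * x, ?_, hg.symm⟩
      apply (hx _).mpr
      have : x * (x⁻¹ * q * x) * x⁻¹ = q := by group
      rw [this]
      exact hq
  obtain ⟨y, hy, hyx⟩ := hn hx'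
  have hyx' : y = x := Subtype.ext hyx
  exact hyx' ▸ hy

/-- The value at `1` of an irreducible character is its degree. -/
theorem irr_one_eq_charDegree {G : Type u} [Group G] {χ : G → ℂ} (hχ : IsIrrCharacter G χ) :
    χ 1 = (charDegree χ : ℂ) := by
  obtain ⟨n, ρ, _, rfl⟩ := hχ
  unfold charDegree
  rw [Representation.char_one]
  simp

/-- The degree of an irreducible induced character. -/
theorem charDegree_indFun_of_irr {G : Type u} [Group G] [Fintype G] (T : Subgroup G) [Fintype T]
    {ψ : T → ℂ} (hψ : IsIrrCharacter T ψ) (hirr : IsIrrCharacter G (indFun T ψ)) :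
    charDegree (indFun T ψ) = T.index * charDegree ψ := by
  have h1 := irr_one_eq_charDegree hirr
  rw [Helper15.indFun_apply_one, irr_one_eq_charDegree hψ] at h1
  exact_mod_cast h1.symm

/-- The `cliff` field of `AdmClass SNAdm AnyAdm`. -/
theorem snAdm_cliff {G : Type u} [Group G] [Fintype G] (U : Subgroup G) [U.Normal] [Fintype U]
    (lam : U →* ℂˣ) (_hlam : AnyAdm U lam) (T : Subgroup G) [Fintype T]
    (_hT : T = Helper15.inertia U (Helper74.linFun lam)) (hUT : U ≤ T) (ψ : T → ℂ)
    (hψ : IsIrrCharacter T ψ)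
    (_hne : classInner (Helper15.resTo U T hUT ψ) (Helper74.linFun lam) ≠ 0)
    (h : SNAdm G (indFun T ψ)) : SNAdm T ψ := by
  obtain ⟨hirr, hodd, hsn⟩ := h
  have hdeg := charDegree_indFun_of_irr T hψ hirr
  rw [hdeg] at hodd
  have h1 : Odd T.index := (Nat.odd_mul.mp hodd).1
  have h2 : Odd (charDegree ψ) := (Nat.odd_mul.mp hodd).2
  refine ⟨hψ, h2, selfNorm_of_odd_index hsn T ?_⟩
  intro h3
  exact (Nat.not_even_iff_odd.mpr h1) (even_iff_two_dvd.mpr h3)

end Cfsg.Agent.Helper52.ROSC
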