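import Mathlib
import Cfsg.Agent.Helper81.ResA2.Defs

/-!
# S5289 piece (ALL2) sub-farm (helper81), leaf (AP): `s ^ p ∈ Z(N)` for `s ∈ C_G(E)`
-/

set_option autoImplicit false
universe u
namespace Cfsg.Agent.Helper52.ResA2
open Cfsg.Agent.Helper81.ResA2
variable {G : Type u} [Group G] {p : ℕ} [hp : Fact p.Prime] {N : Subgroup G}

/-- (AP) -/
theorem pow_mem_zN (hc : Cf p N) (E : Subgroup G) (hEN : E ≤ N) (hE : Nat.card E = p ^ 2) (hEn : E.Normal)
    (hEab : ∀ a ∈ E, ∀ b ∈ E, a * b = b * a)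
    (hA : Nat.card (Subgroup.centralizer (E : Set G)) = p ^ 3)
    (hAab : ∀ t ∈ Subgroup.centralizer (E : Set G), ∀ t' ∈ Subgroup.centralizer (E : Set G), t * t' = t' * t)
    (hcomm : ∀ n ∈ N, ∀ t : G, n * t * n⁻¹ * t⁻¹ ∈ E) :
    ∀ s ∈ Subgroup.centralizer (E : Set G), s ^ p ∈ zN N := by
  have hpp : p.Prime := hp.out
  haveI := hc.fin
  set A := Subgroup.centralizer (E : Set G) with hAdef
  have hEA : E ≤ A := by
    intro e he
    rw [hAdef, Subgroup.mem_centralizer_iff]
    intro x hx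
    exact hEab x hx e he
  intro s hs
  -- `s ^ p ∈ E`
  have hidx : (E.subgroupOf A).index = p := by
    have h1 : E.relIndex A * Nat.card E = Nat.card A := by
      have h1 := Subgroup.card_mul_index (E.subgroupOf A)
      have h2 : Nat.card (E.subgroupOf A) = Nat.card E :=
        Nat.card_congr (Subgroup.subgroupOfEquivOfLe hEA).toEquiv
      rw [h2] at h1
      rw [Subgroup.relIndex, mul_comm]
      exact h1
    rw [hE, hA] at h1
    have hpos : 0 < p ^ 2 := pow_pos hpp.pos 2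
    have : E.relIndex A * p ^ 2 = p * p ^ 2 := by rw [h1]; ring
    exact Nat.eq_of_mul_eq_mul_right hpos this
  haveI : (E.subgroupOf A).Normal := hEn.subgroupOf A
  have hspE : s ^ p ∈ E := by
    have := Subgroup.pow_index_mem (E.subgroupOf A) (⟨s, hs⟩ : A)
    rw [hidx, Subgroup.mem_subgroupOf] at this
    exact this
  rw [mem_zN]
  refine ⟨hEN hspE, ?_⟩
  intro g hg
  have he : g * s * g⁻¹ * s⁻¹ ∈ E := hcomm g hg s
  set e := g * s * g⁻¹ * s⁻¹ with hedef
  have hconj : g * s * g⁻¹ = e * s := by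
    rw [hedef]
    group
  have hes : Commute e s := hAab e (hEA he) s hs
  have hep : e ^ p = 1 := hc.exp e (hEN he)
  have h1 : g * s ^ p * g⁻¹ = s ^ p := by
    calc g * s ^ p * g⁻¹ = (g * s * g⁻¹) ^ p := (conj_pow).symm
      _ = (e * s) ^ p := by rw [hconj]
      _ = e ^ p * s ^ p := hes.mul_pow p
      _ = s ^ p := by rw [hep, one_mul]
  calc g * s ^ p = (g * s ^ p * g⁻¹) * g := by group
    _ = s ^ p * g := by rw [h1]

end Cfsg.Agent.Helper52.ResA2
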