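import Mathlib
import Cfsg.Agent.Helper81.ResA2.Defs

/-!
# S5289 piece (ALL2) sub-farm (helper81), leaf (CM): `[N, G] ≤ E` and `[E, G] ≤ Z(N)`
-/

set_option autoImplicit false
universe u
namespace Cfsg.Agent.Helper52.ResA2
open Cfsg.Agent.Helper81.ResA2
variable {G : Type u} [Group G] {p : ℕ} [hp : Fact p.Prime] {N : Subgroup G}

/-- a chief-type step `M ≤ L` of order `p` between normal subgroups of a `p`-group is central -/
theorem CM_step [Finite G] (hG : IsPGroup p G)
    (hcen : ∀ (K : Type u) [Group K] [Finite K], IsPGroup p K → ∀ H : Subgroup K, H.Normal → Nat.card H = p →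
      H ≤ Subgroup.center K)
    (M L : Subgroup G) (hML : M ≤ L) (hMn : M.Normal) (hLn : L.Normal) (hcard : Nat.card L = p * Nat.card M) :
    ∀ l ∈ L, ∀ t : G, l * t * l⁻¹ * t⁻¹ ∈ M := by
  haveI := hMn
  have hmk : Function.Surjective (QuotientGroup.mk' M) := QuotientGroup.mk'_surjective M
  set H := L.map (QuotientGroup.mk' M) with hH
  have hHn : H.Normal := hLn.map _ hmk
  have hidx : H.index = L.index := by
    rw [hH]
    apply Subgroup.index_map_eq _ hmk
    rw [QuotientGroup.ker_mk']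
    exact hML
  have hHcard : Nat.card H = p := by
    have e1 := Subgroup.card_mul_index H
    have e2 := Subgroup.card_mul_index L
    have e3 : Nat.card G = Nat.card (G ⧸ M) * Nat.card M := Subgroup.card_eq_card_quotient_mul_card_subgroup M
    have hpos : 0 < L.index := Nat.pos_of_ne_zero Subgroup.index_ne_zero_of_finite
    have hMpos : 0 < Nat.card M := Nat.card_pos
    have : Nat.card H * (Nat.card M * L.index) = p * (Nat.card M * L.index) := by
      calc Nat.card H * (Nat.card M * L.index) = (Nat.card H * H.index) * Nat.card M := by rw [hidx]; ring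
        _ = Nat.card G := by rw [e1, ← e3]
        _ = Nat.card L * L.index := e2.symm
        _ = p * (Nat.card M * L.index) := by rw [hcard]; ring
    exact Nat.eq_of_mul_eq_mul_right (Nat.mul_pos hMpos hpos) this
  have hHc := hcen (G ⧸ M) (hG.to_quotient M) H hHn hHcard
  intro l hl t
  have hlH : (QuotientGroup.mk' M) l ∈ H := Subgroup.mem_map_of_mem _ hl
  have hlc := Subgroup.mem_center_iff.mp (hHc hlH) ((QuotientGroup.mk' M) t)
  rw [← QuotientGroup.eq_one_iff]
  have : ((l * t * l⁻¹ * t⁻¹ : G) : G ⧸ M) =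
      (QuotientGroup.mk' M) l * (QuotientGroup.mk' M) t * ((QuotientGroup.mk' M) l)⁻¹ *
        ((QuotientGroup.mk' M) t)⁻¹ := by
    rw [← map_inv, ← map_inv, ← map_mul, ← map_mul, ← map_mul]
    rfl
  rw [this, ← hlc]
  group

/-- (CM) -/
theorem comm_mem_sq (hc : Cf p N) (hZ : Nat.card (zN N) = p) (hZc : ∀ z ∈ zN N, ∀ t : G, t * z = z * t)
    (hcen : ∀ (K : Type u) [Group K] [Finite K], IsPGroup p K → ∀ H : Subgroup K, H.Normal → Nat.card H = p →
      H ≤ Subgroup.center K)
    (E : Subgroup G) (hEN : E ≤ N) (hE : Nat.card E = p ^ 2) (hEn : E.Normal) (hZE : zN N ≤ E) :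
    (∀ n ∈ N, ∀ t : G, n * t * n⁻¹ * t⁻¹ ∈ E) ∧ (∀ e ∈ E, ∀ t : G, e * t * e⁻¹ * t⁻¹ ∈ zN N) := by
  haveI := hc.fin
  have hZn : (zN N).Normal := by
    refine ⟨fun z hz t => ?_⟩
    have : t * z * t⁻¹ = z := by
      rw [hZc z hz t, mul_inv_cancel_right]
    rw [this]
    exact hz
  constructor
  · apply CM_step hc.pgrp hcen E N hEN hEn hc.nrm
    rw [hc.card, hE]
    ring
  · apply CM_step hc.pgrp hcen (zN N) E hZE hZn hEn
    rw [hE, hZ]
    ring

end Cfsg.Agent.Helper52.ResA2
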