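import Mathlib
import Cfsg.Agent.Helper77.Res.Defs
import Cfsg.Agent.S0120

/-!
# S5289 piece (D1) `extraspecial_struct` (helper68 for helper77), leaf (K)

An automorphism of the `p`-group `P` (`p` odd) that is trivial on `R/Z`, where `R ⊇ Ω₁(P)` and `Z ≤ Z(R)` has exponent `p`
and consists of powers of one commutator of `R`, has `p`-power order.
-/

set_option autoImplicit false

universe u

namespace Cfsg.Agent.Helper52.Res

open Subgroup Cfsg.Agent.Helper77.Res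

variable {Ω : Type u} [Group Ω] {p : ℕ} [hp : Fact p.Prime]

/-- the commutator of `a z₁` and `b z₂` when the `zᵢ` commute with everything in sight -/
theorem D1K_comm {G : Type*} [Group G] (a b z₁ z₂ : G) (h1 : z₁ * b = b * z₁) (h2 : z₁ * z₂ = z₂ * z₁)
    (h3 : z₂ * a = a * z₂) :
    (a * z₁) * (b * z₂) * (a * z₁)⁻¹ * (b * z₂)⁻¹ = a * b * a⁻¹ * b⁻¹ := by
  have e1 : (a * z₁) * (b * z₂) = (a * b) * (z₁ * z₂) := by
    calc (a * z₁) * (b * z₂) = a * (z₁ * b) * z₂ := by simp only [mul_assoc]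
      _ = a * (b * z₁) * z₂ := by rw [h1]
      _ = (a * b) * (z₁ * z₂) := by simp only [mul_assoc]
  have e2 : (b * z₂) * (a * z₁) = (b * a) * (z₁ * z₂) := by
    calc (b * z₂) * (a * z₁) = b * (z₂ * a) * z₁ := by simp only [mul_assoc]
      _ = b * (a * z₂) * z₁ := by rw [h3]
      _ = (b * a) * (z₂ * z₁) := by simp only [mul_assoc]
      _ = (b * a) * (z₁ * z₂) := by rw [h2]
  calc (a * z₁) * (b * z₂) * (a * z₁)⁻¹ * (b * z₂)⁻¹
      = ((a * z₁) * (b * z₂)) * ((b * z₂) * (a * z₁))⁻¹ := by group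
    _ = ((a * b) * (z₁ * z₂)) * ((b * a) * (z₁ * z₂))⁻¹ := by rw [e1, e2]
    _ = a * b * a⁻¹ * b⁻¹ := by group

/-- powers of an automorphism fixing `x` fix `x` -/
theorem D1K_pow_fix {G : Type*} [Group G] (β : MulAut G) (x : G) (h : β x = x) (n : ℕ) : (β ^ n) x = x := by
  induction n with
  | zero => rw [pow_zero]; rfl
  | succ n ih => rw [pow_succ, MulAut.mul_apply, h, ih]

/-- (K) -/
theorem D1_K (hp2 : p ≠ 2) (P : Subgroup Ω) [Finite P] (hP : IsPGroup p P) (R Z : Subgroup Ω)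
    (hRP : R ≤ P) (hRall : ∀ x ∈ P, x ^ p = 1 → x ∈ R) (hZR : Z ≤ R) (hZc : ∀ z ∈ Z, ∀ r ∈ R, z * r = r * z)
    (hZexp : ∀ z ∈ Z, z ^ p = 1)
    (a b : Ω) (ha : a ∈ R) (hb : b ∈ R) (hgen : ∀ z ∈ Z, ∃ k : ℕ, z = (a * b * a⁻¹ * b⁻¹) ^ k)
    (α : MulAut P) (hα : ∀ x : P, (x : Ω) ∈ R → (x : Ω)⁻¹ * ((α x : P) : Ω) ∈ Z) :
    ∃ k : ℕ, orderOf α = p ^ k := by
  have hpp : p.Prime := hp.out
  -- `α` fixes the commutator `c`
  let a' : P := ⟨a, hRP ha⟩
  let b' : P := ⟨b, hRP hb⟩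
  let c' : P := a' * b' * a'⁻¹ * b'⁻¹
  have hz1 : a⁻¹ * ((α a' : P) : Ω) ∈ Z := hα a' ha
  have hz2 : b⁻¹ * ((α b' : P) : Ω) ∈ Z := hα b' hb
  have hαa : ((α a' : P) : Ω) = a * (a⁻¹ * ((α a' : P) : Ω)) := by rw [mul_inv_cancel_left]
  have hαb : ((α b' : P) : Ω) = b * (b⁻¹ * ((α b' : P) : Ω)) := by rw [mul_inv_cancel_left]
  have hc : α c' = c' := by
    apply Subtype.ext
    have e : α c' = α a' * α b' * (α a')⁻¹ * (α b')⁻¹ := by
      show α (a' * b' * a'⁻¹ * b'⁻¹) = _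
      rw [map_mul, map_mul, map_mul, map_inv, map_inv]
    rw [e]
    show ((α a' : P) : Ω) * ((α b' : P) : Ω) * ((α a' : P) : Ω)⁻¹ * ((α b' : P) : Ω)⁻¹ = a * b * a⁻¹ * b⁻¹
    rw [hαa, hαb]
    exact D1K_comm a b _ _ (hZc _ hz1 b hb) (hZc _ hz1 _ (hZR hz2)) (hZc _ hz2 a ha)
  -- `α` fixes `Z` pointwise
  have hZfix : ∀ z' : P, (z' : Ω) ∈ Z → α z' = z' := by
    intro z' hz'
    obtain ⟨k, hk⟩ := hgen _ hz'
    have : z' = c' ^ k := by
      apply Subtype.ext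
      rw [hk]
      rfl
    rw [this, map_pow, hc]
  -- `α ^ p` fixes `R` pointwise
  have hRfix : ∀ r' : P, (r' : Ω) ∈ R → (α ^ p) r' = r' := by
    intro r' hr'
    have hz : (r' : Ω)⁻¹ * ((α r' : P) : Ω) ∈ Z := hα r' hr'
    let z' : P := r'⁻¹ * α r'
    have hz'Z : (z' : Ω) ∈ Z := hz
    have hαr : α r' = r' * z' := by
      show α r' = r' * (r'⁻¹ * α r')
      rw [mul_inv_cancel_left]
    have hαz : α z' = z' := hZfix z' hz'Z
    have hpow : ∀ k : ℕ, (α ^ k) r' = r' * z' ^ k := by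
      intro k
      induction k with
      | zero => rw [pow_zero, pow_zero, mul_one]; rfl
      | succ k ih =>
        rw [pow_succ', MulAut.mul_apply, ih, map_mul, map_pow, hαr, hαz, mul_assoc, ← pow_succ']
    rw [hpow p]
    have : z' ^ p = 1 := by
      apply Subtype.ext
      show (z' : Ω) ^ p = 1
      exact hZexp _ hz'Z
    rw [this, mul_one]
  -- `α ^ p` fixes the elements of order dividing `p`
  have hβ : ∀ x : P, x ^ p = 1 → (α ^ p) x = x := by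
    intro x hx
    apply hRfix x
    apply hRall _ x.2
    have := congrArg (fun y : P => (y : Ω)) hx
    exact this
  -- the `p'`-part of the order is trivial
  have hN : orderOf α ≠ 0 := (orderOf_pos α).ne'
  obtain ⟨e, m, hm, hNe⟩ := Nat.exists_eq_pow_mul_and_not_dvd hN p hpp.ne_one
  set γ : MulAut P := α ^ (p ^ (e + 1)) with hγ
  have hγβ : γ = (α ^ p) ^ (p ^ e) := by
    rw [hγ, ← pow_mul, pow_succ, mul_comm]
  have hγm : γ ^ m = 1 := by
    rw [hγ, ← pow_mul]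
    have : p ^ (e + 1) * m = orderOf α * p := by
      rw [hNe, pow_succ]
      ring
    rw [this, pow_mul, pow_orderOf_eq_one, one_pow]
  have hcop : Nat.Coprime (orderOf γ) p := by
    have hdvd : orderOf γ ∣ m := orderOf_dvd_of_pow_eq_one hγm
    have hmp : Nat.Coprime m p := ((Nat.Prime.coprime_iff_not_dvd hpp).mpr hm).symm
    exact Nat.Coprime.coprime_dvd_left hdvd hmp
  have hγfix : ∀ x : P, x ^ p = 1 → γ x = x := by
    intro x hx
    rw [hγβ]
    exact D1K_pow_fix _ x (hβ x hx) _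
  have hγ1 : γ = 1 := Cfsg.Agent.S0120.result hp2 hP γ hcop hγfix
  have hdvd : orderOf α ∣ p ^ (e + 1) := orderOf_dvd_of_pow_eq_one hγ1
  obtain ⟨k, _, hk⟩ := (Nat.dvd_prime_pow hpp).mp hdvd
  exact ⟨k, hk⟩

end Cfsg.Agent.Helper52.Res
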