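import Mathlib
import Cfsg.Prelude.Def_LocalEven
import Cfsg.Agent.S5299

set_option autoImplicit false

/-!
# Lifting normalizers of `p`-subgroups through surjections (Frattini argument)
-/

namespace Cfsg.Agent.Helper52.SectionLift

open Cfsg

theorem involves_of_injective {A B Q : Type*} [Group A] [Group B] [Group Q] (j : A →* B)
    (hj : Function.Injective j) (h : Cfsg.Involves Q A) : Cfsg.Involves Q B := by
  obtain ⟨K', R', hn, ⟨e⟩⟩ := h
  haveI := hn
  refine Cfsg.Agent.S5299.involves_of_inj_surj (j.comp K'.subtype)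
    (hj.comp K'.subtype_injective)
    (e.toMonoidHom.comp (QuotientGroup.mk' (R'.subgroupOf K'))) ?_
  exact e.surjective.comp (QuotientGroup.mk'_surjective _)

/-- an element of a subgroup `Y` normalizing `S ≤ Y` normalizes the image of `S` -/
theorem coe_mem_normalizer_map_subtype {T : Type*} [Group T] (Y : Subgroup T) (S : Subgroup Y)
    {y : Y} (hy : y ∈ Subgroup.normalizer (S : Set Y)) :
    (y : T) ∈ Subgroup.normalizer ((S.map Y.subtype : Subgroup T) : Set T) := by
  rw [Subgroup.mem_normalizer_iff] at hy ⊢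
  intro z
  constructor
  · rintro ⟨s, hs, rfl⟩
    exact ⟨y * s * y⁻¹, (hy s).1 hs, rfl⟩
  · rintro ⟨s, hs, hsz⟩
    refine ⟨y⁻¹ * s * y, ?_, ?_⟩
    · rw [SetLike.mem_coe, hy]
      have : y * (y⁻¹ * s * y) * y⁻¹ = s := by group
      rw [this]; exact hs
    · have h1 : (Y.subtype s : T) = (y : T) * z * (y : T)⁻¹ := hsz
      show ((y⁻¹ * s * y : Y) : T) = z
      simp only [Subgroup.coe_mul, Subgroup.coe_inv]
      have h2 : (s : T) = (y : T) * z * (y : T)⁻¹ := h1
      rw [h2]; group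

/-- **Frattini lift**: for a surjection `π : T → X` of finite groups and a `p`-subgroup `Pb` of `X`,
there is a `p`-subgroup `P₀` of `T` mapping onto `Pb` such that every element of `N_X(Pb)` lifts to
an element of `N_T(P₀)`. -/
theorem exists_lift_normalizer {T X : Type*} [Group T] [Group X] [Finite T] {p : ℕ} [Fact p.Prime]
    (π : T →* X) (hπ : Function.Surjective π) (Pb : Subgroup X) (hPb : IsPGroup p Pb) :
    ∃ P₀ : Subgroup T, IsPGroup p P₀ ∧ P₀.map π = Pb ∧
      ∀ n ∈ Subgroup.normalizer (Pb : Set X), ∃ m ∈ Subgroup.normalizer (P₀ : Set T), π m = n := by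
  classical
  set Pt : Subgroup T := Pb.comap π with hPt
  set Y : Subgroup T := Subgroup.normalizer (Pt : Set T) with hYdef
  have hY : Y = (Subgroup.normalizer (Pb : Set X)).comap π :=
    (Subgroup.comap_normalizer_eq_of_surjective Pb hπ).symm
  set N : Subgroup Y := Pt.subgroupOf Y with hN
  haveI hNn : N.Normal := Subgroup.normal_in_normalizer
  obtain ⟨P⟩ := (inferInstance : Nonempty (Sylow p ↥N))
  set P₁ : Subgroup Y := (P : Subgroup N).map N.subtype with hP₁
  set P₀ : Subgroup T := P₁.map Y.subtype with hP₀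
  have hP₀p : IsPGroup p P₀ := (P.2.map _).map _
  -- every element of `Pb` is the image of an element of `P₀`
  have key1 : ∀ x ∈ Pb, ∃ s ∈ P₀, π s = x := by
    let f : ↥N →* ↥Pb := (π.comp (Y.subtype.comp N.subtype)).codRestrict Pb (by
      intro n
      have : ((n : Y) : T) ∈ Pt := n.2
      exact this)
    have hf : Function.Surjective f := by
      rintro ⟨x, hx⟩
      obtain ⟨t, rfl⟩ := hπ x
      have htP : t ∈ Pt := hx
      have htY : t ∈ Y := Subgroup.le_normalizer htP
      exact ⟨⟨⟨t, htY⟩, htP⟩, rfl⟩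
    have htop : ((P.mapSurjective hf : Sylow p ↥Pb) : Subgroup ↥Pb) = ⊤ :=
      ((P.mapSurjective hf).is_maximal' (hPb.to_subgroup ⊤) le_top).symm
    intro x hx
    have hmem : (⟨x, hx⟩ : ↥Pb) ∈ ((P.mapSurjective hf : Sylow p ↥Pb) : Subgroup ↥Pb) := by
      rw [htop]; trivial
    rw [Sylow.coe_mapSurjective] at hmem
    obtain ⟨s, hs, hsx⟩ := hmem
    refine ⟨((s : Y) : T), ⟨(s : Y), ⟨s, hs, rfl⟩, rfl⟩, ?_⟩
    exact congrArg Subtype.val hsx
  refine ⟨P₀, hP₀p, ?_, ?_⟩
  · apply le_antisymm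
    · rintro _ ⟨s, ⟨s₁, ⟨s₂, _, rfl⟩, rfl⟩, rfl⟩
      have : ((s₂ : Y) : T) ∈ Pt := s₂.2
      exact this
    · intro x hx
      obtain ⟨s, hs, rfl⟩ := key1 x hx
      exact ⟨s, hs, rfl⟩
  · intro n hn
    obtain ⟨y, rfl⟩ := hπ n
    have hyY : y ∈ Y := by rw [hY]; exact hn
    have hfr : Subgroup.normalizer ((P₁ : Subgroup Y) : Set Y) ⊔ N = ⊤ :=
      Sylow.normalizer_sup_eq_top P
    have hmem : (⟨y, hyY⟩ : Y) ∈ Subgroup.normalizer ((P₁ : Subgroup Y) : Set Y) ⊔ N := by
      rw [hfr]; trivial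
    rw [← SetLike.mem_coe, Subgroup.mul_normal, Set.mem_mul] at hmem
    obtain ⟨m₁, hm₁, n₁, hn₁, hmn⟩ := hmem
    have hn₁P : π (n₁ : T) ∈ Pb := hn₁
    obtain ⟨s, hs, hsn⟩ := key1 _ hn₁P
    refine ⟨(m₁ : T) * s, ?_, ?_⟩
    · apply Subgroup.mul_mem
      · exact coe_mem_normalizer_map_subtype Y P₁ hm₁
      · exact Subgroup.le_normalizer hs
    · rw [map_mul, hsn, ← map_mul]
      congr 1
      have := congrArg Subtype.val hmn
      simpa using this

end Cfsg.Agent.Helper52.SectionLift
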