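import Mathlib

/-!
# S3385/S3685 (helper8, Sims' conjecture for a suborbit of length 3), leaf (ID3):
a group of order 12 generated by three elements of order at most two, the middle one commuting with
the two others, is dihedral of order 12.

`ID3_lift`: the homomorphism `DihedralGroup n →* H` attached to `ρ ^ n = 1`, `s * s = 1`,
`s * ρ * s = ρ⁻¹`; `ID3_iso`: it is an isomorphism when `|H| = 2 n`, `orderOf ρ = n ≥ 3`.
-/

set_option autoImplicit false

namespace Cfsg.Agent.Helper52.Sims3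

variable {H : Type*} [Group H]

/-- the additive homomorphism `ZMod n → Additive H`, `1 ↦ ρ` -/
noncomputable def ID3_P (n : ℕ) (ρ : H) (hρ : ρ ^ n = 1) : ZMod n →+ Additive H :=
  ZMod.lift n ⟨zmultiplesHom (Additive H) (Additive.ofMul ρ), by
    rw [zmultiplesHom_apply, natCast_zsmul, ← ofMul_pow, hρ, ofMul_one]⟩

/-- the powers of `ρ`, indexed by `ZMod n` -/
noncomputable def ID3_Q (n : ℕ) (ρ : H) (hρ : ρ ^ n = 1) (i : ZMod n) : H :=
  (ID3_P n ρ hρ i).toMul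

theorem ID3_Q_intCast (n : ℕ) (ρ : H) (hρ : ρ ^ n = 1) (k : ℤ) :
    ID3_Q n ρ hρ (k : ZMod n) = ρ ^ k := by
  rw [ID3_Q, ID3_P, ZMod.lift_coe]
  show ((zmultiplesHom (Additive H)) (Additive.ofMul ρ) k).toMul = ρ ^ k
  rw [zmultiplesHom_apply, ← ofMul_zpow, toMul_ofMul]

theorem ID3_Q_add (n : ℕ) (ρ : H) (hρ : ρ ^ n = 1) (i j : ZMod n) :
    ID3_Q n ρ hρ (i + j) = ID3_Q n ρ hρ i * ID3_Q n ρ hρ j := by
  rw [ID3_Q, ID3_Q, ID3_Q, map_add, toMul_add]

theorem ID3_Q_zero (n : ℕ) (ρ : H) (hρ : ρ ^ n = 1) : ID3_Q n ρ hρ 0 = 1 := by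
  rw [ID3_Q, map_zero, toMul_zero]

theorem ID3_Q_sub (n : ℕ) (ρ : H) (hρ : ρ ^ n = 1) (i j : ZMod n) :
    ID3_Q n ρ hρ (j - i) = ID3_Q n ρ hρ j * (ID3_Q n ρ hρ i)⁻¹ := by
  rw [ID3_Q, ID3_Q, ID3_Q, map_sub, toMul_sub, div_eq_mul_inv]

theorem ID3_Q_comm (n : ℕ) (ρ : H) (hρ : ρ ^ n = 1) (i j : ZMod n) :
    ID3_Q n ρ hρ i * ID3_Q n ρ hρ j = ID3_Q n ρ hρ j * ID3_Q n ρ hρ i := by
  rw [← ID3_Q_add, ← ID3_Q_add, add_comm]

theorem ID3_Q_conj (n : ℕ) (ρ s : H) (hρ : ρ ^ n = 1) (hs : s * s = 1) (hsρ : s * ρ * s = ρ⁻¹)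
    (i : ZMod n) : ID3_Q n ρ hρ i * s = s * (ID3_Q n ρ hρ i)⁻¹ := by
  obtain ⟨k, rfl⟩ := ZMod.intCast_surjective i
  rw [ID3_Q_intCast]
  have hsi : s⁻¹ = s := inv_eq_of_mul_eq_one_right hs
  have h1 : s * ρ ^ k * s⁻¹ = (ρ ^ k)⁻¹ := by
    rw [← conj_zpow, hsi, hsρ, inv_zpow]
  rw [hsi] at h1
  calc ρ ^ k * s = s * (s * ρ ^ k * s) := by
        rw [← mul_assoc, ← mul_assoc, hs, one_mul]
    _ = s * (ρ ^ k)⁻¹ := by rw [h1]

/-- the homomorphism from the dihedral group -/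
noncomputable def ID3_lift (n : ℕ) (ρ s : H) (hρ : ρ ^ n = 1) (hs : s * s = 1)
    (hsρ : s * ρ * s = ρ⁻¹) : DihedralGroup n →* H where
  toFun x := match x with
    | DihedralGroup.r i => ID3_Q n ρ hρ i
    | DihedralGroup.sr i => s * ID3_Q n ρ hρ i
  map_one' := by
    show ID3_Q n ρ hρ 0 = 1
    exact ID3_Q_zero n ρ hρ
  map_mul' := by
    rintro (i | i) (j | j)
    · show ID3_Q n ρ hρ (i + j) = ID3_Q n ρ hρ i * ID3_Q n ρ hρ j
      exact ID3_Q_add n ρ hρ i j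
    · show s * ID3_Q n ρ hρ (j - i) = ID3_Q n ρ hρ i * (s * ID3_Q n ρ hρ j)
      have hc : Commute (ID3_Q n ρ hρ i) (ID3_Q n ρ hρ j) := ID3_Q_comm n ρ hρ i j
      calc s * ID3_Q n ρ hρ (j - i) = s * (ID3_Q n ρ hρ j * (ID3_Q n ρ hρ i)⁻¹) := by
            rw [ID3_Q_sub]
        _ = s * ((ID3_Q n ρ hρ i)⁻¹ * ID3_Q n ρ hρ j) := by rw [hc.inv_left.eq]
        _ = (s * (ID3_Q n ρ hρ i)⁻¹) * ID3_Q n ρ hρ j := (mul_assoc _ _ _).symm
        _ = (ID3_Q n ρ hρ i * s) * ID3_Q n ρ hρ j := by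
            rw [ID3_Q_conj n ρ s hρ hs hsρ i]
        _ = ID3_Q n ρ hρ i * (s * ID3_Q n ρ hρ j) := mul_assoc _ _ _
    · show s * ID3_Q n ρ hρ (i + j) = s * ID3_Q n ρ hρ i * ID3_Q n ρ hρ j
      rw [ID3_Q_add, mul_assoc]
    · show ID3_Q n ρ hρ (j - i) = s * ID3_Q n ρ hρ i * (s * ID3_Q n ρ hρ j)
      have hc : Commute (ID3_Q n ρ hρ i) (ID3_Q n ρ hρ j) := ID3_Q_comm n ρ hρ i j
      calc ID3_Q n ρ hρ (j - i) = ID3_Q n ρ hρ j * (ID3_Q n ρ hρ i)⁻¹ := ID3_Q_sub n ρ hρ i j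
        _ = (ID3_Q n ρ hρ i)⁻¹ * ID3_Q n ρ hρ j := hc.inv_left.eq.symm
        _ = (s * s) * ((ID3_Q n ρ hρ i)⁻¹ * ID3_Q n ρ hρ j) := by rw [hs, one_mul]
        _ = s * ((s * (ID3_Q n ρ hρ i)⁻¹) * ID3_Q n ρ hρ j) := by simp only [mul_assoc]
        _ = s * ((ID3_Q n ρ hρ i * s) * ID3_Q n ρ hρ j) := by
            rw [ID3_Q_conj n ρ s hρ hs hsρ i]
        _ = s * ID3_Q n ρ hρ i * (s * ID3_Q n ρ hρ j) := by simp only [mul_assoc]

theorem ID3_lift_r (n : ℕ) (ρ s : H) (hρ : ρ ^ n = 1) (hs : s * s = 1) (hsρ : s * ρ * s = ρ⁻¹)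
    (i : ZMod n) : ID3_lift n ρ s hρ hs hsρ (DihedralGroup.r i) = ID3_Q n ρ hρ i := rfl

theorem ID3_lift_sr (n : ℕ) (ρ s : H) (hρ : ρ ^ n = 1) (hs : s * s = 1) (hsρ : s * ρ * s = ρ⁻¹)
    (i : ZMod n) : ID3_lift n ρ s hρ hs hsρ (DihedralGroup.sr i) = s * ID3_Q n ρ hρ i := rfl

/-- the reflection is not a rotation when the order of the rotation is at least 3 -/
theorem ID3_not_mem (ρ s : H) (hsρ : s * ρ * s = ρ⁻¹) (hs : s * s = 1) (h3 : 3 ≤ orderOf ρ) :
    s ∉ Subgroup.zpowers ρ := by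
  intro hmem
  obtain ⟨k, hk⟩ := Subgroup.mem_zpowers_iff.1 hmem
  have hcomm : s * ρ = ρ * s := by
    rw [← hk]
    exact (Commute.zpow_self ρ k).eq
  have h1 : ρ = ρ⁻¹ := by
    rw [← hsρ, hcomm, mul_assoc, hs, mul_one]
  have h2 : ρ ^ 2 = 1 := by
    rw [pow_two]
    nth_rewrite 2 [h1]
    exact mul_inv_cancel ρ
  have h4 := orderOf_le_of_pow_eq_one (by norm_num : 0 < 2) h2
  omega

theorem ID3_lift_injective (n : ℕ) (ρ s : H) (hρ : ρ ^ n = 1) (hs : s * s = 1)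
    (hsρ : s * ρ * s = ρ⁻¹) (hn : orderOf ρ = n) (h3 : 3 ≤ n) :
    Function.Injective (ID3_lift n ρ s hρ hs hsρ) := by
  rw [injective_iff_map_eq_one]
  rintro (i | i) hx
  · rw [ID3_lift_r] at hx
    obtain ⟨k, rfl⟩ := ZMod.intCast_surjective i
    rw [ID3_Q_intCast] at hx
    have h1 : (orderOf ρ : ℤ) ∣ k := orderOf_dvd_iff_zpow_eq_one.2 hx
    rw [hn] at h1
    have h2 : ((k : ℤ) : ZMod n) = 0 := (ZMod.intCast_zmod_eq_zero_iff_dvd k n).2 h1
    rw [h2]
    rfl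
  · exfalso
    rw [ID3_lift_sr] at hx
    obtain ⟨k, rfl⟩ := ZMod.intCast_surjective i
    rw [ID3_Q_intCast] at hx
    apply ID3_not_mem ρ s hsρ hs (by rw [hn]; exact h3)
    rw [Subgroup.mem_zpowers_iff]
    refine ⟨-k, ?_⟩
    rw [zpow_neg]
    exact (eq_inv_of_mul_eq_one_left hx).symm

/-- the isomorphism -/
theorem ID3_iso (n : ℕ) (hc : Nat.card H = 2 * n) (ρ s : H) (hs : s * s = 1)
    (hsρ : s * ρ * s = ρ⁻¹) (hn : orderOf ρ = n) (h3 : 3 ≤ n) :
    Nonempty (H ≃* DihedralGroup n) := by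
  have hρ : ρ ^ n = 1 := by rw [← hn]; exact pow_orderOf_eq_one ρ
  haveI : Finite H := Nat.finite_of_card_ne_zero (by rw [hc]; omega)
  have hinj := ID3_lift_injective n ρ s hρ hs hsρ hn h3
  have hbij : Function.Bijective (ID3_lift n ρ s hρ hs hsρ) := by
    apply hinj.bijective_of_nat_card_le
    rw [hc, DihedralGroup.nat_card]
  exact ⟨(MulEquiv.ofBijective _ hbij).symm⟩

/-- (ID3) `⟨y0, y2⟩` is dihedral of order 12 or 6; with the central `y1` get `D₁₂`. -/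
theorem iso_D12 {H : Type*} [Group H] (hc : Nat.card H = 12) (y0 y1 y2 : H)
    (h0 : y0 * y0 = 1) (h1 : y1 * y1 = 1) (h2 : y2 * y2 = 1)
    (c01 : Commute y0 y1) (c12 : Commute y1 y2)
    (hgen : Subgroup.closure {y0, y1, y2} = ⊤) :
    Nonempty (H ≃* DihedralGroup 6) := by
  haveI : Finite H := Nat.finite_of_card_ne_zero (by rw [hc]; norm_num)
  -- `y1` is central
  have hcen : ∀ x : H, Commute y1 x := by
    intro x
    have hx : x ∈ Subgroup.closure {y0, y1, y2} := by rw [hgen]; exact Subgroup.mem_top x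
    have hle : Subgroup.closure {y0, y1, y2} ≤ Subgroup.centralizer {y1} := by
      rw [Subgroup.closure_le]
      intro z hz
      rw [SetLike.mem_coe, Subgroup.mem_centralizer_iff]
      intro w hw
      rw [Set.mem_singleton_iff] at hw
      subst hw
      rcases hz with rfl | rfl | rfl
      · exact c01.eq.symm
      · rfl
      · exact c12.eq
    have := hle hx
    rw [Subgroup.mem_centralizer_iff] at this
    exact (this y1 rfl)
  set r : H := y0 * y2 with hr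
  have hy0r : y0 * r * y0 = r⁻¹ := by
    rw [hr, mul_inv_rev, ← mul_assoc, h0, one_mul]
    rw [inv_eq_of_mul_eq_one_right h2, inv_eq_of_mul_eq_one_right h0]
  set n : ℕ := orderOf r with hn
  have hnpos : 0 < n := orderOf_pos r
  have hrn : r ^ n = 1 := pow_orderOf_eq_one r
  haveI : NeZero n := ⟨hnpos.ne'⟩
  -- the surjection from `D_n × C_2`
  let f := ID3_lift n r y0 hrn h0 hy0r
  have hy1pow : y1 ^ 2 = 1 := by rw [pow_two]; exact h1
  let hC : Multiplicative (ZMod 2) →* H :=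
    AddMonoidHom.toMultiplicativeLeft (ID3_P 2 y1 hy1pow)
  have hCgen : hC (Multiplicative.ofAdd (1 : ZMod 2)) = y1 := by
    show (ID3_P 2 y1 hy1pow 1).toMul = y1
    have := ID3_Q_intCast 2 y1 hy1pow 1
    rw [ID3_Q, Int.cast_one, zpow_one] at this
    exact this
  have hCcomm : ∀ (a : DihedralGroup n) (b : Multiplicative (ZMod 2)), Commute (f a) (hC b) := by
    intro a b
    obtain ⟨k, hk⟩ := ZMod.intCast_surjective (Multiplicative.toAdd b)
    have hb : hC b = y1 ^ k := by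
      show (ID3_P 2 y1 hy1pow (Multiplicative.toAdd b)).toMul = y1 ^ k
      rw [← hk]
      exact ID3_Q_intCast 2 y1 hy1pow k
    rw [hb]
    exact ((hcen (f a)).zpow_left k).symm
  let g : DihedralGroup n × Multiplicative (ZMod 2) →* H := MonoidHom.noncommCoprod f hC hCcomm
  have hgapp : ∀ a b, g (a, b) = f a * hC b := fun a b => rfl
  have hQ1 : ID3_Q n r hrn 1 = r := by
    have := ID3_Q_intCast n r hrn 1
    rw [Int.cast_one, zpow_one] at this
    exact this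
  have hf0 : f (DihedralGroup.sr 0) = y0 := by
    show y0 * ID3_Q n r hrn 0 = y0
    rw [ID3_Q_zero, mul_one]
  have hf2 : f (DihedralGroup.sr 1) = y2 := by
    show y0 * ID3_Q n r hrn 1 = y2
    rw [hQ1, hr, ← mul_assoc, h0, one_mul]
  have hgsurj : Function.Surjective g := by
    rw [← MonoidHom.range_eq_top, eq_top_iff, ← hgen, Subgroup.closure_le]
    intro z hz
    rcases hz with rfl | rfl | rfl
    · exact ⟨(DihedralGroup.sr 0, 1), by rw [hgapp, hf0, map_one, mul_one]⟩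
    · exact ⟨(1, Multiplicative.ofAdd 1), by rw [hgapp, map_one, one_mul, hCgen]⟩
    · exact ⟨(DihedralGroup.sr 1, 1), by rw [hgapp, hf2, map_one, mul_one]⟩
  have h3 : 3 ≤ n := by
    have hle := Nat.card_le_card_of_surjective g hgsurj
    rw [hc, Nat.card_prod, DihedralGroup.nat_card, Nat.card_eq_fintype_card] at hle
    have h2 : Fintype.card (Multiplicative (ZMod 2)) = 2 := by
      rw [Fintype.card_multiplicative, ZMod.card]
    rw [h2] at hle
    omega
  have hinj : Function.Injective f := ID3_lift_injective n r y0 hrn h0 hy0r hn.symm h3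
  have hdvd : 2 * n ∣ 12 := by
    have h1 : Nat.card ↥f.range = 2 * n := by
      rw [← Nat.card_congr (MonoidHom.ofInjective hinj).toEquiv, DihedralGroup.nat_card]
    rw [← h1, ← hc]
    exact Subgroup.card_subgroup_dvd_card f.range
  have hn36 : n = 3 ∨ n = 6 := by
    obtain ⟨c, hc'⟩ := hdvd
    have h6 : n * c = 6 := by
      have : 2 * (n * c) = 12 := by rw [hc']; ring
      omega
    have hle : n ≤ 6 := by
      rcases Nat.eq_zero_or_pos c with h | h
      · rw [h] at h6; omega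
      · nlinarith
    interval_cases n
    · left; rfl
    · exfalso; omega
    · exfalso; omega
    · right; rfl
  rcases hn36 with h | h
  · -- `n = 3`: use `r * y1`
    have hy1ne : y1 ≠ 1 := by
      intro hy1
      have hfsurj : Function.Surjective f := by
        rw [← MonoidHom.range_eq_top, eq_top_iff, ← hgen, Subgroup.closure_le]
        intro z hz
        rcases hz with rfl | rfl | rfl
        · exact ⟨DihedralGroup.sr 0, hf0⟩
        · exact ⟨1, by rw [map_one, hy1]⟩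
        · exact ⟨DihedralGroup.sr 1, hf2⟩
      have hle := Nat.card_le_card_of_surjective f hfsurj
      rw [hc, DihedralGroup.nat_card, h] at hle
      omega
    have ho1 : orderOf y1 = 2 := orderOf_eq_prime hy1pow hy1ne
    have hor : orderOf r = 3 := by rw [← hn]; exact h
    have hcomm : Commute r y1 := (hcen r).symm
    have hρ6 : orderOf (r * y1) = 6 := by
      rw [hcomm.orderOf_mul_eq_mul_orderOf_of_coprime (by rw [hor, ho1]; decide), hor, ho1]
    have hy1i : y1⁻¹ = y1 := inv_eq_of_mul_eq_one_right h1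
    have hconj : y0 * (r * y1) * y0 = (r * y1)⁻¹ := by
      rw [mul_inv_rev, hy1i]
      calc y0 * (r * y1) * y0 = y0 * r * (y1 * y0) := by simp only [mul_assoc]
        _ = y0 * r * (y0 * y1) := by rw [(hcen y0).eq]
        _ = (y0 * r * y0) * y1 := by simp only [mul_assoc]
        _ = r⁻¹ * y1 := by rw [hy0r]
        _ = y1 * r⁻¹ := ((hcen r⁻¹).eq).symm
    exact ID3_iso 6 (by rw [hc]) (r * y1) y0 h0 hconj hρ6 (by norm_num)
  · -- `n = 6`
    exact ID3_iso 6 (by rw [hc]) r y0 h0 hy0r (by rw [← hn]; exact h) (by norm_num)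

end Cfsg.Agent.Helper52.Sims3
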