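import Mathlib
import Cfsg.Agent.Helper86.Spec4.DefsU

/-!
# Piece (V2a) for helper86's S2511: the spectral idempotent of a self-conjugate-reciprocal coprime
factorization is self-adjoint.
-/

set_option autoImplicit false

namespace Cfsg.Agent.Helper52.Spec4U

open Matrix Polynomial Cfsg.Agent.Helper86.Spec4

variable {F : Type*} [Field F] {n : ℕ}

/-- `t * s = 1` gives `t ^ i * s ^ i = 1`. -/
theorem pow_mul_pow_eq_one {R : Type*} [Monoid R] {t s : R} (h : t * s = 1) (i : ℕ) :
    t ^ i * s ^ i = 1 := by
  induction i with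
  | zero => simp
  | succ i ih => rw [pow_succ, pow_succ', mul_assoc, ← mul_assoc t, h, one_mul, ih]

/-- an element commuting with `t` commutes with every polynomial in `t`. -/
theorem commute_aeval_right {A : Type*} [Ring A] [Algebra F A] {y t : A} (h : Commute y t)
    (f : F[X]) : Commute y (aeval t f) := by
  induction f using Polynomial.induction_on' with
  | add p r hp hr => rw [map_add]; exact hp.add_right hr
  | monomial k c =>
    rw [aeval_monomial]
    exact (Algebra.commute_algebraMap_right c y).mul_right (h.pow_right k)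

/-- evaluation of the reversed polynomial: `f(t) s^N = f.reverse(s)` when `t s = 1`, `N = deg f`. -/
theorem aeval_mul_pow_eq_aeval_reverse {A : Type*} [Ring A] [Algebra F A] {t s : A}
    (hts : t * s = 1) (f : F[X]) : aeval t f * s ^ f.natDegree = aeval s f.reverse := by
  set N := f.natDegree with hN
  have hkey : ∀ i ∈ Finset.range (N + 1), t ^ i * s ^ N = s ^ (N - i) := by
    intro i hi
    have hi' : i ≤ N := Nat.lt_succ_iff.mp (Finset.mem_range.mp hi)
    have : s ^ N = s ^ i * s ^ (N - i) := by rw [← pow_add, Nat.add_sub_cancel' hi']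
    rw [this, ← mul_assoc, pow_mul_pow_eq_one hts, one_mul]
  rw [aeval_eq_sum_range, Finset.sum_mul]
  have hdeg : f.reverse.natDegree < N + 1 := Nat.lt_succ_of_le (reverse_natDegree_le f)
  rw [aeval_eq_sum_range' hdeg]
  have h1 : ∀ i ∈ Finset.range (N + 1), (f.coeff i • t ^ i) * s ^ N = f.coeff i • s ^ (N - i) := by
    intro i hi
    rw [smul_mul_assoc, hkey i hi]
  rw [Finset.sum_congr rfl h1]
  have h2 : ∀ j ∈ Finset.range (N + 1), f.reverse.coeff j • s ^ j = f.coeff (N - j) • s ^ j := by
    intro j hj
    have hj' : j ≤ N := Nat.lt_succ_iff.mp (Finset.mem_range.mp hj)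
    rw [coeff_reverse, revAt_le hj']
  rw [Finset.sum_congr rfl h2]
  rw [← Finset.sum_range_reflect (fun j => f.coeff (N - j) • s ^ j) (N + 1)]
  apply Finset.sum_congr rfl
  intro i hi
  have hi' : i ≤ N := Nat.lt_succ_iff.mp (Finset.mem_range.mp hi)
  have : N + 1 - 1 - i = N - i := by omega
  simp only [this]
  have h3 : N - (N - i) = i := by omega
  rw [h3]

/-- the key transfer step: `y * Q(s) = 0` and `Q† ~ Q` give `Q(s) * y† = 0` for a unitary `s`. -/
theorem aeval_mul_dag_eq_zero (bar : F →+* F) (s : Matrix (Fin n) (Fin n) F)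
    (hs : dag bar s * s = 1) (Q : F[X]) (y : Matrix (Fin n) (Fin n) F)
    (hy : y * aeval s Q = 0) (hQ : Associated (pstar bar Q) Q) : aeval s Q * dag bar y = 0 := by
  have hst : s * dag bar s = 1 := mul_eq_one_comm.mp hs
  have hcomm : Commute s (dag bar s) := by
    unfold Commute SemiconjBy
    rw [hst, hs]
  have h1 : aeval (dag bar s) (Q.map bar) * dag bar y = 0 := by
    rw [← dag_aeval, ← dag_mul, hy, dag_zero]
  have h2 : aeval (dag bar s) (Q.map bar) * s ^ (Q.map bar).natDegree = aeval s (pstar bar Q) :=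
    aeval_mul_pow_eq_aeval_reverse hs (Q.map bar)
  have hc : Commute (s ^ (Q.map bar).natDegree) (aeval (dag bar s) (Q.map bar)) :=
    commute_aeval_right (hcomm.pow_left _) _
  have h3 : aeval s (pstar bar Q) * dag bar y = 0 := by
    rw [← h2, ← hc.eq, mul_assoc, h1, mul_zero]
  obtain ⟨u, hu⟩ := hQ
  obtain ⟨c, -, hc'⟩ := Polynomial.isUnit_iff.mp u.isUnit
  rw [← hu, ← hc', mul_comm, map_mul, aeval_C, mul_assoc, h3, mul_zero]

/-- (V2a) the spectral idempotent of a self-conjugate-reciprocal coprime factorization is self-adjoint. -/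
theorem exists_sa_idempotent [Fintype F] (bar : F →+* F) (hbar2 : ∀ x, bar (bar x) = x)
    (s : Matrix (Fin n) (Fin n) F) (hs : dag bar s * s = 1) (P H : F[X]) (hPH : IsCoprime P H)
    (hzero : aeval s (P * H) = 0) (hP : Associated (pstar bar P) P) (hH : Associated (pstar bar H) H)
    (hP0 : P.coeff 0 ≠ 0) (hH0 : H.coeff 0 ≠ 0) :
    ∃ e : Matrix (Fin n) (Fin n) F, e * e = e ∧ dag bar e = e ∧ (∃ g : F[X], e = aeval s g) ∧
      aeval s H * e = 0 ∧ aeval s P * (1 - e) = 0 := by
  obtain ⟨a, b, hab⟩ := hPH
  have h1e : (1 : Matrix (Fin n) (Fin n) F) - aeval s (a * P) = aeval s (b * H) := by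
    have : aeval s (a * P + b * H) = (1 : Matrix (Fin n) (Fin n) F) := by rw [hab, map_one]
    rw [← this, map_add, add_sub_cancel_left]
  have hee : aeval s (a * P) * (1 - aeval s (a * P)) = 0 := by
    rw [h1e, ← map_mul]
    have : a * P * (b * H) = (a * b) * (P * H) := by ring
    rw [this, map_mul, hzero, mul_zero]
  have hHe : aeval s H * aeval s (a * P) = 0 := by
    rw [← map_mul]
    have : H * (a * P) = a * (P * H) := by ring
    rw [this, map_mul, hzero, mul_zero]
  have heH : aeval s (a * P) * aeval s H = 0 := by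
    rw [← map_mul]
    have : a * P * H = a * (P * H) := by ring
    rw [this, map_mul, hzero, mul_zero]
  have hP1e : aeval s P * (1 - aeval s (a * P)) = 0 := by
    rw [h1e, ← map_mul]
    have : P * (b * H) = b * (P * H) := by ring
    rw [this, map_mul, hzero, mul_zero]
  have h1eP : (1 - aeval s (a * P)) * aeval s P = 0 := by
    rw [h1e, ← map_mul]
    have : b * H * P = b * (P * H) := by ring
    rw [this, map_mul, hzero, mul_zero]
  -- the adjoint satisfies the same two equations
  have hHe' : aeval s H * dag bar (aeval s (a * P)) = 0 :=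
    aeval_mul_dag_eq_zero bar s hs H _ heH hH
  have hP1e' : aeval s P * (1 - dag bar (aeval s (a * P))) = 0 := by
    have := aeval_mul_dag_eq_zero bar s hs P _ h1eP hP
    rwa [dag_sub, dag_one] at this
  -- uniqueness
  have hfac : aeval s (a * P) = aeval s a * aeval s P := map_mul _ _ _
  have hfac2 : aeval s (b * H) = aeval s b * aeval s H := map_mul _ _ _
  have hA : aeval s (a * P) * (1 - dag bar (aeval s (a * P))) = 0 := by
    calc aeval s (a * P) * (1 - dag bar (aeval s (a * P)))
        = aeval s a * (aeval s P * (1 - dag bar (aeval s (a * P)))) := by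
          rw [← mul_assoc, ← hfac]
      _ = 0 := by rw [hP1e', mul_zero]
  have hB : (1 - aeval s (a * P)) * dag bar (aeval s (a * P)) = 0 := by
    calc (1 - aeval s (a * P)) * dag bar (aeval s (a * P))
        = aeval s b * (aeval s H * dag bar (aeval s (a * P))) := by
          rw [h1e, hfac2, mul_assoc]
      _ = 0 := by rw [hHe', mul_zero]
  have hA' : aeval s (a * P) = aeval s (a * P) * dag bar (aeval s (a * P)) := by
    have := hA
    rw [mul_sub, mul_one, sub_eq_zero] at this
    exact this
  have hB' : dag bar (aeval s (a * P)) = aeval s (a * P) * dag bar (aeval s (a * P)) := by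
    have := hB
    rw [sub_mul, one_mul, sub_eq_zero] at this
    exact this
  refine ⟨aeval s (a * P), ?_, ?_, ⟨a * P, rfl⟩, hHe, hP1e⟩
  · have := hee
    rw [mul_sub, mul_one, sub_eq_zero] at this
    exact this.symm
  · rw [hB', ← hA']

end Cfsg.Agent.Helper52.Spec4U
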