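import Mathlib
import Cfsg.Agent.Helper86.Spec4.DefsU
import Cfsg.Agent.Helper52.Spec4UV2a

/-!
# Piece (V4) for helper86's S2511: a unitary power `t` of an indecomposable unitary `x` with
`t ^ g = 1`, `g ∣ q + 1`, is a scalar.
-/

set_option autoImplicit false

namespace Cfsg.Agent.Helper52.Spec4U

open Matrix Polynomial Cfsg.Agent.Helper86.Spec4

variable {F : Type*} [Field F] [Fintype F] {q n : ℕ}

omit [Fintype F] in
/-- the conjugate reciprocal of `X - C c`. -/
theorem pstar_X_sub_C (bar : F →+* F) (c : F) :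
    pstar bar (X - C c) = 1 - C (bar c) * X := by
  unfold pstar
  rw [Polynomial.map_sub, Polynomial.map_X, Polynomial.map_C]
  have h : (X - C (bar c) : F[X]) = X + C (-(bar c)) := by
    rw [C_neg, sub_eq_add_neg]
  rw [h, reverse_add_C, natDegree_X, pow_one, C_neg]
  have hX : (X : F[X]).reverse = 1 := by
    have := reverse_mul_X (1 : F[X])
    rw [one_mul] at this
    rw [this]
    have h1 : (1 : F[X]) = C 1 := by simp
    rw [h1, reverse_C]
  rw [hX]
  ring

omit [Fintype F] in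
/-- the conjugate reciprocal of `X ^ g - C 1`. -/
theorem pstar_X_pow_sub_C_one (bar : F →+* F) (g : ℕ) :
    pstar bar (X ^ g - C 1) = -(X ^ g - C 1) := by
  unfold pstar
  rw [Polynomial.map_sub, Polynomial.map_pow, Polynomial.map_X, Polynomial.map_C, map_one]
  have h : (X ^ g - C 1 : F[X]) = X ^ g + C (-1) := by
    rw [C_neg, sub_eq_add_neg]
  rw [h, reverse_add_C, natDegree_X_pow, C_neg]
  have hX : (X ^ g : F[X]).reverse = 1 := by
    have := reverse_mul_X_pow (1 : F[X]) g
    rw [one_mul] at this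
    rw [this]
    have h1 : (1 : F[X]) = C 1 := by simp
    rw [h1, reverse_C]
  rw [hX]
  simp only [C_1]
  ring

omit [Fintype F] in
/-- `pstar` is multiplicative. -/
theorem pstar_mul' (bar : F →+* F) (f g : F[X]) :
    pstar bar (f * g) = pstar bar f * pstar bar g := by
  unfold pstar
  rw [Polynomial.map_mul, reverse_mul_of_domain]

/-- (V4) a unitary power `t` of `x` with `t ^ g = 1`, `g ∣ q + 1`, is a scalar. -/
theorem scalar_of_pow_U (hF : Fintype.card F = q ^ 2) (bar : F →+* F)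
    (hbar : ∀ x, bar x = x ^ q) (hn : 1 ≤ n) (x t : Matrix (Fin n) (Fin n) F)
    (hx : dag bar x * x = 1) (j : ℕ) (ht : t = x ^ j) (g : ℕ) (hg : g ∣ q + 1) (htg : t ^ g = 1)
    (hind : ∀ e : Matrix (Fin n) (Fin n) F, e * e = e → dag bar e = e → e * x = x * e →
      e = 0 ∨ e = 1) :
    ∃ ζ : F, t = ζ • (1 : Matrix (Fin n) (Fin n) F) := by
  classical
  have hbar2 : ∀ y, bar (bar y) = y := by
    intro y
    rw [hbar, hbar, ← pow_mul, ← sq, ← hF, FiniteField.pow_card]
  have hg0 : g ≠ 0 := by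
    rintro rfl
    simp at hg
  have hdt : dag bar t * t = 1 := by
    rw [ht, dag_pow]
    exact pow_mul_pow_eq_one hx j
  have : Nonempty (Fin n) := ⟨⟨0, hn⟩⟩
  have : Nontrivial (Matrix (Fin n) (Fin n) F) := inferInstance
  -- `(g : F) ≠ 0`
  have hqF : (q : F) = 0 := by
    have h := Nat.cast_card_eq_zero F
    rw [hF, Nat.cast_pow] at h
    exact pow_eq_zero_iff (two_ne_zero) |>.mp h
  have hgF : (g : F) ≠ 0 := by
    intro h0
    obtain ⟨k, hk⟩ := hg
    have : ((q + 1 : ℕ) : F) = 0 := by rw [hk, Nat.cast_mul, h0, zero_mul]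
    rw [Nat.cast_add, hqF, zero_add, Nat.cast_one] at this
    exact one_ne_zero this
  -- the minimal polynomial divides `X ^ g - 1`
  have hμdvd : minpoly F t ∣ (X ^ g - C 1 : F[X]) := by
    apply minpoly.dvd
    rw [map_sub, map_pow, aeval_X, aeval_C, map_one, htg, sub_self]
  have hq1 : 1 < Fintype.card F := Fintype.one_lt_card
  -- `X ^ g - 1` splits over `F`
  have hne : (X ^ Fintype.card F - X : F[X]) ≠ 0 :=
    FiniteField.X_pow_card_sub_X_ne_zero F hq1
  have hsplit0 : (X ^ Fintype.card F - X : F[X]).Splits := by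
    rw [splits_iff_card_roots, FiniteField.roots_X_pow_card_sub_X,
      FiniteField.X_pow_card_sub_X_natDegree_eq F hq1]
    rfl
  have hdvd1 : (X ^ g - C 1 : F[X]) ∣ X ^ Fintype.card F - X := by
    have h1 : (X ^ g - C 1 : F[X]) ∣ X ^ (q ^ 2 - 1) - 1 := by
      rw [C_1]
      apply dvd_pow_sub_one_of_dvd
      have : q ^ 2 - 1 = (q + 1) * (q - 1) := by
        have := Nat.sq_sub_sq q 1
        rw [one_pow] at this
        rw [this]
      rw [this]
      exact hg.mul_right _
    have h2 : (X ^ Fintype.card F - X : F[X]) = (X ^ (q ^ 2 - 1) - 1) * X := by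
      have hq2 : 1 ≤ q ^ 2 := by rw [← hF]; exact hq1.le
      rw [sub_mul, one_mul, ← pow_succ, hF, Nat.sub_add_cancel hq2]
    rw [h2]
    exact h1.mul_right _
  have hμsplit : (minpoly F t).Splits :=
    Splits.of_dvd hsplit0 hne (hμdvd.trans hdvd1)
  have hint : IsIntegral F t := Matrix.isIntegral t
  have hμdeg : (minpoly F t).degree ≠ 0 := (minpoly.degree_pos hint).ne'
  obtain ⟨ζ, hζ⟩ := Splits.exists_eval_eq_zero hμsplit hμdeg
  have hζroot : (X ^ g - C 1 : F[X]).IsRoot ζ := by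
    obtain ⟨c, hc⟩ := hμdvd
    rw [IsRoot.def, hc, eval_mul, hζ, zero_mul]
  have hζg : ζ ^ g = 1 := by
    have := hζroot
    rw [IsRoot.def, eval_sub, eval_pow, eval_X, eval_C, sub_eq_zero] at this
    exact this
  have hζ0 : ζ ≠ 0 := by
    rintro rfl
    rw [zero_pow hg0] at hζg
    exact zero_ne_one hζg
  have hζq : ζ ^ (q + 1) = 1 := by
    obtain ⟨k, hk⟩ := hg
    rw [hk, pow_mul, hζg, one_pow]
  have hbarζ : bar ζ = ζ⁻¹ := by
    rw [hbar]
    apply eq_inv_of_mul_eq_one_left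
    rw [← pow_succ, hζq]
  -- factor
  obtain ⟨H, hH⟩ := dvd_iff_isRoot.mpr hζroot
  have hXg0 : (X ^ g - C 1 : F[X]) ≠ 0 := X_pow_sub_C_ne_zero (Nat.pos_of_ne_zero hg0) 1
  have hPne : (X - C ζ : F[X]) ≠ 0 := X_sub_C_ne_zero ζ
  have hHne : H ≠ 0 := by
    rintro rfl
    rw [mul_zero] at hH
    exact hXg0 hH
  have hsep : (X ^ g - C 1 : F[X]).Separable := separable_X_pow_sub_C 1 hgF one_ne_zero
  have hcop : IsCoprime (X - C ζ : F[X]) H := by
    rw [hH] at hsep
    exact hsep.isCoprime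
  have hP0 : (X - C ζ : F[X]).coeff 0 ≠ 0 := by
    rw [coeff_sub, coeff_X_zero, coeff_C_zero, zero_sub]
    exact neg_ne_zero.mpr hζ0
  have hH0 : H.coeff 0 ≠ 0 := by
    intro h0
    have := congrArg (fun f : F[X] => f.coeff 0) hH
    simp only [mul_coeff_zero, h0, mul_zero, coeff_sub, coeff_X_pow, coeff_C_zero] at this
    rw [if_neg (Ne.symm hg0), zero_sub] at this
    exact one_ne_zero (neg_eq_zero.mp this)
  -- `pstar P ~ P`
  have hPstar : pstar bar (X - C ζ) = C (-ζ⁻¹) * (X - C ζ) := by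
    rw [pstar_X_sub_C, hbarζ, C_neg, neg_mul, mul_sub, ← C_mul, inv_mul_cancel₀ hζ0, C_1]
    ring
  have hPassoc : Associated (pstar bar (X - C ζ)) (X - C ζ) := by
    have hu : IsUnit (C (-ζ⁻¹) : F[X]) :=
      isUnit_C.mpr (IsUnit.mk0 _ (neg_ne_zero.mpr (inv_ne_zero hζ0)))
    rw [hPstar]
    exact associated_unit_mul_left _ _ hu
  have hHstar : pstar bar H = C ζ * H := by
    have h1 : pstar bar (X ^ g - C 1) = pstar bar (X - C ζ) * pstar bar H := by
      rw [hH, pstar_mul']
    rw [pstar_X_pow_sub_C_one, hPstar, hH] at h1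
    have h2 : (X - C ζ) * (C (-ζ⁻¹) * pstar bar H) = (X - C ζ) * (-H) := by
      rw [mul_neg, h1]; ring
    have h3 := mul_left_cancel₀ hPne h2
    have h4 : pstar bar H = C (-ζ) * (C (-ζ⁻¹) * pstar bar H) := by
      rw [← mul_assoc, ← C_mul, neg_mul_neg, mul_inv_cancel₀ hζ0, C_1, one_mul]
    rw [h4, h3, C_neg]
    ring
  have hHassoc : Associated (pstar bar H) H := by
    have hu : IsUnit (C ζ : F[X]) := isUnit_C.mpr (IsUnit.mk0 _ hζ0)
    rw [hHstar]
    exact associated_unit_mul_left _ _ hu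
  have hzero : aeval t ((X - C ζ) * H) = 0 := by
    rw [← hH, map_sub, map_pow, aeval_X, aeval_C, map_one, htg, sub_self]
  obtain ⟨e, hee, hes, ⟨g', hg'⟩, hHe, hPe⟩ :=
    exists_sa_idempotent bar hbar2 t hdt (X - C ζ) H hcop hzero hPassoc hHassoc hP0 hH0
  have hcomm : e * x = x * e := by
    have hxt : Commute x t := by
      rw [ht]
      exact (Commute.refl x).pow_right j
    have := commute_aeval_right (F := F) hxt g'
    rw [← hg'] at this
    exact this.eq.symm
  rcases hind e hee hes hcomm with he0 | he1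
  · refine ⟨ζ, ?_⟩
    rw [he0, sub_zero, mul_one, map_sub, aeval_X, aeval_C, sub_eq_zero] at hPe
    rw [hPe, Algebra.algebraMap_eq_smul_one]
  · exfalso
    rw [he1, mul_one] at hHe
    have hμH : minpoly F t ∣ H := minpoly.dvd F t hHe
    have hPH : (X - C ζ : F[X]) ∣ H := (dvd_iff_isRoot.mpr hζ).trans hμH
    have hunit : IsUnit (X - C ζ : F[X]) := hcop.isUnit_of_dvd' dvd_rfl hPH
    exact not_isUnit_X_sub_C ζ hunit

end Cfsg.Agent.Helper52.Spec4U
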