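import Mathlib

/-!
# Pure arithmetic for pieces [DA], [DB] of helper6's S4775 (character degrees of `Sz(q)`)
-/

set_option autoImplicit false

namespace Cfsg.Agent.Helper52.Szc

/-- `2 w² = (2^k)²` has no solution. -/
theorem two_mul_sq_ne_pow (k : ℕ) : ∀ w : ℕ, 2 * w ^ 2 ≠ (2 ^ k) ^ 2 := by
  induction k with
  | zero =>
    intro w h
    simp at h
  | succ k ih =>
    intro w h
    have h1 : w ^ 2 = 2 * (2 ^ k) ^ 2 := by
      have : (2 ^ (k + 1)) ^ 2 = 4 * (2 ^ k) ^ 2 := by ring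
      rw [this] at h
      omega
    have hev : Even (w ^ 2) := ⟨(2 ^ k) ^ 2, by rw [h1]; ring⟩
    obtain ⟨w', hw'⟩ := (Nat.even_pow.mp hev).1
    apply ih w'
    have : w ^ 2 = 4 * w' ^ 2 := by rw [hw']; ring
    rw [this] at h1
    omega


theorem dl_aux1 {t u1 u2 w : ℤ} (ht : 4 ≤ t)
    (E1' : t * (t + 1) * u1 ^ 2 + t * (t - 1) * u2 ^ 2 + 4 * w ^ 2 = 2 * t ^ 2) (hu1 : 0 ≤ u1) : u1 ≤ 1 := by
  have htp : 0 < t := by linarith
  have ht1 : 0 < t * (t + 1) := by positivity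
  have ht2 : 0 < t * (t - 1) := mul_pos htp (by linarith)
  by_contra hcon
  push Not at hcon
  have h4 : 4 ≤ u1 ^ 2 := by nlinarith
  have := mul_le_mul_of_nonneg_left h4 ht1.le
  have h5 : 0 ≤ t * (t - 1) * u2 ^ 2 := mul_nonneg ht2.le (sq_nonneg _)
  nlinarith [sq_nonneg w]

theorem dl_aux2 {t u1 u2 w : ℤ} (ht : 4 ≤ t)
    (E1' : t * (t + 1) * u1 ^ 2 + t * (t - 1) * u2 ^ 2 + 4 * w ^ 2 = 2 * t ^ 2) (hu2 : 0 ≤ u2) : u2 ≤ 1 := by
  have htp : 0 < t := by linarith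
  have ht1 : 0 < t * (t + 1) := by positivity
  have ht2 : 0 < t * (t - 1) := mul_pos htp (by linarith)
  by_contra hcon
  push Not at hcon
  have h4 : 4 ≤ u2 ^ 2 := by nlinarith
  have := mul_le_mul_of_nonneg_left h4 ht2.le
  have h5 : 0 ≤ t * (t + 1) * u1 ^ 2 := mul_nonneg ht1.le (sq_nonneg _)
  nlinarith [sq_nonneg w]

theorem dl_aux3 {t w : ℤ} (ht : 4 ≤ t) (hw : 0 ≤ w) (h : (2 * w) ^ 2 = t ^ 2 + t) : False := by
  rcases le_or_gt (2 * w) t with h1 | h1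
  · nlinarith
  · have h2 : t + 1 ≤ 2 * w := h1
    nlinarith

theorem dl_aux4 {t w : ℤ} (ht : 4 ≤ t) (hw : 0 ≤ w) (h : (2 * w) ^ 2 = t ^ 2 - t) : False := by
  rcases le_or_gt (2 * w) (t - 1) with h1 | h1
  · nlinarith
  · have h2 : t ≤ 2 * w := by linarith
    nlinarith

theorem dl_aux5 {t v1 v2 a b : ℤ} (ht : 4 ≤ t) (_hv1 : 0 ≤ v1) (hv2 : 0 ≤ v2) (ha : 0 ≤ a) (hb : 0 ≤ b)
    (hL : (t + 1) * v1 + (t - 1) * v2 = 2 * (t ^ 2 - 1))
    (hQ : t * (t + 1) * v1 ^ 2 + t * (t - 1) * v2 ^ 2 + 4 * (a * b) = 2 * t ^ 2 * (t ^ 2 - 1)) :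
    v1 = t - 1 ∧ v2 = t + 1 ∧ a * b = 0 := by
  have htp : 0 < t := by linarith
  have hkey : (t ^ 2 - 1) * (v1 - v2) ^ 2 = 4 * (t ^ 2 - 1) - 8 * (a * b) := by
    linear_combination 2 * hQ - ((t + 1) * v1 + (t - 1) * v2 + 2 * (t ^ 2 - 1)) * hL
  have hab0 : 0 ≤ a * b := mul_nonneg ha hb
  have ht3 : 0 < t ^ 2 - 1 := by nlinarith
  have hsq : (v1 - v2) ^ 2 ≤ 4 := by
    by_contra hcon
    push Not at hcon
    have : (t ^ 2 - 1) * 4 < (t ^ 2 - 1) * (v1 - v2) ^ 2 := mul_lt_mul_of_pos_left hcon ht3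
    linarith
  have hd1 : -2 ≤ v2 - v1 := by nlinarith
  have hd2 : v2 - v1 ≤ 2 := by nlinarith
  obtain ⟨δ, hδ⟩ : ∃ δ : ℤ, δ = v2 - v1 := ⟨_, rfl⟩
  have hv2' : v2 = v1 + δ := by linarith
  rw [← hδ] at hd1 hd2
  subst hv2'
  have hL' : 2 * t * v1 + (t - 1) * δ = 2 * (t ^ 2 - 1) := by linear_combination hL
  have hδ2 : δ = 2 := by
    interval_cases δ
    · -- δ = -2 : 2t(v1 - t - 1) = -4
      exfalso
      have h : 2 * t * (v1 - t - 1) = -4 := by linear_combination hL'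
      rcases le_or_gt (v1 - t - 1) (-1) with h1 | h1
      · nlinarith
      · have h2 : 0 ≤ v1 - t - 1 := by linarith
        nlinarith [mul_nonneg htp.le h2]
    · -- δ = -1 : 2t(v1 - t) = t - 3
      exfalso
      have h : 2 * t * (v1 - t) = t - 3 := by linear_combination hL'
      rcases le_or_gt (v1 - t) 0 with h1 | h1
      · nlinarith [mul_nonneg htp.le (by linarith : (0:ℤ) ≤ -(v1 - t))]
      · have h2 : 1 ≤ v1 - t := h1
        nlinarith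
    · -- δ = 0 : 2t(v1 - t) = -2
      exfalso
      have h : 2 * t * (v1 - t) = -2 := by linear_combination hL'
      rcases le_or_gt (v1 - t) (-1) with h1 | h1
      · nlinarith
      · have h2 : 0 ≤ v1 - t := by linarith
        nlinarith [mul_nonneg htp.le h2]
    · -- δ = 1 : 2t(v1 - t) = -t - 1
      exfalso
      have h : 2 * t * (v1 - t) = -t - 1 := by linear_combination hL'
      rcases le_or_gt (v1 - t) (-1) with h1 | h1
      · nlinarith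
      · have h2 : 0 ≤ v1 - t := by linarith
        nlinarith [mul_nonneg htp.le h2]
    · rfl
  subst hδ2
  have hv1' : v1 = t - 1 := by
    have h : (2 * t) * v1 = (2 * t) * (t - 1) := by linear_combination hL'
    exact mul_left_cancel₀ (by linarith : (2 * t) ≠ 0) h
  have hab1 : a * b = 0 := by
    have : 8 * (a * b) = 0 := by
      have := hkey
      rw [show v1 - (v1 + 2) = -2 by ring] at this
      linear_combination this
    linarith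
  refine ⟨hv1', ?_, hab1⟩
  rw [hv1']; ring

/-- the Diophantine analysis for `T ≥ 4`, over `ℤ`. -/
theorem dioph_large_int {t f1 f2 u1 u2 v1 v2 w a b : ℤ} (ht : 4 ≤ t)
    (hu1 : 0 ≤ u1) (hu2 : 0 ≤ u2) (hv1 : 0 ≤ v1) (hv2 : 0 ≤ v2) (hw : 0 ≤ w) (ha : 0 ≤ a)
    (hb : 0 ≤ b)
    (hirr : 2 * w ^ 2 ≠ t ^ 2)
    (H1 : 2 * f1 = t * (t + 1)) (H2 : 2 * f2 = t * (t - 1))
    (E1 : f1 * u1 ^ 2 + f2 * u2 ^ 2 + w ^ 2 + w ^ 2 = t ^ 2)
    (E2 : f1 * (u1 * v1) + f2 * (u2 * v2) + w * a + w * b = t * (t ^ 2 - 1))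
    (E3 : f1 * v1 ^ 2 + f2 * v2 ^ 2 + a ^ 2 + b ^ 2 = 1 + t ^ 2 * (t ^ 2 - 1))
    (D : (a - b) ^ 2 = 1) :
    u1 = 1 ∧ v1 = t - 1 ∧ u2 = 1 ∧ v2 = t + 1 ∧ w = 0 ∧ a + b = 1 := by
  have E1' : t * (t + 1) * u1 ^ 2 + t * (t - 1) * u2 ^ 2 + 4 * w ^ 2 = 2 * t ^ 2 := by
    linear_combination 2 * E1 - u1 ^ 2 * H1 - u2 ^ 2 * H2
  have E2' : t * (t + 1) * (u1 * v1) + t * (t - 1) * (u2 * v2) + 2 * w * (a + b) =
      2 * t * (t ^ 2 - 1) := by
    linear_combination 2 * E2 - (u1 * v1) * H1 - (u2 * v2) * H2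
  have E3' : t * (t + 1) * v1 ^ 2 + t * (t - 1) * v2 ^ 2 + 2 * (a ^ 2 + b ^ 2) =
      2 + 2 * t ^ 2 * (t ^ 2 - 1) := by
    linear_combination 2 * E3 - v1 ^ 2 * H1 - v2 ^ 2 * H2
  have htp : 0 < t := by linarith
  have hu1' : u1 ≤ 1 := dl_aux1 ht E1' hu1
  have hu2' : u2 ≤ 1 := dl_aux2 ht E1' hu2
  have hcase : u1 = 1 ∧ u2 = 1 ∧ w = 0 := by
    have c1 : u1 = 0 ∨ u1 = 1 := by omega
    have c2 : u2 = 0 ∨ u2 = 1 := by omega
    rcases c1 with rfl | rfl <;> rcases c2 with rfl | rfl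
    · exfalso
      apply hirr
      linear_combination E1
    · exfalso
      exact dl_aux3 ht hw (by linear_combination E1')
    · exfalso
      exact dl_aux4 ht hw (by linear_combination E1')
    · refine ⟨rfl, rfl, ?_⟩
      have h : 4 * w ^ 2 = 0 := by linear_combination E1'
      have : w ^ 2 = 0 := by linarith
      exact pow_eq_zero_iff (two_ne_zero) |>.mp this
  obtain ⟨rfl, rfl, rfl⟩ := hcase
  have hL : (t + 1) * v1 + (t - 1) * v2 = 2 * (t ^ 2 - 1) := by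
    have h : t * ((t + 1) * v1 + (t - 1) * v2) = t * (2 * (t ^ 2 - 1)) := by
      linear_combination E2'
    exact mul_left_cancel₀ htp.ne' h
  have hab : a ^ 2 + b ^ 2 = 1 + 2 * (a * b) := by linear_combination D
  have hQ : t * (t + 1) * v1 ^ 2 + t * (t - 1) * v2 ^ 2 + 4 * (a * b) =
      2 * t ^ 2 * (t ^ 2 - 1) := by
    linear_combination E3' - 2 * hab
  obtain ⟨hv1', hv2', hab1⟩ := dl_aux5 ht hv1 hv2 ha hb hL hQ
  have hsum : (a + b) ^ 2 = 1 := by linear_combination D + 4 * hab1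
  have hsum1 : a + b = 1 := by
    have h0 : 0 ≤ a + b := by linarith
    nlinarith
  exact ⟨rfl, hv1', rfl, hv2', rfl, hsum1⟩

/-- the Diophantine analysis for `T = 2`, over `ℕ`. -/
theorem dioph_small_nat {μ ν ω a b ζ y : ℕ}
    (E1 : 3 * μ ^ 2 + ω ^ 2 + ω ^ 2 + ζ ^ 2 = 4)
    (E2 : 3 * (μ * ν) + ω * a + ω * b + ζ * y = 6)
    (E3 : 3 * ν ^ 2 + a ^ 2 + b ^ 2 + y ^ 2 = 13)
    (D : ((a : ℤ) - b) ^ 2 = 1)
    (hd1 : 7 * (μ + 2 * (ν + ν)) ∣ 29120) (hd2 : 7 * (ζ + 2 * (y + y)) ∣ 29120) :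
    μ = 1 ∧ ν = 1 ∧ ω = 0 ∧ a + b = 1 ∧ ζ = 1 ∧ y = 3 := by
  have hμ : μ ≤ 1 := by nlinarith
  have hω : ω ≤ 1 := by nlinarith
  have hζ : ζ ≤ 2 := by nlinarith
  have hν : ν ≤ 2 := by nlinarith
  have ha : a ≤ 3 := by nlinarith
  have hb : b ≤ 3 := by nlinarith
  have hy : y ≤ 3 := by nlinarith
  interval_cases μ <;> interval_cases ω <;> interval_cases ζ <;> simp at E1 <;>
    interval_cases ν <;> interval_cases y <;> simp at E2 E3 <;>
    interval_cases a <;> interval_cases b <;> simp_all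

end Cfsg.Agent.Helper52.Szc
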