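import Mathlib
import Cfsg.Agent.Helper6.SzChar0

/-!
# Common combinatorial part of pieces [DA], [DB] of helper6's S4775: from the Gram relations,
`R` splits as `F₁ ⊔ F₂ ⊔ {W, cj W} ⊔ rest` with `n₁ = n₂` off `{W, cj W}`.
-/

set_option autoImplicit false

namespace Cfsg.Agent.Helper52.Szc

open Cfsg.Agent.Helper6

universe u

variable {ι : Type u} [DecidableEq ι] {T : ℕ} {R : Finset ι} {d m n₁ n₂ : ι → ℕ}
  {cj : ι → ι} {F₁ F₂ : Finset ι}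

omit [DecidableEq ι] in
/-- `Σ (n₁ - n₂)² = 2`. -/
theorem sum_diff_sq (N : SzNum T R d m n₁ n₂ cj F₁ F₂) :
    ∑ χ ∈ R, ((n₁ χ : ℤ) - n₂ χ) ^ 2 = 2 := by
  have e : ∀ χ ∈ R, ((n₁ χ : ℤ) - n₂ χ) ^ 2 =
      ((n₁ χ ^ 2 : ℕ) : ℤ) + ((n₂ χ ^ 2 : ℕ) : ℤ) - 2 * ((n₁ χ * n₂ χ : ℕ) : ℤ) := by
    intro χ _
    push_cast
    ring
  rw [Finset.sum_congr rfl e, Finset.sum_sub_distrib, Finset.sum_add_distrib, ← Finset.mul_sum,
    ← Nat.cast_sum, ← Nat.cast_sum, ← Nat.cast_sum, N.sum_n₁n₁, N.sum_n₂n₂, N.sum_n₁n₂]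
  push_cast
  ring

/-- the exceptional pair `W, cj W`. -/
theorem exists_pair (N : SzNum T R d m n₁ n₂ cj F₁ F₂) :
    ∃ W ∈ R, cj W ∈ R ∧ cj W ≠ W ∧ ((n₁ W : ℤ) - n₂ W) ^ 2 = 1 ∧ n₁ W ≠ n₂ W ∧
      ∀ χ ∈ R, χ ≠ W → χ ≠ cj W → n₁ χ = n₂ χ := by
  have hsum := sum_diff_sq N
  obtain ⟨W, hWR, hW⟩ : ∃ W ∈ R, n₁ W ≠ n₂ W := by
    by_contra hcon
    push Not at hcon
    have : ∑ χ ∈ R, ((n₁ χ : ℤ) - n₂ χ) ^ 2 = 0 := by
      apply Finset.sum_eq_zero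
      intro χ hχ
      rw [hcon χ hχ, sub_self]
      norm_num
    rw [this] at hsum
    norm_num at hsum
  have hW'R : cj W ∈ R := N.cj_mem W hWR
  have h1 : n₁ (cj W) = n₂ W := N.cj_n₁ W hWR
  have h2 : n₂ (cj W) = n₁ W := N.cj_n₂ W hWR
  have hne : cj W ≠ W := by
    intro h
    rw [h] at h1
    exact hW h1
  set f : ι → ℤ := fun χ => ((n₁ χ : ℤ) - n₂ χ) ^ 2 with hf
  have hfW : 1 ≤ f W := by
    have h0 : (n₁ W : ℤ) - n₂ W ≠ 0 := by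
      intro h
      apply hW
      have : (n₁ W : ℤ) = n₂ W := by linarith
      exact_mod_cast this
    have : 0 < ((n₁ W : ℤ) - n₂ W) ^ 2 := by positivity
    exact this
  have hfW' : f (cj W) = f W := by
    simp only [hf, h1, h2]
    ring
  have hmem : cj W ∈ R.erase W := Finset.mem_erase.mpr ⟨hne, hW'R⟩
  have hs1 : f W + ∑ χ ∈ R.erase W, f χ = ∑ χ ∈ R, f χ := Finset.add_sum_erase R f hWR
  have hs2 : f (cj W) + ∑ χ ∈ (R.erase W).erase (cj W), f χ = ∑ χ ∈ R.erase W, f χ :=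
    Finset.add_sum_erase (R.erase W) f hmem
  have hrest : 0 ≤ ∑ χ ∈ (R.erase W).erase (cj W), f χ :=
    Finset.sum_nonneg (fun χ _ => sq_nonneg _)
  have hsum' : ∑ χ ∈ R, f χ = 2 := hsum
  have hfW1 : f W = 1 := by linarith
  have hrest0 : ∑ χ ∈ (R.erase W).erase (cj W), f χ = 0 := by linarith
  refine ⟨W, hWR, hW'R, hne, hfW1, hW, ?_⟩
  intro χ hχ hχW hχW'
  have hχmem : χ ∈ (R.erase W).erase (cj W) :=
    Finset.mem_erase.mpr ⟨hχW', Finset.mem_erase.mpr ⟨hχW, hχ⟩⟩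
  have := (Finset.sum_eq_zero_iff_of_nonneg (fun χ _ => sq_nonneg _)).mp hrest0 χ hχmem
  have h0 : (n₁ χ : ℤ) - n₂ χ = 0 := by
    have : ((n₁ χ : ℤ) - n₂ χ) ^ 2 = 0 := this
    exact pow_eq_zero_iff (two_ne_zero) |>.mp this
  have : (n₁ χ : ℤ) = n₂ χ := by linarith
  exact_mod_cast this

omit [DecidableEq ι] in
/-- a family with constant values and at least three members has `n₁ = n₂`. -/
theorem family_eq {W W' : ι} {F : Finset ι} (hFR : F ⊆ R)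
    (hall : ∀ χ ∈ R, χ ≠ W → χ ≠ W' → n₁ χ = n₂ χ)
    (hconst : ∀ χ ∈ F, ∀ ψ ∈ F, m χ = m ψ ∧ n₁ χ = n₁ ψ ∧ n₂ χ = n₂ ψ)
    (hcard : 3 ≤ F.card) : ∀ χ ∈ F, n₁ χ = n₂ χ := by
  classical
  intro χ hχ
  by_contra hne
  have hsub : F ⊆ {W, W'} := by
    intro ψ hψ
    have hψne : n₁ ψ ≠ n₂ ψ := by
      obtain ⟨-, e1, e2⟩ := hconst χ hχ ψ hψ
      rw [← e1, ← e2]
      exact hne
    by_contra hmem
    rw [Finset.mem_insert, Finset.mem_singleton] at hmem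
    push Not at hmem
    exact hψne (hall ψ (hFR hψ) hmem.1 hmem.2)
  have := Finset.card_le_card hsub
  have h2 : ({W, W'} : Finset ι).card ≤ 2 := Finset.card_le_two
  omega

/-- the decomposition of `R` and of sums over `R`. -/
theorem decomp (N : SzNum T R d m n₁ n₂ cj F₁ F₂) (hc1 : 3 ≤ F₁.card)
    (hc2 : F₂ = ∅ ∨ 3 ≤ F₂.card) :
    ∃ W W' : ι, W ∈ R ∧ W' ∈ R ∧ W ≠ W' ∧ m W' = m W ∧ n₁ W' = n₂ W ∧ n₂ W' = n₁ W ∧
      ((n₁ W : ℤ) - n₂ W) ^ 2 = 1 ∧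
      (∀ χ ∈ F₁, n₁ χ = n₂ χ) ∧ (∀ χ ∈ F₂, n₁ χ = n₂ χ) ∧
      (∀ χ ∈ R \ (F₁ ∪ F₂ ∪ {W, W'}), n₁ χ = n₂ χ) ∧
      (R \ (F₁ ∪ F₂ ∪ {W, W'})).card + F₁.card + F₂.card + 2 = R.card ∧
      ∀ f : ι → ℕ, ∑ χ ∈ R, f χ =
        ∑ χ ∈ F₁, f χ + ∑ χ ∈ F₂, f χ + f W + f W' + ∑ χ ∈ R \ (F₁ ∪ F₂ ∪ {W, W'}), f χ := by
  obtain ⟨W, hWR, hW'R, hne, hfW, hWne, hall⟩ := exists_pair N
  have h1 : n₁ (cj W) = n₂ W := N.cj_n₁ W hWR
  have h2 : n₂ (cj W) = n₁ W := N.cj_n₂ W hWR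
  have hW'ne : n₁ (cj W) ≠ n₂ (cj W) := by
    rw [h1, h2]
    exact fun h => hWne h.symm
  have hF1 : ∀ χ ∈ F₁, n₁ χ = n₂ χ := family_eq N.F₁R hall N.const₁ hc1
  have hF2 : ∀ χ ∈ F₂, n₁ χ = n₂ χ := by
    rcases hc2 with h | h
    · intro χ hχ
      rw [h] at hχ
      exact absurd hχ (Finset.notMem_empty χ)
    · exact family_eq N.F₂R hall N.const₂ h
  have hWF1 : W ∉ F₁ := fun h => hWne (hF1 W h)
  have hWF2 : W ∉ F₂ := fun h => hWne (hF2 W h)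
  have hW'F1 : cj W ∉ F₁ := fun h => hW'ne (hF1 _ h)
  have hW'F2 : cj W ∉ F₂ := fun h => hW'ne (hF2 _ h)
  have hdisj2 : Disjoint (F₁ ∪ F₂) {W, cj W} := by
    rw [Finset.disjoint_left]
    intro χ hχ hχ'
    rw [Finset.mem_insert, Finset.mem_singleton] at hχ'
    rw [Finset.mem_union] at hχ
    rcases hχ' with rfl | rfl
    · rcases hχ with h | h
      · exact hWF1 h
      · exact hWF2 h
    · rcases hχ with h | h
      · exact hW'F1 h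
      · exact hW'F2 h
  have hUR : F₁ ∪ F₂ ∪ {W, cj W} ⊆ R := by
    intro χ hχ
    rw [Finset.mem_union, Finset.mem_union, Finset.mem_insert, Finset.mem_singleton] at hχ
    rcases hχ with (h | h) | (rfl | rfl)
    · exact N.F₁R h
    · exact N.F₂R h
    · exact hWR
    · exact hW'R
  have hcardU : (F₁ ∪ F₂ ∪ {W, cj W}).card = F₁.card + F₂.card + 2 := by
    rw [Finset.card_union_of_disjoint hdisj2, Finset.card_union_of_disjoint N.disj,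
      Finset.card_pair (Ne.symm hne)]
  refine ⟨W, cj W, hWR, hW'R, Ne.symm hne, N.cj_m W hWR, h1, h2, hfW, hF1, hF2, ?_, ?_, ?_⟩
  · intro χ hχ
    rw [Finset.mem_sdiff] at hχ
    apply hall χ hχ.1
    · rintro rfl
      exact hχ.2 (Finset.mem_union_right _ (Finset.mem_insert_self _ _))
    · rintro rfl
      exact hχ.2 (Finset.mem_union_right _
        (Finset.mem_insert_of_mem (Finset.mem_singleton_self _)))
  · have := Finset.card_sdiff_add_card_eq_card hUR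
    rw [hcardU] at this
    omega
  · intro f
    rw [← Finset.sum_sdiff hUR, Finset.sum_union hdisj2, Finset.sum_union N.disj,
      Finset.sum_pair (Ne.symm hne)]
    ring

end Cfsg.Agent.Helper52.Szc
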