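import Mathlib
import Cfsg.Agent.Helper6.SzChar0
import Cfsg.Agent.Helper52.SzcArith
import Cfsg.Agent.Helper52.SzcDecomp

/-!
# Piece [DA] of helper6's S4775: the Diophantine analysis for `T ≥ 4`.
-/

set_option autoImplicit false

namespace Cfsg.Agent.Helper52.Szc

open Cfsg.Agent.Helper6

universe u

/-- DA: the Diophantine analysis, `T ≥ 4` -/
theorem szc_dioph_large {ι : Type u} [DecidableEq ι] {T : ℕ} {R : Finset ι} {d m n₁ n₂ : ι → ℕ}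
    {cj : ι → ι} {F₁ F₂ : Finset ι} (hT : ∃ k : ℕ, 1 ≤ k ∧ T = 2 ^ k) (h4 : 4 ≤ T)
    (N : SzNum T R d m n₁ n₂ cj F₁ F₂) :
    (∀ χ ∈ R, d χ = (2 * T ^ 2 - 1) * (2 * T ^ 2 - 2 * T + 1) ∨
      d χ = (2 * T ^ 2 - 1) * (2 * T ^ 2 + 2 * T + 1) ∨ d χ = (2 * T ^ 2 - 1) * T) ∧
    (∃ χ ∈ R, d χ = (2 * T ^ 2 - 1) * (2 * T ^ 2 - 2 * T + 1)) ∧
    (∃ χ ∈ R, d χ = (2 * T ^ 2 - 1) * (2 * T ^ 2 + 2 * T + 1)) ∧
    (∃ χ ∈ R, d χ = (2 * T ^ 2 - 1) * T) := by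
  have hcF1 := N.cardF₁
  have hcF2 := N.cardF₂ h4
  have hTT1 : 4 * 5 ≤ T * (T + 1) := Nat.mul_le_mul h4 (by omega)
  have hTT2 : 4 * 3 ≤ T * (T - 1) := Nat.mul_le_mul h4 (by omega)
  have hc1 : 3 ≤ F₁.card := by omega
  have hc2 : 3 ≤ F₂.card := by omega
  obtain ⟨W, W', hWR, hW'R, hne, hmW, hn1W, hn2W, hD, hF1, hF2, -, hcard, hsum⟩ :=
    decomp N hc1 (Or.inr hc2)
  have hTsq : T * (T + 1) + T * (T - 1) = 2 * T ^ 2 := by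
    obtain ⟨S, rfl⟩ : ∃ S, T = S + 1 := ⟨T - 1, by omega⟩
    simp only [Nat.add_sub_cancel]
    ring
  have hrest0 : R \ (F₁ ∪ F₂ ∪ {W, W'}) = ∅ := by
    rw [← Finset.card_eq_zero]
    have := N.card
    omega
  have hRsub : R ⊆ F₁ ∪ F₂ ∪ {W, W'} := Finset.sdiff_eq_empty_iff_subset.mp hrest0
  obtain ⟨χ₁, hχ₁⟩ : F₁.Nonempty := Finset.card_pos.mp (by omega)
  obtain ⟨χ₂, hχ₂⟩ : F₂.Nonempty := Finset.card_pos.mp (by omega)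
  have hsF1 : ∀ g : ℕ → ℕ → ℕ → ℕ, ∑ χ ∈ F₁, g (m χ) (n₁ χ) (n₂ χ) =
      F₁.card * g (m χ₁) (n₁ χ₁) (n₂ χ₁) := by
    intro g
    have : ∀ χ ∈ F₁, g (m χ) (n₁ χ) (n₂ χ) = g (m χ₁) (n₁ χ₁) (n₂ χ₁) := by
      intro χ hχ
      obtain ⟨e1, e2, e3⟩ := N.const₁ χ hχ χ₁ hχ₁
      rw [e1, e2, e3]
    rw [Finset.sum_congr rfl this, Finset.sum_const, smul_eq_mul]
  have hsF2 : ∀ g : ℕ → ℕ → ℕ → ℕ, ∑ χ ∈ F₂, g (m χ) (n₁ χ) (n₂ χ) =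
      F₂.card * g (m χ₂) (n₁ χ₂) (n₂ χ₂) := by
    intro g
    have : ∀ χ ∈ F₂, g (m χ) (n₁ χ) (n₂ χ) = g (m χ₂) (n₁ χ₂) (n₂ χ₂) := by
      intro χ hχ
      obtain ⟨e1, e2, e3⟩ := N.const₂ χ hχ χ₂ hχ₂
      rw [e1, e2, e3]
    rw [Finset.sum_congr rfl this, Finset.sum_const, smul_eq_mul]
  -- the three equations over `ℕ`
  have E1 : F₁.card * m χ₁ ^ 2 + F₂.card * m χ₂ ^ 2 + m W ^ 2 + m W ^ 2 = T ^ 2 := by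
    have := hsum (fun χ => m χ ^ 2)
    rw [N.sum_mm, hsF1 (fun a _ _ => a ^ 2), hsF2 (fun a _ _ => a ^ 2), hrest0,
      Finset.sum_empty, hmW] at this
    omega
  have E2 : F₁.card * (m χ₁ * n₁ χ₁) + F₂.card * (m χ₂ * n₁ χ₂) + m W * n₁ W + m W * n₂ W =
      T * (T ^ 2 - 1) := by
    have := hsum (fun χ => m χ * n₁ χ)
    rw [N.sum_mn₁, hsF1 (fun a b _ => a * b), hsF2 (fun a b _ => a * b), hrest0,
      Finset.sum_empty, hmW, hn1W] at this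
    omega
  have E3 : F₁.card * n₁ χ₁ ^ 2 + F₂.card * n₁ χ₂ ^ 2 + n₁ W ^ 2 + n₂ W ^ 2 =
      1 + T ^ 2 * (T ^ 2 - 1) := by
    have := hsum (fun χ => n₁ χ ^ 2)
    rw [N.sum_n₁n₁, hsF1 (fun _ b _ => b ^ 2), hsF2 (fun _ b _ => b ^ 2), hrest0,
      Finset.sum_empty, hn1W] at this
    omega
  -- cast to `ℤ`
  have hT1 : 1 ≤ T := by omega
  have hT2 : 1 ≤ T ^ 2 := Nat.one_le_pow _ _ (by omega)
  have H1z : 2 * (F₁.card : ℤ) = (T : ℤ) * ((T : ℤ) + 1) := by exact_mod_cast hcF1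
  have H2z : 2 * (F₂.card : ℤ) = (T : ℤ) * ((T : ℤ) - 1) := by
    have : ((T - 1 : ℕ) : ℤ) = (T : ℤ) - 1 := by push_cast [hT1]; ring
    rw [← this]
    exact_mod_cast hcF2
  have hsubz : ((T ^ 2 - 1 : ℕ) : ℤ) = (T : ℤ) ^ 2 - 1 := by push_cast [hT2]; ring
  have E1z : (F₁.card : ℤ) * (m χ₁ : ℤ) ^ 2 + (F₂.card : ℤ) * (m χ₂ : ℤ) ^ 2 + (m W : ℤ) ^ 2 +
      (m W : ℤ) ^ 2 = (T : ℤ) ^ 2 := by exact_mod_cast E1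
  have E2z : (F₁.card : ℤ) * ((m χ₁ : ℤ) * (n₁ χ₁ : ℤ)) + (F₂.card : ℤ) * ((m χ₂ : ℤ) * (n₁ χ₂ : ℤ)) +
      (m W : ℤ) * (n₁ W : ℤ) + (m W : ℤ) * (n₂ W : ℤ) = (T : ℤ) * ((T : ℤ) ^ 2 - 1) := by
    rw [← hsubz]
    exact_mod_cast E2
  have E3z : (F₁.card : ℤ) * (n₁ χ₁ : ℤ) ^ 2 + (F₂.card : ℤ) * (n₁ χ₂ : ℤ) ^ 2 + (n₁ W : ℤ) ^ 2 +
      (n₂ W : ℤ) ^ 2 = 1 + (T : ℤ) ^ 2 * ((T : ℤ) ^ 2 - 1) := by
    rw [← hsubz]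
    exact_mod_cast E3
  have hirr : 2 * (m W : ℤ) ^ 2 ≠ (T : ℤ) ^ 2 := by
    obtain ⟨k, -, rfl⟩ := hT
    have := two_mul_sq_ne_pow k (m W)
    exact_mod_cast this
  obtain ⟨hu1, hv1, hu2, hv2, hw, hab⟩ := dioph_large_int (by exact_mod_cast h4)
    (Int.natCast_nonneg _) (Int.natCast_nonneg _) (Int.natCast_nonneg _) (Int.natCast_nonneg _)
    (Int.natCast_nonneg _) (Int.natCast_nonneg _) (Int.natCast_nonneg _) hirr H1z H2z E1z E2z E3z hD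
  -- back to `ℕ`
  have hμ₁ : m χ₁ = 1 := by exact_mod_cast hu1
  have hμ₂ : m χ₂ = 1 := by exact_mod_cast hu2
  have hν₁ : n₁ χ₁ + 1 = T := by
    have : ((n₁ χ₁ + 1 : ℕ) : ℤ) = (T : ℤ) := by push_cast; linarith
    exact_mod_cast this
  have hν₂ : n₁ χ₂ = T + 1 := by exact_mod_cast hv2
  have hω : m W = 0 := by exact_mod_cast hw
  have hab' : n₁ W + n₂ W = 1 := by exact_mod_cast hab
  have h2T : 2 * T ≤ 2 * T ^ 2 := by nlinarith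
  -- degrees
  have hdF1 : ∀ χ ∈ F₁, d χ = (2 * T ^ 2 - 1) * (2 * T ^ 2 - 2 * T + 1) := by
    intro χ hχ
    rw [N.deg χ (N.F₁R hχ)]
    congr 1
    obtain ⟨e1, e2, e3⟩ := N.const₁ χ hχ χ₁ hχ₁
    rw [e1, e2, e3, ← hF1 χ₁ hχ₁, hμ₁]
    have : 2 * T ^ 2 = 2 * T + T * (n₁ χ₁ + n₁ χ₁) := by
      rw [← hν₁]; ring
    omega
  have hdF2 : ∀ χ ∈ F₂, d χ = (2 * T ^ 2 - 1) * (2 * T ^ 2 + 2 * T + 1) := by
    intro χ hχ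
    rw [N.deg χ (N.F₂R hχ)]
    congr 1
    obtain ⟨e1, e2, e3⟩ := N.const₂ χ hχ χ₂ hχ₂
    rw [e1, e2, e3, ← hF2 χ₂ hχ₂, hμ₂, hν₂]
    ring
  have hdW : d W = (2 * T ^ 2 - 1) * T := by
    rw [N.deg W hWR, hω, hab']
    ring
  have hdW' : d W' = (2 * T ^ 2 - 1) * T := by
    rw [N.deg W' hW'R, hmW, hω, hn1W, hn2W, add_comm (n₂ W), hab']
    ring
  refine ⟨?_, ⟨χ₁, N.F₁R hχ₁, hdF1 χ₁ hχ₁⟩, ⟨χ₂, N.F₂R hχ₂, hdF2 χ₂ hχ₂⟩, ⟨W, hWR, hdW⟩⟩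
  intro χ hχ
  have := hRsub hχ
  rw [Finset.mem_union, Finset.mem_union, Finset.mem_insert, Finset.mem_singleton] at this
  rcases this with (h | h) | (rfl | rfl)
  · exact Or.inl (hdF1 χ h)
  · exact Or.inr (Or.inl (hdF2 χ h))
  · exact Or.inr (Or.inr hdW)
  · exact Or.inr (Or.inr hdW')

end Cfsg.Agent.Helper52.Szc
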