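import Mathlib
import Cfsg.Agent.Helper6.SzChar0
import Cfsg.Agent.Helper52.SzcArith
import Cfsg.Agent.Helper52.SzcDecomp

/-!
# Piece [DB] of helper6's S4775: the Diophantine analysis for `T = 2`.
-/

set_option autoImplicit false

namespace Cfsg.Agent.Helper52.Szc

open Cfsg.Agent.Helper6

universe u

/-- DB: the Diophantine analysis, `T = 2` -/
theorem szc_dioph_small {ι : Type u} [DecidableEq ι] {R : Finset ι} {d m n₁ n₂ : ι → ℕ}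
    {cj : ι → ι} {F₁ F₂ : Finset ι} (N : SzNum 2 R d m n₁ n₂ cj F₁ F₂) :
    (∀ χ ∈ R, d χ = 35 ∨ d χ = 91 ∨ d χ = 14) ∧
    (∃ χ ∈ R, d χ = 35) ∧ (∃ χ ∈ R, d χ = 91) ∧ (∃ χ ∈ R, d χ = 14) := by
  have hcF1 : F₁.card = 3 := by
    have := N.cardF₁
    omega
  have hF2e : F₂ = ∅ := N.F₂empty (by norm_num)
  obtain ⟨W, W', hWR, hW'R, hne, hmW, hn1W, hn2W, hD, hF1, -, hrest, hcard, hsum⟩ :=
    decomp N (by omega) (Or.inl hF2e)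
  have hRcard : R.card = 6 := by
    have := N.card
    norm_num at this
    exact this
  have hrest1 : (R \ (F₁ ∪ F₂ ∪ {W, W'})).card = 1 := by
    have hc0 : F₂.card = 0 := by rw [hF2e, Finset.card_empty]
    omega
  obtain ⟨Z, hZ⟩ := Finset.card_eq_one.mp hrest1
  have hZmem : Z ∈ R \ (F₁ ∪ F₂ ∪ {W, W'}) := by rw [hZ]; exact Finset.mem_singleton_self Z
  have hZR : Z ∈ R := (Finset.mem_sdiff.mp hZmem).1
  have hZn : n₁ Z = n₂ Z := hrest Z hZmem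
  obtain ⟨χ₁, hχ₁⟩ : F₁.Nonempty := Finset.card_pos.mp (by omega)
  have hsF1 : ∀ g : ℕ → ℕ → ℕ → ℕ, ∑ χ ∈ F₁, g (m χ) (n₁ χ) (n₂ χ) =
      3 * g (m χ₁) (n₁ χ₁) (n₂ χ₁) := by
    intro g
    have : ∀ χ ∈ F₁, g (m χ) (n₁ χ) (n₂ χ) = g (m χ₁) (n₁ χ₁) (n₂ χ₁) := by
      intro χ hχ
      obtain ⟨e1, e2, e3⟩ := N.const₁ χ hχ χ₁ hχ₁
      rw [e1, e2, e3]
    rw [Finset.sum_congr rfl this, Finset.sum_const, smul_eq_mul, hcF1]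
  have E1 : 3 * m χ₁ ^ 2 + m W ^ 2 + m W ^ 2 + m Z ^ 2 = 4 := by
    have := hsum (fun χ => m χ ^ 2)
    rw [N.sum_mm, hsF1 (fun a _ _ => a ^ 2), hZ, Finset.sum_singleton, hmW, hF2e,
      Finset.sum_empty] at this
    omega
  have E2 : 3 * (m χ₁ * n₁ χ₁) + m W * n₁ W + m W * n₂ W + m Z * n₁ Z = 6 := by
    have := hsum (fun χ => m χ * n₁ χ)
    rw [N.sum_mn₁, hsF1 (fun a b _ => a * b), hZ, Finset.sum_singleton, hmW, hn1W, hF2e,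
      Finset.sum_empty] at this
    omega
  have E3 : 3 * n₁ χ₁ ^ 2 + n₁ W ^ 2 + n₂ W ^ 2 + n₁ Z ^ 2 = 13 := by
    have := hsum (fun χ => n₁ χ ^ 2)
    rw [N.sum_n₁n₁, hsF1 (fun _ b _ => b ^ 2), hZ, Finset.sum_singleton, hn1W, hF2e,
      Finset.sum_empty] at this
    omega
  have hd1 : 7 * (m χ₁ + 2 * (n₁ χ₁ + n₁ χ₁)) ∣ 29120 := by
    have h1 := N.dvd χ₁ (N.F₁R hχ₁)
    rw [N.deg χ₁ (N.F₁R hχ₁), ← hF1 χ₁ hχ₁] at h1
    norm_num at h1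
    exact h1
  have hd2 : 7 * (m Z + 2 * (n₁ Z + n₁ Z)) ∣ 29120 := by
    have h1 := N.dvd Z hZR
    rw [N.deg Z hZR, ← hZn] at h1
    norm_num at h1
    exact h1
  obtain ⟨hμ, hν, hω, hab, hζ, hy⟩ := dioph_small_nat E1 E2 E3 hD hd1 hd2
  have hdF1 : ∀ χ ∈ F₁, d χ = 35 := by
    intro χ hχ
    rw [N.deg χ (N.F₁R hχ)]
    obtain ⟨e1, e2, e3⟩ := N.const₁ χ hχ χ₁ hχ₁
    rw [e1, e2, e3, ← hF1 χ₁ hχ₁, hμ, hν]
    norm_num
  have hdW : d W = 14 := by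
    rw [N.deg W hWR, hω, hab]
    norm_num
  have hdW' : d W' = 14 := by
    rw [N.deg W' hW'R, hmW, hω, hn1W, hn2W, add_comm (n₂ W), hab]
    norm_num
  have hdZ : d Z = 91 := by
    rw [N.deg Z hZR, ← hZn, hζ, hy]
    norm_num
  refine ⟨?_, ⟨χ₁, N.F₁R hχ₁, hdF1 χ₁ hχ₁⟩, ⟨Z, hZR, hdZ⟩, ⟨W, hWR, hdW⟩⟩
  intro χ hχ
  by_cases hU : χ ∈ F₁ ∪ F₂ ∪ {W, W'}
  · rw [Finset.mem_union, Finset.mem_union, Finset.mem_insert, Finset.mem_singleton] at hU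
    rcases hU with (h | h) | (rfl | rfl)
    · exact Or.inl (hdF1 χ h)
    · rw [hF2e] at h
      exact absurd h (Finset.notMem_empty χ)
    · exact Or.inr (Or.inr hdW)
    · exact Or.inr (Or.inr hdW')
  · have : χ ∈ R \ (F₁ ∪ F₂ ∪ {W, W'}) := Finset.mem_sdiff.mpr ⟨hχ, hU⟩
    rw [hZ, Finset.mem_singleton] at this
    rw [this]
    exact Or.inr (Or.inl hdZ)

end Cfsg.Agent.Helper52.Szc
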