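import Mathlib
import Cfsg.Agent.Helper52.PerfectCore

/-!
# 2-groups with exactly three involutions, part A (helper52)

Set-up for S3117: the involutions commute pairwise; a perfect group `P` of automorphisms that acts
trivially on every proper invariant subgroup containing the involutions (the context `Ctx`);
the basic "trivial modulo" lemma.
-/

set_option autoImplicit false

namespace Cfsg.Agent.Helper52.ThreeInv

open Subgroup

variable {X : Type*} [Group X] [Finite X]

/-- In a `2`-group with exactly three involutions, some involution is central. -/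
theorem exists_central_involution (hX : IsPGroup 2 X)
    (h3 : Nat.card {x : X // orderOf x = 2} = 3) :
    ∃ z : X, z ∈ center X ∧ orderOf z = 2 := by
  have hp2 : Fact (Nat.Prime 2) := ⟨Nat.prime_two⟩
  have hne : Nonempty {x : X // orderOf x = 2} := by
    by_contra hcon
    rw [not_nonempty_iff] at hcon
    have : Nat.card {x : X // orderOf x = 2} = 0 := Nat.card_of_isEmpty
    omega
  obtain ⟨⟨t, ht⟩⟩ := hne
  have hnt : Nontrivial X := ⟨⟨t, 1, fun h => by rw [h, orderOf_one] at ht; omega⟩⟩
  have hcn : Nontrivial (center X) := hX.center_nontrivial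
  have hd : 2 ∣ Nat.card (center X) := by
    obtain ⟨n, hn0, hn⟩ := (hX.to_subgroup (center X)).nontrivial_iff_card.mp hcn
    rw [hn]; exact dvd_pow_self _ (by omega)
  obtain ⟨z, hz⟩ := exists_prime_orderOf_dvd_card' 2 hd
  exact ⟨z.1, z.2, by rw [Subgroup.orderOf_coe]; exact hz⟩

/-- In a `2`-group with exactly three involutions, any two involutions commute. -/
theorem involutions_commute (hX : IsPGroup 2 X) (h3 : Nat.card {x : X // orderOf x = 2} = 3)
    {s t : X} (hs : orderOf s = 2) (ht : orderOf t = 2) : s * t = t * s := by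
  classical
  have := Fintype.ofFinite X
  obtain ⟨z, hzc, hz⟩ := exists_central_involution hX h3
  rw [mem_center_iff] at hzc
  by_cases hsz : s = z
  · rw [hsz]; exact (hzc t).symm
  have hs2 : s ^ 2 = 1 := by rw [← hs]; exact pow_orderOf_eq_one s
  have hz2 : z ^ 2 = 1 := by rw [← hz]; exact pow_orderOf_eq_one z
  have hs1 : s ≠ 1 := fun h => by rw [h, orderOf_one] at hs; omega
  have hz1 : z ≠ 1 := fun h => by rw [h, orderOf_one] at hz; omega
  have hszc : s * z = z * s := hzc s
  have hsz2 : (s * z) ^ 2 = 1 := by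
    rw [pow_two, mul_assoc, ← mul_assoc z s z, ← hszc, mul_assoc, ← pow_two z, hz2, mul_one,
      ← pow_two, hs2]
  have hsz1 : s * z ≠ 1 := by
    intro h
    have : s = z := by
      have h1 : s * z = z * z := by rw [h, ← pow_two, hz2]
      exact mul_right_cancel h1
    exact hsz this
  have hszo : orderOf (s * z) = 2 := orderOf_eq_prime hsz2 hsz1
  let I : Finset X := Finset.univ.filter (fun x => orderOf x = 2)
  have hI : I.card = 3 := by
    rw [← h3, Nat.card_eq_fintype_card, Fintype.card_subtype]
  have hsub : ({z, s, s * z} : Finset X) ⊆ I := by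
    intro x hx
    simp only [Finset.mem_insert, Finset.mem_singleton] at hx
    simp only [I, Finset.mem_filter, Finset.mem_univ, true_and]
    rcases hx with rfl | rfl | rfl
    · exact hz
    · exact hs
    · exact hszo
  have hcard : ({z, s, s * z} : Finset X).card = 3 := by
    rw [Finset.card_insert_of_notMem, Finset.card_insert_of_notMem, Finset.card_singleton]
    · simp only [Finset.mem_singleton]
      intro h
      exact hz1 (by simpa using h.symm)
    · simp only [Finset.mem_insert, Finset.mem_singleton, not_or]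
      refine ⟨fun h => hsz h.symm, ?_⟩
      intro h
      exact hs1 (by simpa using h.symm)
  have heq : ({z, s, s * z} : Finset X) = I :=
    Finset.eq_of_subset_of_card_le hsub (by rw [hI, hcard])
  have htI : t ∈ I := by
    simp only [I, Finset.mem_filter, Finset.mem_univ, true_and]; exact ht
  rw [← heq] at htI
  simp only [Finset.mem_insert, Finset.mem_singleton] at htI
  rcases htI with rfl | rfl | rfl
  · exact hzc s
  · rfl
  · rw [← mul_assoc, ← pow_two, hs2, one_mul, hszc, mul_assoc, ← pow_two, hs2, mul_one]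

/-- The working context: a nontrivial perfect group `P` of automorphisms of a `2`-group `X` with
three involutions, acting trivially on every proper `P`-invariant subgroup containing all the
involutions. -/
structure Ctx (X : Type*) [Group X] [Finite X] (P : Subgroup (MulAut X)) : Prop where
  pgroup : IsPGroup 2 X
  three : Nat.card {x : X // orderOf x = 2} = 3
  perfect : _root_.commutator P = ⊤
  ne_bot : P ≠ ⊥
  fix : ∀ Y : Subgroup X, (∀ g ∈ P, ∀ y ∈ Y, g y ∈ Y) → (∀ x : X, orderOf x = 2 → x ∈ Y) →
    Y ≠ ⊤ → ∀ g ∈ P, ∀ y ∈ Y, g y = y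

variable {P : Subgroup (MulAut X)}

/-- The restriction homomorphism to an invariant subgroup. -/
def restrictHom (P : Subgroup (MulAut X)) (Y : Subgroup X) (hY : ∀ g ∈ P, ∀ y ∈ Y, g y ∈ Y) :
    P →* MulAut Y where
  toFun g :=
    { toFun := fun y => ⟨g.1 y.1, hY g.1 g.2 y.1 y.2⟩
      invFun := fun y => ⟨g.1⁻¹ y.1, hY g.1⁻¹ (inv_mem g.2) y.1 y.2⟩
      left_inv := fun y => Subtype.ext (by simp)
      right_inv := fun y => Subtype.ext (by simp)
      map_mul' := fun y y' => Subtype.ext (by simp) }
  map_one' := by ext y; rfl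
  map_mul' := fun g g' => by ext y; rfl

/-- If `Aut Y` is solvable then a perfect `P` leaving `Y` invariant fixes `Y` pointwise. -/
theorem fix_of_solvable (hperf : _root_.commutator P = ⊤) (Y : Subgroup X)
    (hY : ∀ g ∈ P, ∀ y ∈ Y, g y ∈ Y) (hsol : Group.IsSolvable (MulAut Y)) :
    ∀ g ∈ P, ∀ y ∈ Y, g y = y := by
  intro g hg y hy
  have h1 := PerfectCore.hom_eq_one_of_perfect hperf (restrictHom P Y hY) ⟨g, hg⟩
  have h2 := congrArg (fun σ : MulAut Y => ((σ ⟨y, hy⟩ : Y) : X)) h1
  simpa [restrictHom] using h2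

/-- The involutions of a subgroup containing all involutions of `X`. -/
theorem card_involutions_subgroup (Y : Subgroup X) (hY : ∀ x : X, orderOf x = 2 → x ∈ Y) :
    Nat.card {y : Y // orderOf y = 2} = Nat.card {x : X // orderOf x = 2} := by
  refine Nat.card_congr ⟨fun y => ⟨y.1.1, by rw [Subgroup.orderOf_coe]; exact y.2⟩,
    fun x => ⟨⟨x.1, hY x.1 x.2⟩, by rw [← Subgroup.orderOf_coe]; exact x.2⟩, ?_, ?_⟩
  · intro y; rfl
  · intro x; rfl

/-- If `P` fixes a subgroup `N` pointwise and acts trivially modulo `N`, contradiction. -/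
theorem Ctx.false_of_trivial_mod (c : Ctx X P) (N : Subgroup X)
    (h1 : ∀ g ∈ P, ∀ n ∈ N, g n = n) (h2 : ∀ g ∈ P, ∀ x : X, x⁻¹ * g x ∈ N) : False := by
  have hp2 : Fact (Nat.Prime 2) := ⟨Nat.prime_two⟩
  obtain ⟨m, hm⟩ := c.pgroup.exists_card_eq
  have hpow : ∀ g ∈ P, ∀ x : X, ∀ k : ℕ, (g ^ k) x = x * (x⁻¹ * g x) ^ k := by
    intro g hg x k
    induction k with
    | zero => simp
    | succ k ih =>
      rw [pow_succ', MulAut.mul_apply, ih, map_mul, map_pow, h1 g hg _ (h2 g hg x),
        pow_succ' (x⁻¹ * g x) k, ← mul_assoc, mul_inv_cancel_left]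
  have hPp : IsPGroup 2 P := by
    intro g
    refine ⟨m, ?_⟩
    apply Subtype.ext
    rw [Subgroup.coe_pow, Subgroup.coe_one]
    ext x
    rw [hpow g.1 g.2 x, ← hm, pow_card_eq_one', mul_one]
    rfl
  have hnil : Group.IsNilpotent P := hPp.isNilpotent
  have hsol : Group.IsSolvable P := inferInstance
  apply c.ne_bot
  rw [Subgroup.eq_bot_iff_forall]
  intro g hg
  have := PerfectCore.eq_one_of_perfect_of_solvable c.perfect ⟨g, hg⟩
  exact congrArg Subtype.val this

/-- `P` fixes every involution. -/
theorem Ctx.fix_involution (c : Ctx X P) {t : X} (ht : orderOf t = 2) {g : MulAut X}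
    (hg : g ∈ P) : g t = t := by
  classical
  have := Fintype.ofFinite X
  have hsub : MulAction.orbit P t ⊆ {x : X | orderOf x = 2} := by
    rintro _ ⟨h, rfl⟩
    show orderOf (h.1 t) = 2
    rw [MulEquiv.orderOf_eq]; exact ht
  have hcard : Nat.card (MulAction.orbit P t) ≤ 4 := by
    have h1 : Nat.card (MulAction.orbit P t) ≤ Nat.card {x : X // orderOf x = 2} :=
      Nat.card_mono (Set.toFinite _) hsub
    rw [c.three] at h1
    omega
  have := PerfectCore.smul_eq_of_card_orbit_le_four c.perfect t hcard ⟨g, hg⟩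
  exact this

/-- All involutions are central. -/
theorem Ctx.involution_mem_center (c : Ctx X P) {t : X} (ht : orderOf t = 2) : t ∈ center X := by
  set C : Subgroup X := centralizer {x : X | orderOf x = 2} with hC
  have hinv : ∀ g ∈ P, ∀ y ∈ C, g y ∈ C := by
    intro g hg y hy
    rw [hC, mem_centralizer_iff] at hy ⊢
    intro s hs
    have hs' : orderOf (g⁻¹ s) = 2 := by rw [MulEquiv.orderOf_eq]; exact hs
    have h1 := hy (g⁻¹ s) hs'
    have h2 := congrArg g h1
    simpa using h2
  have hT3 : ∀ x : X, orderOf x = 2 → x ∈ C := by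
    intro x hx
    rw [hC, mem_centralizer_iff]
    intro s hs
    exact involutions_commute c.pgroup c.three hs hx
  by_cases htop : C = ⊤
  · rw [mem_center_iff]
    intro x
    have hx : x ∈ C := by rw [htop]; trivial
    rw [hC, mem_centralizer_iff] at hx
    exact (hx t ht).symm
  · exfalso
    have hfix := c.fix C hinv hT3 htop
    refine c.false_of_trivial_mod C hfix ?_
    intro g hg x
    rw [hC, mem_centralizer_iff]
    intro s hs
    have hs' : orderOf (x * s * x⁻¹) = 2 := by
      have : x * s * x⁻¹ = MulAut.conj x s := rfl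
      rw [this, MulEquiv.orderOf_eq]; exact hs
    have h1 : g (x * s * x⁻¹) = x * s * x⁻¹ := c.fix_involution hs' hg
    have h2 : g s = s := c.fix_involution hs hg
    rw [map_mul, map_mul, h2, map_inv] at h1
    -- `g x * s * (g x)⁻¹ = x * s * x⁻¹`
    have h3 : s * (x⁻¹ * g x) = x⁻¹ * (x * s * x⁻¹) * g x := by group
    rw [h3, ← h1]; group

end Cfsg.Agent.Helper52.ThreeInv
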