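import Mathlib
import Cfsg.Agent.Helper52.ThreeInvA
import Cfsg.Agent.Helper63.Class2Exp4

/-!
# 2-groups with exactly three involutions, part B (helper52)

Reduction: in the context `Ctx X P`, the involutions are central, squares and commutators square
to `1`, and `|X| ≤ 64`.
-/

set_option autoImplicit false

namespace Cfsg.Agent.Helper52.ThreeInv

open Subgroup
open scoped commutatorElement

variable {X : Type*} [Group X] [Finite X] {P : Subgroup (MulAut X)}

theorem Ctx.mem_center_of_sq_eq_one (c : Ctx X P) {x : X} (hx : x ^ 2 = 1) : x ∈ center X := by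
  by_cases h1 : x = 1
  · rw [h1]; exact one_mem _
  · exact c.involution_mem_center (orderOf_eq_prime hx h1)

theorem Ctx.fix_of_sq_eq_one (c : Ctx X P) {x : X} (hx : x ^ 2 = 1) {g : MulAut X} (hg : g ∈ P) :
    g x = x := by
  by_cases h1 : x = 1
  · rw [h1, map_one]
  · exact c.fix_involution (orderOf_eq_prime hx h1) hg

/-- Central principle: a proper invariant normal subgroup containing the involutions is central. -/
theorem Ctx.le_center_of_invariant (c : Ctx X P) (M : Subgroup X) [hMn : M.Normal]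
    (hinv : ∀ g ∈ P, ∀ y ∈ M, g y ∈ M) (hT3 : ∀ x : X, orderOf x = 2 → x ∈ M) (hM : M ≠ ⊤) :
    M ≤ center X := by
  set C : Subgroup X := centralizer (M : Set X) with hC
  have hCinv : ∀ g ∈ P, ∀ y ∈ C, g y ∈ C := by
    intro g hg y hy
    rw [hC, mem_centralizer_iff] at hy ⊢
    intro m hm
    have hm' : g⁻¹ m ∈ M := hinv g⁻¹ (inv_mem hg) m hm
    have h2 := congrArg g (hy (g⁻¹ m) hm')
    simpa using h2
  have hCT3 : ∀ x : X, orderOf x = 2 → x ∈ C := by
    intro x hx
    rw [hC, mem_centralizer_iff]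
    intro m _
    exact mem_center_iff.mp (c.involution_mem_center hx) m
  by_cases htop : C = ⊤
  · intro m hm
    rw [mem_center_iff]
    intro x
    have hx : x ∈ C := by rw [htop]; trivial
    rw [hC, mem_centralizer_iff] at hx
    exact (hx m hm).symm
  · exfalso
    have hfixM := c.fix M hinv hT3 hM
    have hfixC := c.fix C hCinv hCT3 htop
    refine c.false_of_trivial_mod C hfixC ?_
    intro g hg x
    rw [hC, mem_centralizer_iff]
    intro m hm
    have hm' : x * m * x⁻¹ ∈ M := hMn.conj_mem m hm x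
    have h1 : g (x * m * x⁻¹) = x * m * x⁻¹ := hfixM g hg _ hm'
    rw [map_mul, map_mul, hfixM g hg m hm, map_inv] at h1
    have h3 : m * (x⁻¹ * g x) = x⁻¹ * (x * m * x⁻¹) * g x := by group
    rw [h3, ← h1]; group

/-- The subgroup of elements of order dividing `2`. -/
def Ctx.omega (c : Ctx X P) : Subgroup X where
  carrier := {x | x ^ 2 = 1}
  mul_mem' := by
    intro a b ha hb
    have hac := mem_center_iff.mp (c.mem_center_of_sq_eq_one ha)
    show (a * b) ^ 2 = 1
    have ha' : a * a = 1 := by rw [← pow_two]; exact ha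
    have hb' : b * b = 1 := by rw [← pow_two]; exact hb
    rw [pow_two, mul_assoc, ← mul_assoc b a b, hac b, mul_assoc a b b, hb', mul_one, ha']
  one_mem' := one_pow 2
  inv_mem' := by
    intro a ha
    show a⁻¹ ^ 2 = 1
    rw [inv_pow, show a ^ 2 = 1 from ha, inv_one]

theorem Ctx.mem_omega (c : Ctx X P) {x : X} : x ∈ c.omega ↔ x ^ 2 = 1 := Iff.rfl

theorem Ctx.omega_le_center (c : Ctx X P) : c.omega ≤ center X :=
  fun _ hx => c.mem_center_of_sq_eq_one hx

theorem Ctx.omega_normal (c : Ctx X P) : (c.omega).Normal := by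
  refine ⟨fun n hn g => ?_⟩
  have := mem_center_iff.mp (c.omega_le_center hn) g
  rw [this, mul_inv_cancel_right]
  exact hn

theorem Ctx.card_sq_eq_one (c : Ctx X P) : Nat.card {x : X // x ^ 2 = 1} = 4 := by
  classical
  have := Fintype.ofFinite X
  have h3 := c.three
  rw [Nat.card_eq_fintype_card, Fintype.card_subtype] at h3 ⊢
  have : (Finset.univ.filter fun x : X => x ^ 2 = 1) =
      insert 1 (Finset.univ.filter fun x : X => orderOf x = 2) := by
    ext x
    simp only [Finset.mem_filter, Finset.mem_univ, true_and, Finset.mem_insert]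
    constructor
    · intro hx
      by_cases h1 : x = 1
      · exact Or.inl h1
      · exact Or.inr (orderOf_eq_prime hx h1)
    · rintro (rfl | hx)
      · exact one_pow 2
      · rw [← hx]; exact pow_orderOf_eq_one x
  rw [this, Finset.card_insert_of_notMem, h3]
  simp

theorem Ctx.card_omega (c : Ctx X P) : Nat.card c.omega = 4 := c.card_sq_eq_one

/-- `Ω₁(X)` is a proper subgroup. -/
theorem Ctx.omega_ne_top (c : Ctx X P) : c.omega ≠ ⊤ := by
  intro htop
  apply c.ne_bot
  rw [Subgroup.eq_bot_iff_forall]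
  intro g hg
  ext x
  have hx : x ∈ c.omega := by rw [htop]; trivial
  exact c.fix_of_sq_eq_one hx hg

theorem comm_sq_aux {G : Type*} [Group G] (x y : G)
    (h1 : (x * y * x⁻¹ * y⁻¹) * x = x * (x * y * x⁻¹ * y⁻¹)) (h2 : x * x * y = y * (x * x)) :
    (x * y * x⁻¹ * y⁻¹) * (x * y * x⁻¹ * y⁻¹) = 1 := by
  calc (x * y * x⁻¹ * y⁻¹) * (x * y * x⁻¹ * y⁻¹)
      = ((x * y * x⁻¹ * y⁻¹) * x) * (y * x⁻¹ * y⁻¹) := by group
    _ = (x * (x * y * x⁻¹ * y⁻¹)) * (y * x⁻¹ * y⁻¹) := by rw [h1]
    _ = (x * x * y) * (x⁻¹ * x⁻¹ * y⁻¹) := by group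
    _ = (y * (x * x)) * (x⁻¹ * x⁻¹ * y⁻¹) := by rw [h2]
    _ = 1 := by group

theorem mul_pow_four_aux {G : Type*} [Group G] (x y : G)
    (hd : y * x * y⁻¹ * x⁻¹ ∈ center G) (hdd : (y * x * y⁻¹ * x⁻¹) ^ 2 = 1)
    (hx : x ^ 2 ∈ center G) (hy : y ^ 2 ∈ center G) : (x * y) ^ 4 = x ^ 4 * y ^ 4 := by
  have hdc := mem_center_iff.mp hd
  have h2 : (x * y) ^ 2 = (y * x * y⁻¹ * x⁻¹) * (x ^ 2 * y ^ 2) := by
    calc (x * y) ^ 2 = x * (y * x * y⁻¹ * x⁻¹) * x * y * y := by rw [pow_two]; group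
      _ = (y * x * y⁻¹ * x⁻¹) * x * x * y * y := by rw [hdc x]
      _ = (y * x * y⁻¹ * x⁻¹) * (x ^ 2 * y ^ 2) := by rw [pow_two, pow_two]; group
  have hc1 : Commute (y * x * y⁻¹ * x⁻¹) (x ^ 2 * y ^ 2) := (hdc _).symm
  have hc2 : Commute (x ^ 2) (y ^ 2) := mem_center_iff.mp hy _
  rw [show (x * y) ^ 4 = ((x * y) ^ 2) ^ 2 by rw [← pow_mul], h2, hc1.mul_pow, hc2.mul_pow, hdd,
    one_mul, ← pow_mul, ← pow_mul]

/-- The reduced structure. -/
structure Red (X : Type*) [Group X] [Finite X] (P : Subgroup (MulAut X)) : Prop where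
  ctx : Ctx X P
  sq_sq : ∀ x : X, (x ^ 2) ^ 2 = 1
  comm_sq : ∀ x y : X, ⁅x, y⁆ ^ 2 = 1

/-- The reduction theorem. -/
theorem Ctx.red (c : Ctx X P) : Red X P := by
  have hp2 : Fact (Nat.Prime 2) := ⟨Nat.prime_two⟩
  have hΩn : (c.omega).Normal := c.omega_normal
  set M : Subgroup X := c.omega ⊔ frattini X with hM
  have hMn : M.Normal := inferInstance
  have hMne : M ≠ ⊤ := fun h => c.omega_ne_top (frattini_nongenerating h)
  have hMinv : ∀ g ∈ P, ∀ y ∈ M, g y ∈ M := by
    intro g hg y hy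
    have h1 : M.map g.toMonoidHom ≤ M := by
      rw [hM, Subgroup.map_sup]
      refine sup_le (le_trans ?_ le_sup_left) (le_trans ?_ le_sup_right)
      · rintro _ ⟨x, hx, rfl⟩
        show (g x) ^ 2 = 1
        rw [← map_pow, show x ^ 2 = 1 from hx, map_one]
      · exact Subgroup.characteristic_iff_map_le.mp inferInstance g
    exact h1 ⟨y, hy, rfl⟩
  have hMT3 : ∀ x : X, orderOf x = 2 → x ∈ M := by
    intro x hx
    refine le_sup_left (a := c.omega) ?_
    show x ^ 2 = 1
    rw [← hx]; exact pow_orderOf_eq_one x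
  have hMc : M ≤ center X := c.le_center_of_invariant M hMinv hMT3 hMne
  have hMfix := c.fix M hMinv hMT3 hMne
  have hsqM : ∀ x : X, x ^ 2 ∈ M := fun x =>
    le_sup_right (a := c.omega) (Cfsg.Agent.Helper63.pow_prime_mem_frattini c.pgroup x)
  have hcommM : ∀ x y : X, ⁅x, y⁆ ∈ M := fun x y =>
    le_sup_right (a := c.omega)
      (Cfsg.Agent.Helper63.commutator_le_frattini_of_isPGroup_two c.pgroup
        (by rw [_root_.commutator_def]
            exact Subgroup.commutator_mem_commutator (mem_top x) (mem_top y)))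
  have hcomm2 : ∀ x y : X, ⁅x, y⁆ ^ 2 = 1 := by
    intro x y
    rw [commutatorElement_def, pow_two]
    refine comm_sq_aux x y ?_ ?_
    · have := mem_center_iff.mp (hMc (hcommM x y)) x
      rw [commutatorElement_def] at this
      exact this.symm
    · have := mem_center_iff.mp (hMc (hsqM x)) y
      rw [pow_two] at this
      exact this.symm
  have hpow4 : ∀ x y : X, (x * y) ^ 4 = x ^ 4 * y ^ 4 := by
    intro x y
    refine mul_pow_four_aux x y ?_ ?_ (hMc (hsqM x)) (hMc (hsqM y))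
    · have := hMc (hcommM y x); rwa [commutatorElement_def] at this
    · have := hcomm2 y x; rwa [commutatorElement_def] at this
  let Y4 : Subgroup X :=
    { carrier := {x | x ^ 4 = 1}
      mul_mem' := by
        intro a b ha hb
        show (a * b) ^ 4 = 1
        rw [hpow4, show a ^ 4 = 1 from ha, show b ^ 4 = 1 from hb, one_mul]
      one_mem' := one_pow 4
      inv_mem' := by
        intro a ha
        show a⁻¹ ^ 4 = 1
        rw [inv_pow, show a ^ 4 = 1 from ha, inv_one] }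
  have hY4inv : ∀ g ∈ P, ∀ y ∈ Y4, g y ∈ Y4 := by
    intro g hg y hy
    show (g y) ^ 4 = 1
    rw [← map_pow, show y ^ 4 = 1 from hy, map_one]
  have hY4T3 : ∀ x : X, orderOf x = 2 → x ∈ Y4 := by
    intro x hx
    show x ^ 4 = 1
    have : x ^ 2 = 1 := by rw [← hx]; exact pow_orderOf_eq_one x
    rw [show 4 = 2 * 2 from rfl, pow_mul, this, one_pow]
  have hY4top : Y4 = ⊤ := by
    by_contra hne
    have hfix := c.fix Y4 hY4inv hY4T3 hne
    refine c.false_of_trivial_mod Y4 hfix ?_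
    intro g hg x
    show (x⁻¹ * g x) ^ 4 = 1
    rw [hpow4, ← map_pow, show x ^ 4 = (x ^ 2) ^ 2 by rw [← pow_mul], map_pow,
      hMfix g hg _ (hsqM x), inv_pow, ← pow_mul, inv_mul_cancel]
  refine ⟨c, ?_, hcomm2⟩
  intro x
  have hx : x ∈ Y4 := by rw [hY4top]; trivial
  rw [← pow_mul]
  exact hx

theorem Red.sq_mem_center (r : Red X P) (x : X) : x ^ 2 ∈ center X :=
  r.ctx.mem_center_of_sq_eq_one (r.sq_sq x)

theorem Red.comm_mem_center (r : Red X P) (x y : X) : ⁅x, y⁆ ∈ center X :=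
  r.ctx.mem_center_of_sq_eq_one (r.comm_sq x y)

/-- The order bound: `|X| · |Z(X)| ≤ 2 ^ 8`. -/
theorem Red.card_bound (r : Red X P) :
    ∃ g z' : ℕ, Nat.card X = 2 ^ g ∧ Nat.card (center X) = 2 ^ z' ∧ 2 ≤ z' ∧ g + z' ≤ 8 := by
  have hp2 : Fact (Nat.Prime 2) := ⟨Nat.prime_two⟩
  have c := r.ctx
  obtain ⟨g, hg⟩ := c.pgroup.exists_card_eq
  obtain ⟨z', hz'⟩ := (c.pgroup.to_subgroup (center X)).exists_card_eq
  have hkey := Cfsg.Agent.Helper63.key_bound c.pgroup (Φ := c.omega) c.omega_le_center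
    (fun a ha => ha) (fun x => r.sq_sq x) (fun x y => r.comm_sq x y) hg hz'
    (z := 2) (n := 2) (by rw [c.card_omega]; norm_num) (by rw [c.card_sq_eq_one]; norm_num)
  have h2 : 2 ≤ z' := by
    have h1 : Nat.card c.omega ∣ Nat.card (center X) := Subgroup.card_dvd_of_le c.omega_le_center
    rw [c.card_omega, hz', show 4 = 2 ^ 2 from rfl] at h1
    exact (Nat.pow_dvd_pow_iff_le_right (le_refl 2)).mp h1
  exact ⟨g, z', hg, hz', h2, by omega⟩

end Cfsg.Agent.Helper52.ThreeInv
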