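import Mathlib
import Cfsg.Agent.Helper52.ThreeInvB

/-!
# 2-groups with exactly three involutions, part C (helper52)

The fixed subgroup `C` of `P`, the action of `P` on `X ⧸ C`, the orbit bound, `C = Ω`, and the
existence of square roots of each involution.
-/

set_option autoImplicit false

namespace Cfsg.Agent.Helper52.ThreeInv

open Subgroup MulAction
open scoped commutatorElement

variable {X : Type*} [Group X] [Finite X] {P : Subgroup (MulAut X)}

/-- The fixed points of `P`. -/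
def fixedSubgroup (P : Subgroup (MulAut X)) : Subgroup X where
  carrier := {x | ∀ g ∈ P, g x = x}
  mul_mem' := by
    intro a b ha hb g hg
    rw [map_mul, ha g hg, hb g hg]
  one_mem' := fun g _ => map_one g
  inv_mem' := by
    intro a ha g hg
    rw [map_inv, ha g hg]

theorem mem_fixedSubgroup {x : X} : x ∈ fixedSubgroup P ↔ ∀ g ∈ P, g x = x := Iff.rfl

instance quotientAction_fixed : MulAction.QuotientAction P (fixedSubgroup P) where
  inv_mul_mem := by
    intro b a a' h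
    have hb : (b : MulAut X) (a⁻¹ * a') = a⁻¹ * a' := h b.1 b.2
    have : (b • a)⁻¹ * b • a' = a⁻¹ * a' := by
      show ((b : MulAut X) a)⁻¹ * (b : MulAut X) a' = a⁻¹ * a'
      rw [← map_inv, ← map_mul, hb]
    rw [this]; exact h

theorem smul_mk (g : P) (x : X) :
    g • (x : X ⧸ fixedSubgroup P) = (((g : MulAut X) x : X) : X ⧸ fixedSubgroup P) := rfl

theorem Red.omega_le_fixed (r : Red X P) : r.ctx.omega ≤ fixedSubgroup P :=
  fun _ hx _ hg => r.ctx.fix_of_sq_eq_one hx hg

theorem Red.involution_mem_fixed (r : Red X P) {x : X} (hx : orderOf x = 2) :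
    x ∈ fixedSubgroup P :=
  fun _ hg => r.ctx.fix_involution hx hg

theorem Red.fixed_ne_top (r : Red X P) : fixedSubgroup P ≠ ⊤ := by
  intro htop
  apply r.ctx.ne_bot
  rw [Subgroup.eq_bot_iff_forall]
  intro g hg
  ext x
  have hx : x ∈ fixedSubgroup P := by rw [htop]; trivial
  exact hx g hg

theorem Red.le_fixed (r : Red X P) (Y : Subgroup X) (hinv : ∀ g ∈ P, ∀ y ∈ Y, g y ∈ Y)
    (hT3 : ∀ x : X, orderOf x = 2 → x ∈ Y) (hne : Y ≠ ⊤) : Y ≤ fixedSubgroup P :=
  fun y hy g hg => r.ctx.fix Y hinv hT3 hne g hg y hy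

theorem Red.fixed_normal (r : Red X P) : (fixedSubgroup P).Normal := by
  refine ⟨fun n hn x => ?_⟩
  have h1 : x * n * x⁻¹ = ⁅x, n⁆ * n := by rw [commutatorElement_def]; group
  rw [h1]
  exact mul_mem (r.omega_le_fixed (show ⁅x, n⁆ ∈ r.ctx.omega from r.comm_sq x n)) hn

theorem Red.fixed_le_center (r : Red X P) : fixedSubgroup P ≤ center X := by
  have := r.fixed_normal
  exact r.ctx.le_center_of_invariant (fixedSubgroup P)
    (fun g hg y hy => by rw [hy g hg]; exact hy) (fun x hx => r.involution_mem_fixed hx)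
    r.fixed_ne_top

/-- Claim 3: `P` has no nontrivial fixed point on `X ⧸ C`. -/
theorem Red.mem_fixed_of_forall (r : Red X P) (x : X)
    (hx : ∀ g ∈ P, x⁻¹ * g x ∈ fixedSubgroup P) : x ∈ fixedSubgroup P := by
  have := r.fixed_normal
  set T : Subgroup X := ⨅ g : P, MonoidHom.eqLocus (QuotientGroup.mk' (fixedSubgroup P))
    ((QuotientGroup.mk' (fixedSubgroup P)).comp (g : MulAut X).toMonoidHom) with hT
  have hmem : ∀ y : X, y ∈ T ↔ ∀ g ∈ P, y⁻¹ * g y ∈ fixedSubgroup P := by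
    intro y
    rw [hT, Subgroup.mem_iInf]
    constructor
    · intro h g hg
      have := h ⟨g, hg⟩
      exact QuotientGroup.eq.mp this
    · intro h g
      exact QuotientGroup.eq.mpr (h g.1 g.2)
  have hTinv : ∀ h ∈ P, ∀ y ∈ T, h y ∈ T := by
    intro h hh y hy
    rw [hmem] at hy ⊢
    intro g hg
    have hk := hy (h⁻¹ * g * h) (mul_mem (mul_mem (inv_mem hh) hg) hh)
    have hfix := hk h hh
    have e : h (y⁻¹ * (h⁻¹ * g * h) y) = (h y)⁻¹ * g (h y) := by
      simp [MulAut.mul_apply]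
    rw [← e, hfix]
    exact hk
  have hTC : fixedSubgroup P ≤ T := by
    intro y hy
    rw [hmem]
    intro g hg
    rw [hy g hg, inv_mul_cancel]
    exact one_mem _
  have hT3 : ∀ y : X, orderOf y = 2 → y ∈ T := fun y hy => hTC (r.involution_mem_fixed hy)
  have hTne : T ≠ ⊤ := by
    intro htop
    refine r.ctx.false_of_trivial_mod (fixedSubgroup P) (fun g hg n hn => hn g hg) ?_
    intro g hg y
    have hy : y ∈ T := by rw [htop]; trivial
    exact (hmem y).mp hy g hg
  exact r.le_fixed T hTinv hT3 hTne ((hmem x).mpr hx)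

/-- The orbit bound. -/
theorem Red.card_orbit (r : Red X P) {x : X} (hx : x ∉ fixedSubgroup P) :
    5 ≤ Nat.card (orbit P (x : X ⧸ fixedSubgroup P)) := by
  by_contra hlt
  push Not at hlt
  apply hx
  refine r.mem_fixed_of_forall x (fun g hg => ?_)
  have h1 := PerfectCore.smul_eq_of_card_orbit_le_four r.ctx.perfect
    (x : X ⧸ fixedSubgroup P) (by omega) ⟨g, hg⟩
  rw [smul_mk] at h1
  exact QuotientGroup.eq.mp h1.symm

theorem Red.exists_notMem_fixed (r : Red X P) : ∃ x : X, x ∉ fixedSubgroup P := by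
  by_contra hcon
  push Not at hcon
  exact r.fixed_ne_top ((Subgroup.eq_top_iff' _).mpr hcon)

theorem Red.six_le_card_quot (r : Red X P) : 6 ≤ Nat.card (X ⧸ fixedSubgroup P) := by
  obtain ⟨x, hx⟩ := r.exists_notMem_fixed
  have h5 := r.card_orbit hx
  rw [Nat.card_coe_set_eq] at h5
  have hfin : (orbit P (x : X ⧸ fixedSubgroup P)).Finite := Set.toFinite _
  have h1 : ((1 : X) : X ⧸ fixedSubgroup P) ∉ orbit P (x : X ⧸ fixedSubgroup P) := by
    rintro ⟨g, hg⟩
    apply hx
    have hg' : g • (x : X ⧸ fixedSubgroup P) = ((1 : X) : X ⧸ fixedSubgroup P) := hg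
    rw [smul_mk] at hg'
    have h2 := QuotientGroup.eq.mp hg'
    rw [mul_one] at h2
    have h3 : (g : MulAut X) x ∈ fixedSubgroup P := by simpa using inv_mem h2
    have h4 := h3 (g : MulAut X)⁻¹ (inv_mem g.2)
    have h5 : (g : MulAut X)⁻¹ ((g : MulAut X) x) = x := by simp
    rw [h5] at h4
    rw [h4]; exact h3
  have h6 := Set.ncard_insert_of_notMem h1 hfin
  have h7 : (insert ((1 : X) : X ⧸ fixedSubgroup P) (orbit P (x : X ⧸ fixedSubgroup P))).ncard ≤
      Nat.card (X ⧸ fixedSubgroup P) := Set.ncard_le_card _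
  omega

/-- `C = Ω`, and `|X : C| ∈ {8, 16}`. -/
theorem Red.fixed_eq_omega (r : Red X P) :
    fixedSubgroup P = r.ctx.omega ∧
      ∃ k : ℕ, Nat.card (X ⧸ fixedSubgroup P) = 2 ^ k ∧ 3 ≤ k ∧ k ≤ 4 := by
  obtain ⟨g, z', hg, hz', h2, hsum⟩ := r.card_bound
  have hidx := Subgroup.card_mul_index (fixedSubgroup P)
  rw [Subgroup.index_eq_card] at hidx
  have h6 := r.six_le_card_quot
  have hCZ : Nat.card (fixedSubgroup P) ∣ Nat.card (center X) :=
    Subgroup.card_dvd_of_le r.fixed_le_center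
  rw [hz'] at hCZ
  obtain ⟨c', hc'z, hc'⟩ := (Nat.dvd_prime_pow Nat.prime_two).mp hCZ
  have hΩC : Nat.card r.ctx.omega ∣ Nat.card (fixedSubgroup P) :=
    Subgroup.card_dvd_of_le r.omega_le_fixed
  rw [r.ctx.card_omega, hc', show 4 = 2 ^ 2 from rfl] at hΩC
  have h2c' : 2 ≤ c' := (Nat.pow_dvd_pow_iff_le_right (le_refl 2)).mp hΩC
  have hVX : Nat.card (X ⧸ fixedSubgroup P) ∣ Nat.card X := Dvd.intro_left _ hidx
  rw [hg] at hVX
  obtain ⟨k, hkg, hk⟩ := (Nat.dvd_prime_pow Nat.prime_two).mp hVX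
  have h3k : 3 ≤ k := by
    by_contra hlt
    push Not at hlt
    have : 2 ^ k ≤ 2 ^ 2 := Nat.pow_le_pow_right (by norm_num) (by omega)
    omega
  rw [hc', hk, hg, ← pow_add] at hidx
  have hadd : c' + k = g := Nat.pow_right_injective (le_refl 2) hidx
  have hc'2 : c' = 2 := by omega
  refine ⟨?_, k, hk, h3k, by omega⟩
  symm
  refine Subgroup.eq_of_le_of_card_ge r.omega_le_fixed ?_
  rw [r.ctx.card_omega, hc', hc'2]
  norm_num

theorem Red.mem_fixed_iff (r : Red X P) (x : X) : x ∈ fixedSubgroup P ↔ x ^ 2 = 1 := by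
  rw [r.fixed_eq_omega.1]; exact Iff.rfl

/-- Two elements of `Ω` outside `{1, a}` have product in `{1, a}`. -/
theorem Ctx.mul_bad (c : Ctx X P) {a s t : X} (ha : orderOf a = 2) (hs : s ^ 2 = 1)
    (ht : t ^ 2 = 1) (hs1 : s ≠ 1) (hsa : s ≠ a) (ht1 : t ≠ 1) (hta : t ≠ a) :
    s * t = 1 ∨ s * t = a := by
  classical
  by_contra hcon
  push Not at hcon
  have := Fintype.ofFinite X
  have h4 := c.card_sq_eq_one
  rw [Nat.card_eq_fintype_card, Fintype.card_subtype] at h4
  have ha1 : a ≠ 1 := by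
    intro h; rw [h, orderOf_one] at ha; norm_num at ha
  have hst : s ≠ t := by
    intro h
    apply hcon.1
    rw [h, ← pow_two]; exact ht
  have hsub : ({1, a, s, t, s * t} : Finset X) ⊆ Finset.univ.filter (fun x : X => x ^ 2 = 1) := by
    intro x hx
    simp only [Finset.mem_insert, Finset.mem_singleton] at hx
    simp only [Finset.mem_filter, Finset.mem_univ, true_and]
    rcases hx with rfl | rfl | rfl | rfl | rfl
    · exact one_pow 2
    · rw [← ha]; exact pow_orderOf_eq_one _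
    · exact hs
    · exact ht
    · exact (c.omega).mul_mem hs ht
  have hcard : ({1, a, s, t, s * t} : Finset X).card = 5 := by
    rw [Finset.card_insert_of_notMem, Finset.card_insert_of_notMem, Finset.card_insert_of_notMem,
      Finset.card_insert_of_notMem, Finset.card_singleton]
    · simp only [Finset.mem_singleton]
      intro h
      exact hs1 (by simpa using h)
    · simp only [Finset.mem_insert, Finset.mem_singleton]
      rintro (h | h)
      · exact hst h
      · exact ht1 (by simpa using h)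
    · simp only [Finset.mem_insert, Finset.mem_singleton]
      rintro (h | h | h)
      · exact hsa h.symm
      · exact hta h.symm
      · exact hcon.2 h.symm
    · simp only [Finset.mem_insert, Finset.mem_singleton]
      rintro (h | h | h | h)
      · exact ha1 h.symm
      · exact hs1 h.symm
      · exact ht1 h.symm
      · exact hcon.1 h.symm
  have := Finset.card_le_card hsub
  omega

theorem exists_notMem_finset {α : Type*} [Finite α] [DecidableEq α] (s : Finset α)
    (h : s.card < Nat.card α) : ∃ v, v ∉ s := by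
  have := Fintype.ofFinite α
  rw [Nat.card_eq_fintype_card, ← Finset.card_univ] at h
  obtain ⟨e, _, he⟩ := Finset.exists_mem_notMem_of_card_lt_card h
  exact ⟨e, he⟩

/-- Every involution is a square (needs `|X : Ω| ≥ 8`). -/
theorem Red.exists_sq_eq (r : Red X P) {a : X} (ha : orderOf a = 2) : ∃ x : X, x ^ 2 = a := by
  classical
  by_contra hno
  push Not at hno
  have c := r.ctx
  have := r.fixed_normal
  obtain ⟨-, k, hk, h3k, -⟩ := r.fixed_eq_omega
  have h8 : 8 ≤ Nat.card (X ⧸ fixedSubgroup P) := by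
    rw [hk]
    calc 8 = 2 ^ 3 := rfl
      _ ≤ 2 ^ k := Nat.pow_le_pow_right (by norm_num) h3k
  have hsqbad : ∀ x : X, x ∉ fixedSubgroup P → x ^ 2 ≠ 1 ∧ x ^ 2 ≠ a := by
    intro x hx
    exact ⟨fun h => hx ((r.mem_fixed_iff x).mpr h), hno x⟩
  -- for good pairs the commutator is not bad
  have hκ : ∀ x y : X, x ∉ fixedSubgroup P → y ∉ fixedSubgroup P → x * y ∉ fixedSubgroup P →
      ⁅x⁻¹, y⁆ ≠ 1 ∧ ⁅x⁻¹, y⁆ ≠ a := by
    intro x y hx hy hxy
    have h1 := hsqbad x hx
    have h2 := hsqbad y hy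
    have h3 := hsqbad (x * y) hxy
    have hprod := c.mul_bad ha (r.sq_sq x) (r.sq_sq y) h1.1 h1.2 h2.1 h2.2
    have hcen := mem_center_iff.mp (r.comm_mem_center x⁻¹ y)
    have hexp : (x * y) ^ 2 = ⁅x⁻¹, y⁆ * (x ^ 2 * y ^ 2) := by
      calc (x * y) ^ 2 = x * (x * ⁅x⁻¹, y⁆) * y * y := by
            rw [commutatorElement_def, pow_two]; group
        _ = x * (⁅x⁻¹, y⁆ * x) * y * y := by rw [hcen x]
        _ = (x * ⁅x⁻¹, y⁆) * x * y * y := by group
        _ = (⁅x⁻¹, y⁆ * x) * x * y * y := by rw [hcen x]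
        _ = ⁅x⁻¹, y⁆ * (x ^ 2 * y ^ 2) := by rw [pow_two, pow_two]; group
    have ha2 : a * a = 1 := by rw [← pow_two, ← ha]; exact pow_orderOf_eq_one _
    constructor
    · intro hk1
      rw [hk1, one_mul] at hexp
      rcases hprod with hp | hp
      · exact h3.1 (hexp.trans hp)
      · exact h3.2 (hexp.trans hp)
    · intro hka
      rw [hka] at hexp
      rcases hprod with hp | hp
      · rw [hp, mul_one] at hexp; exact h3.2 hexp
      · rw [hp, ha2] at hexp; exact h3.1 hexp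
  -- choose three independent elements
  obtain ⟨v₁, hv₁⟩ := exists_notMem_finset ({1} : Finset (X ⧸ fixedSubgroup P))
    (by rw [Finset.card_singleton]; omega)
  obtain ⟨v₂, hv₂⟩ := exists_notMem_finset ({1, v₁⁻¹} : Finset (X ⧸ fixedSubgroup P))
    (lt_of_le_of_lt Finset.card_le_two (by omega))
  obtain ⟨v₃, hv₃⟩ := exists_notMem_finset
    ({1, v₁⁻¹, v₂⁻¹, (v₁ * v₂)⁻¹} : Finset (X ⧸ fixedSubgroup P))
    (lt_of_le_of_lt Finset.card_le_four (by omega))
  simp only [Finset.mem_insert, Finset.mem_singleton, not_or] at hv₁ hv₂ hv₃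
  obtain ⟨x, rfl⟩ := QuotientGroup.mk_surjective v₁
  obtain ⟨y, rfl⟩ := QuotientGroup.mk_surjective v₂
  obtain ⟨z, rfl⟩ := QuotientGroup.mk_surjective v₃
  have hnm : ∀ w : X, (w : X ⧸ fixedSubgroup P) ≠ 1 → w ∉ fixedSubgroup P :=
    fun w hw hmem => hw ((QuotientGroup.eq_one_iff w).mpr hmem)
  have hmulne : ∀ u w : X, (w : X ⧸ fixedSubgroup P) ≠ (u : X ⧸ fixedSubgroup P)⁻¹ →
      u * w ∉ fixedSubgroup P := by
    intro u w hne hmem
    apply hne
    have : ((u * w : X) : X ⧸ fixedSubgroup P) = 1 := (QuotientGroup.eq_one_iff _).mpr hmem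
    rw [QuotientGroup.mk_mul] at this
    exact eq_inv_of_mul_eq_one_right this
  have hx := hnm x hv₁
  have hy := hnm y hv₂.1
  have hz := hnm z hv₃.1
  have hxy := hmulne x y hv₂.2
  have hxz := hmulne x z hv₃.2.1
  have hyz := hmulne y z hv₃.2.2.1
  have hxyz : x * (y * z) ∉ fixedSubgroup P := by
    rw [← mul_assoc]
    refine hmulne (x * y) z ?_
    rw [QuotientGroup.mk_mul]
    exact hv₃.2.2.2
  have k1 := hκ x y hx hy hxy
  have k2 := hκ x z hx hz hxz
  have k3 := hκ x (y * z) hx hyz hxyz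
  have hcen2 := mem_center_iff.mp (r.comm_mem_center x⁻¹ z)
  have hbil : ⁅x⁻¹, y * z⁆ = ⁅x⁻¹, z⁆ * ⁅x⁻¹, y⁆ := by
    calc ⁅x⁻¹, y * z⁆ = (x⁻¹ * y * x) * ⁅x⁻¹, z⁆ * y⁻¹ := by
          simp only [commutatorElement_def]; group
      _ = ⁅x⁻¹, z⁆ * (x⁻¹ * y * x) * y⁻¹ := by rw [hcen2 (x⁻¹ * y * x)]
      _ = ⁅x⁻¹, z⁆ * ⁅x⁻¹, y⁆ := by simp only [commutatorElement_def]; group
  have hbad := c.mul_bad ha (r.comm_sq x⁻¹ z) (r.comm_sq x⁻¹ y) k2.1 k2.2 k1.1 k1.2
  rw [← hbil] at hbad
  rcases hbad with h | h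
  · exact k3.1 h
  · exact k3.2 h

end Cfsg.Agent.Helper52.ThreeInv
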