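import Mathlib
import Cfsg.Agent.Helper52.ThreeInvC
import Cfsg.Agent.Lib.BurnsidePQ

/-!
# 2-groups with exactly three involutions, part D (helper52)

The final counting argument: the fibres of the squaring map on `X ⧸ Ω`, fixed points of elements
of prime order, and Burnside's `p^a q^b` theorem.
-/

set_option autoImplicit false

namespace Cfsg.Agent.Helper52.ThreeInv

open Subgroup MulAction
open scoped commutatorElement

variable {X : Type*} [Group X] [Finite X] {P : Subgroup (MulAut X)}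

/-- The squaring map on the quotient. -/
noncomputable def sqV (q : X ⧸ fixedSubgroup P) : X := (Quotient.out q) ^ 2

theorem Red.sqV_mk (r : Red X P) (x : X) : sqV (x : X ⧸ fixedSubgroup P) = x ^ 2 := by
  unfold sqV
  have h1 : ((Quotient.out (x : X ⧸ fixedSubgroup P) : X) : X ⧸ fixedSubgroup P) = x :=
    QuotientGroup.out_eq' _
  generalize Quotient.out (x : X ⧸ fixedSubgroup P) = y at h1
  have h2 : y⁻¹ * x ∈ fixedSubgroup P := QuotientGroup.eq.mp h1
  have hw2 : (y⁻¹ * x) ^ 2 = 1 := (r.mem_fixed_iff _).mp h2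
  have hcomm : Commute y (y⁻¹ * x) := mem_center_iff.mp (r.fixed_le_center h2) y
  have hx : x ^ 2 = (y * (y⁻¹ * x)) ^ 2 := by rw [mul_inv_cancel_left]
  rw [hx, hcomm.mul_pow, hw2, mul_one]

theorem Red.sqV_sq (r : Red X P) (q : X ⧸ fixedSubgroup P) : sqV q ^ 2 = 1 := by
  induction q using QuotientGroup.induction_on with
  | H x => rw [r.sqV_mk]; exact r.sq_sq x

theorem Red.sqV_eq_one_iff (r : Red X P) (q : X ⧸ fixedSubgroup P) :
    sqV q = 1 ↔ q = ((1 : X) : X ⧸ fixedSubgroup P) := by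
  induction q using QuotientGroup.induction_on with
  | H x =>
    rw [r.sqV_mk, ← r.mem_fixed_iff, QuotientGroup.eq]
    constructor
    · intro h; simpa using inv_mem h
    · intro h; simpa using inv_mem h

theorem Red.sqV_smul (r : Red X P) (g : P) (q : X ⧸ fixedSubgroup P) : sqV (g • q) = sqV q := by
  induction q using QuotientGroup.induction_on with
  | H x =>
    rw [smul_mk, r.sqV_mk, r.sqV_mk, ← map_pow]
    exact r.ctx.fix_of_sq_eq_one (r.sq_sq x) g.2

/-- Congruence for the fixed points of an element of prime order on a stable subset. -/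
theorem card_modEq_card_fixed {G α : Type*} [Group G] [MulAction G α] [Finite α] (σ : G) {n : ℕ}
    [Fact n.Prime] (hσ : orderOf σ = n) (p : α → Prop) (hp : ∀ (g : G) (q : α), p q → p (g • q)) :
    Nat.card {q : α // p q} ≡ Nat.card {q : α // p q ∧ σ • q = q} [MOD n] := by
  have hZ : IsPGroup n (zpowers σ) :=
    IsPGroup.of_card (n := 1) (by rw [Nat.card_zpowers, hσ, pow_one])
  letI : MulAction (zpowers σ) {q : α // p q} :=
    { smul := fun z q => ⟨(z : G) • q.1, hp z q.1 q.2⟩
      one_smul := fun q => Subtype.ext (one_smul G q.1)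
      mul_smul := fun z w q => Subtype.ext (mul_smul (z : G) (w : G) q.1) }
  have h := hZ.card_modEq_card_fixedPoints {q : α // p q}
  have hfix : ∀ (z : zpowers σ) (q : α), σ • q = q → (z : G) • q = q := by
    intro z q hq
    have hle : zpowers σ ≤ stabilizer G q := zpowers_le.mpr (mem_stabilizer_iff.mpr hq)
    exact mem_stabilizer_iff.mp (hle z.2)
  have e : fixedPoints (zpowers σ) {q : α // p q} ≃ {q : α // p q ∧ σ • q = q} :=
    { toFun := fun t => ⟨t.1.1, t.1.2, congrArg Subtype.val (t.2 ⟨σ, mem_zpowers σ⟩)⟩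
      invFun := fun q => ⟨⟨q.1, q.2.1⟩, fun z => Subtype.ext (hfix z q.1 q.2.2)⟩
      left_inv := fun t => rfl
      right_inv := fun q => rfl }
  rwa [Nat.card_congr e] at h

/-- Decomposition of a subset of `X ⧸ Ω` along the fibres of the squaring map. -/
theorem Red.card_decomp (r : Red X P) (p : X ⧸ fixedSubgroup P → Prop)
    (hp1 : p ((1 : X) : X ⧸ fixedSubgroup P)) (S3 : Finset X)
    (hS3 : ∀ x, x ∈ S3 ↔ orderOf x = 2) :
    Nat.card {q : X ⧸ fixedSubgroup P // p q} =
      1 + ∑ a ∈ S3, Nat.card {q : X ⧸ fixedSubgroup P // sqV q = a ∧ p q} := by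
  classical
  have := Fintype.ofFinite X
  have := Fintype.ofFinite (X ⧸ fixedSubgroup P)
  have hcard : ∀ p' : X ⧸ fixedSubgroup P → Prop,
      Nat.card {q : X ⧸ fixedSubgroup P // p' q} = (Finset.univ.filter p').card := by
    intro p'
    rw [Nat.card_eq_fintype_card, Fintype.card_subtype]
  rw [hcard]
  have hmaps : Set.MapsTo sqV ((Finset.univ.filter p : Finset (X ⧸ fixedSubgroup P)) : Set (X ⧸ fixedSubgroup P))
      ((insert 1 S3 : Finset X) : Set X) := by
    intro q _
    rw [Finset.mem_coe, Finset.mem_insert, hS3]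
    by_cases h1 : sqV q = 1
    · exact Or.inl h1
    · exact Or.inr (orderOf_eq_prime (r.sqV_sq q) h1)
  rw [Finset.card_eq_sum_card_fiberwise hmaps, Finset.sum_insert]
  · congr 1
    · rw [Finset.card_eq_one]
      refine ⟨((1 : X) : X ⧸ fixedSubgroup P), ?_⟩
      ext q
      simp only [Finset.mem_filter, Finset.mem_univ, true_and, Finset.mem_singleton]
      constructor
      · rintro ⟨_, hq⟩; exact (r.sqV_eq_one_iff q).mp hq
      · rintro rfl; exact ⟨hp1, (r.sqV_eq_one_iff _).mpr rfl⟩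
    · refine Finset.sum_congr rfl (fun a _ => ?_)
      rw [hcard, Finset.filter_filter]
      congr 1
      ext q
      simp only [Finset.mem_filter, Finset.mem_univ, true_and]
      exact and_comm
  · rw [hS3, orderOf_one]; norm_num

/-- Lower bound for the fibres. -/
theorem Red.five_le_fib (r : Red X P) {a : X} (ha : orderOf a = 2) :
    5 ≤ Nat.card {q : X ⧸ fixedSubgroup P // sqV q = a} := by
  obtain ⟨x, hx⟩ := r.exists_sq_eq ha
  have hxC : x ∉ fixedSubgroup P := by
    intro h
    have h1 := (r.mem_fixed_iff x).mp h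
    rw [hx] at h1
    rw [h1, orderOf_one] at ha
    norm_num at ha
  have h5 := r.card_orbit hxC
  refine le_trans h5 ?_
  have hsub : orbit P (x : X ⧸ fixedSubgroup P) ⊆ {q : X ⧸ fixedSubgroup P | sqV q = a} := by
    rintro _ ⟨g, rfl⟩
    show sqV (g • (x : X ⧸ fixedSubgroup P)) = a
    rw [r.sqV_smul, r.sqV_mk, hx]
  have := Set.ncard_le_ncard hsub (Set.toFinite _)
  rwa [← Nat.card_coe_set_eq, ← Nat.card_coe_set_eq] at this

theorem smul_mul_quot [(fixedSubgroup P).Normal] (g : P) (q₁ q₂ : X ⧸ fixedSubgroup P) :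
    g • (q₁ * q₂) = g • q₁ * g • q₂ := by
  induction q₁ using QuotientGroup.induction_on with
  | H x =>
    induction q₂ using QuotientGroup.induction_on with
    | H y =>
      rw [← QuotientGroup.mk_mul, smul_mk, smul_mk, smul_mk, map_mul, QuotientGroup.mk_mul]

theorem smul_one_quot (g : P) :
    g • ((1 : X) : X ⧸ fixedSubgroup P) = ((1 : X) : X ⧸ fixedSubgroup P) := by
  rw [smul_mk, map_one]

theorem smul_inv_quot [(fixedSubgroup P).Normal] (g : P) (q : X ⧸ fixedSubgroup P) :
    g • q⁻¹ = (g • q)⁻¹ := by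
  induction q using QuotientGroup.induction_on with
  | H x =>
    rw [← QuotientGroup.mk_inv, smul_mk, smul_mk, map_inv, QuotientGroup.mk_inv]

/-- The fixed points of `σ` on the quotient form a subgroup. -/
def fixV [(fixedSubgroup P).Normal] (σ : P) : Subgroup (X ⧸ fixedSubgroup P) where
  carrier := {q | σ • q = q}
  mul_mem' := by
    intro a b ha hb
    have ha' : σ • a = a := ha
    have hb' : σ • b = b := hb
    show σ • (a * b) = a * b
    rw [smul_mul_quot, ha', hb']
  one_mem' := smul_one_quot σ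
  inv_mem' := by
    intro a ha
    have ha' : σ • a = a := ha
    show σ • a⁻¹ = a⁻¹
    rw [smul_inv_quot, ha']

/-- The only primes dividing `|P|` are `2` and `5`. -/
theorem Red.no_prime (r : Red X P) (S3 : Finset X) (hS3 : ∀ x, x ∈ S3 ↔ orderOf x = 2)
    (hS3c : S3.card = 3)
    (hfib : ∀ a ∈ S3, Nat.card {q : X ⧸ fixedSubgroup P // sqV q = a} = 5)
    (hV : Nat.card (X ⧸ fixedSubgroup P) = 16)
    (σ : P) {n : ℕ} (hn : n.Prime) (hσ : orderOf σ = n) : n = 2 ∨ n = 5 := by
  by_contra hcon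
  push Not at hcon
  have hnorm := r.fixed_normal
  haveI : Fact n.Prime := ⟨hn⟩
  have hφ : ∀ a ∈ S3, 2 ≤ Nat.card {q : X ⧸ fixedSubgroup P // sqV q = a ∧ σ • q = q} := by
    intro a ha
    have h1 := card_modEq_card_fixed σ hσ (fun q : X ⧸ fixedSubgroup P => sqV q = a)
      (fun g q hq => by rw [r.sqV_smul]; exact hq)
    rw [hfib a ha] at h1
    have hle : Nat.card {q : X ⧸ fixedSubgroup P // sqV q = a ∧ σ • q = q} ≤ 5 := by
      rw [← hfib a ha]
      exact Nat.card_le_card_of_injective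
        (fun q : {q : X ⧸ fixedSubgroup P // sqV q = a ∧ σ • q = q} =>
          (⟨q.1, q.2.1⟩ : {q : X ⧸ fixedSubgroup P // sqV q = a}))
        (fun q₁ q₂ h => by
          have h' := congrArg Subtype.val h
          exact Subtype.ext h')
    by_contra hlt
    push Not at hlt
    have hdvd := (Nat.modEq_iff_dvd' hle).mp h1.symm
    generalize Nat.card {q : X ⧸ fixedSubgroup P // sqV q = a ∧ σ • q = q} = φ at hle hlt hdvd
    interval_cases φ
    · exact hcon.2 ((Nat.prime_dvd_prime_iff_eq hn (by norm_num)).mp hdvd)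
    · have h4 : n ∣ 2 ^ 2 := hdvd
      exact hcon.1 ((Nat.prime_dvd_prime_iff_eq hn Nat.prime_two).mp (hn.dvd_of_dvd_pow h4))
  have hdec := r.card_decomp (fun q => σ • q = q) (smul_one_quot σ) S3 hS3
  have hsum : 6 ≤ ∑ a ∈ S3, Nat.card {q : X ⧸ fixedSubgroup P // sqV q = a ∧ σ • q = q} := by
    have := Finset.card_nsmul_le_sum S3
      (fun a => Nat.card {q : X ⧸ fixedSubgroup P // sqV q = a ∧ σ • q = q}) 2 hφ
    rw [hS3c] at this
    simpa using this
  have hF7 : 7 ≤ Nat.card (fixV σ) := by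
    have : Nat.card (fixV σ) = Nat.card {q : X ⧸ fixedSubgroup P // σ • q = q} := rfl
    omega
  have hdvd16 : Nat.card (fixV σ) ∣ 2 ^ 4 := by
    have := Subgroup.card_subgroup_dvd_card (fixV σ)
    rwa [hV] at this
  obtain ⟨m, hm4, hm⟩ := (Nat.dvd_prime_pow Nat.prime_two).mp hdvd16
  have hmod := card_modEq_card_fixed σ hσ (fun _ : X ⧸ fixedSubgroup P => True)
    (fun _ _ _ => trivial)
  have hVT : Nat.card {q : X ⧸ fixedSubgroup P // True} = 16 := by
    rw [← hV]
    exact Nat.card_congr (Equiv.subtypeUnivEquiv (fun _ => trivial))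
  have hFT : Nat.card {q : X ⧸ fixedSubgroup P // True ∧ σ • q = q} = Nat.card (fixV σ) :=
    Nat.card_congr (Equiv.subtypeEquivRight (fun _ => ⟨fun h => h.2, fun h => ⟨trivial, h⟩⟩))
  rw [hVT, hFT, hm] at hmod
  have hm3 : 3 ≤ m := by
    by_contra hlt
    push Not at hlt
    have : 2 ^ m ≤ 2 ^ 2 := Nat.pow_le_pow_right (by norm_num) (by omega)
    omega
  have hm34 : m = 3 ∨ m = 4 := by omega
  rcases hm34 with rfl | rfl
  · have hdvd := (Nat.modEq_iff_dvd' (by norm_num : 2 ^ 3 ≤ 16)).mp hmod.symm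
    have h8 : n ∣ 2 ^ 3 := hdvd
    exact hcon.1 ((Nat.prime_dvd_prime_iff_eq hn Nat.prime_two).mp (hn.dvd_of_dvd_pow h8))
  · have htop : fixV σ = ⊤ := (Subgroup.card_eq_iff_eq_top _).mp (by rw [hm, hV]; norm_num)
    have hall : ∀ x : X, x⁻¹ * (σ : MulAut X) x ∈ fixedSubgroup P := by
      intro x
      have hx : (x : X ⧸ fixedSubgroup P) ∈ fixV σ := by rw [htop]; trivial
      have hx' : σ • (x : X ⧸ fixedSubgroup P) = x := hx
      rw [smul_mk] at hx'
      exact QuotientGroup.eq.mp hx'.symm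
    have hsq : σ ^ 2 = 1 := by
      apply Subtype.ext
      apply MulEquiv.ext
      intro x
      show ((σ : MulAut X) ^ 2) x = x
      rw [pow_two, MulAut.mul_apply]
      have hw := hall x
      have hwfix : (σ : MulAut X) (x⁻¹ * (σ : MulAut X) x) = x⁻¹ * (σ : MulAut X) x :=
        hw σ.1 σ.2
      have hw2 : (x⁻¹ * (σ : MulAut X) x) ^ 2 = 1 := (r.mem_fixed_iff _).mp hw
      calc (σ : MulAut X) ((σ : MulAut X) x)
          = (σ : MulAut X) (x * (x⁻¹ * (σ : MulAut X) x)) := by rw [mul_inv_cancel_left]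
        _ = (σ : MulAut X) x * (x⁻¹ * (σ : MulAut X) x) := by rw [map_mul, hwfix]
        _ = x * (x⁻¹ * (σ : MulAut X) x) ^ 2 := by rw [pow_two]; group
        _ = x := by rw [hw2, mul_one]
    have hd := orderOf_dvd_of_pow_eq_one hsq
    rw [hσ] at hd
    exact hcon.1 ((Nat.prime_dvd_prime_iff_eq hn Nat.prime_two).mp hd)

/-- The reduced configuration is impossible. -/
theorem Red.false (r : Red X P) : False := by
  classical
  have hnorm := r.fixed_normal
  obtain ⟨-, k, hk, h3k, hk4⟩ := r.fixed_eq_omega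
  have hfinS : {x : X | orderOf x = 2}.Finite := Set.toFinite _
  have hS3 : ∀ x, x ∈ hfinS.toFinset ↔ orderOf x = 2 := fun x => by
    rw [Set.Finite.mem_toFinset]; rfl
  have hS3c : hfinS.toFinset.card = 3 := by
    rw [← Set.ncard_eq_toFinset_card _ hfinS, ← Nat.card_coe_set_eq]; exact r.ctx.three
  generalize hfinS.toFinset = S3 at hS3 hS3c
  have hdec := r.card_decomp (fun _ => True) trivial S3 hS3
  have hVT : Nat.card {q : X ⧸ fixedSubgroup P // True} = Nat.card (X ⧸ fixedSubgroup P) :=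
    Nat.card_congr (Equiv.subtypeUnivEquiv (fun _ => trivial))
  have hfibT : ∀ a, Nat.card {q : X ⧸ fixedSubgroup P // sqV q = a ∧ True} =
      Nat.card {q : X ⧸ fixedSubgroup P // sqV q = a} :=
    fun a => Nat.card_congr (Equiv.subtypeEquivRight (fun _ => ⟨fun h => h.1, fun h => ⟨h, trivial⟩⟩))
  rw [hVT, Finset.sum_congr rfl (fun a _ => hfibT a)] at hdec
  have h5 : ∀ a ∈ S3, 5 ≤ Nat.card {q : X ⧸ fixedSubgroup P // sqV q = a} :=
    fun a ha => r.five_le_fib ((hS3 a).mp ha)
  have hsum15 : 15 ≤ ∑ a ∈ S3, Nat.card {q : X ⧸ fixedSubgroup P // sqV q = a} := by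
    have := Finset.card_nsmul_le_sum S3
      (fun a => Nat.card {q : X ⧸ fixedSubgroup P // sqV q = a}) 5 h5
    rw [hS3c] at this
    simpa using this
  have hV16 : Nat.card (X ⧸ fixedSubgroup P) ≤ 16 := by
    rw [hk]
    calc 2 ^ k ≤ 2 ^ 4 := Nat.pow_le_pow_right (by norm_num) hk4
      _ = 16 := by norm_num
  have hV : Nat.card (X ⧸ fixedSubgroup P) = 16 := by omega
  have hsumeq : ∑ a ∈ S3, Nat.card {q : X ⧸ fixedSubgroup P // sqV q = a} = 15 := by omega
  have hfib : ∀ a ∈ S3, Nat.card {q : X ⧸ fixedSubgroup P // sqV q = a} = 5 := by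
    have h := (Finset.sum_eq_sum_iff_of_le (f := fun _ => 5)
      (g := fun a => Nat.card {q : X ⧸ fixedSubgroup P // sqV q = a}) h5).mp
      (by rw [Finset.sum_const, hS3c, hsumeq]; rfl)
    intro a ha
    exact (h a ha).symm
  have hsolv : Group.IsSolvable P := by
    refine Cfsg.Agent.Lib.isSolvable_of_prime_dvd_card (p := 2) (q := 5) Nat.prime_two
      (by norm_num) ?_
    intro n hn hd
    have : Fact n.Prime := ⟨hn⟩
    obtain ⟨σ, hσ⟩ := exists_prime_orderOf_dvd_card' n hd
    exact r.no_prime S3 hS3 hS3c hfib hV σ hn hσ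
  apply r.ctx.ne_bot
  rw [Subgroup.eq_bot_iff_forall]
  intro g hg
  have := PerfectCore.eq_one_of_perfect_of_solvable r.ctx.perfect ⟨g, hg⟩
  exact congrArg Subtype.val this

theorem Ctx.false (c : Ctx X P) : False := c.red.false

end Cfsg.Agent.Helper52.ThreeInv
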