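-- helper52: an elementary "trace" lemma for Frobenius-like actions on abelian groups, and some
-- bookkeeping on orders of elements and conjugation on abelianizations.
import Mathlib

set_option autoImplicit false

namespace Cfsg.Agent.Helper52

open Finset

section Trace

variable {G₀ : Type*} [Group G₀] {V : Type*} [CommGroup V] (ρ : G₀ →* MulAut V)

/-- **Trace lemma.**  Let `x` normalize the finite subgroup `R`, with the powers `x, …, x^(m-1)` acting
fixed-point-freely on `R`.  If the `x`-trace `v ↦ ∏_{i<m} x^i • v` vanishes identically on the abelian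
group `V`, then the `R`-trace of `v` is `v ^ |R|`. -/
theorem prod_apply_eq_pow_card (R : Subgroup G₀) [Fintype R] (x : G₀) (m : ℕ) (hm : 0 < m)
    (hx : ∀ f ∈ R, x * f * x⁻¹ ∈ R)
    (hfpf : ∀ i, 0 < i → i < m → ∀ c ∈ R, c * x ^ i = x ^ i * c → c = 1)
    (htr : ∀ v : V, ∏ i ∈ range m, ρ (x ^ i) v = 1) (v : V) :
    ∏ f : R, ρ (f : G₀) v = v ^ Fintype.card R := by
  classical
  -- powers of `x` normalize `R`
  have hxi : ∀ (i : ℕ), ∀ f ∈ R, x ^ i * f * (x ^ i)⁻¹ ∈ R := by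
    intro i
    induction i with
    | zero => intro f hf; simpa using hf
    | succ i ih =>
      intro f hf
      have e : x ^ (i + 1) * f * (x ^ (i + 1))⁻¹ = x * (x ^ i * f * (x ^ i)⁻¹) * x⁻¹ := by
        rw [pow_succ']; group
      rw [e]
      exact hx _ (ih f hf)
  -- (1) the total product is trivial
  have h1 : ∏ i ∈ range m, ∏ f : R, ρ ((f : G₀) * x ^ i) v = 1 := by
    rw [Finset.prod_comm]
    apply Finset.prod_eq_one
    intro f _
    have : ∀ i, ρ ((f : G₀) * x ^ i) v = ρ (f : G₀) (ρ (x ^ i) v) := by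
      intro i; rw [map_mul]; rfl
    simp_rw [this]
    rw [← map_prod, htr, map_one]
  -- (2) reindexing for `0 < i < m`
  have h2 : ∀ i, 0 < i → i < m →
      ∏ f : R, ρ ((f : G₀) * x ^ i) v = ∏ f : R, ρ ((f : G₀)⁻¹ * x ^ i * f) v := by
    intro i hi0 him
    let φ : R → R := fun f => ⟨(f : G₀)⁻¹ * (x ^ i * f * (x ^ i)⁻¹), R.mul_mem (R.inv_mem f.2) (hxi i f f.2)⟩
    have hφinj : Function.Injective φ := by
      intro f f' hff
      have h3 : (f : G₀)⁻¹ * (x ^ i * f * (x ^ i)⁻¹) = (f' : G₀)⁻¹ * (x ^ i * f' * (x ^ i)⁻¹) :=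
        congrArg Subtype.val hff
      have h4 : ((f' : G₀) * (f : G₀)⁻¹) * x ^ i = x ^ i * ((f' : G₀) * (f : G₀)⁻¹) := by
        have e1 : (f' : G₀) * (f : G₀)⁻¹ = (x ^ i * f' * (x ^ i)⁻¹) * (x ^ i * f * (x ^ i)⁻¹)⁻¹ := by
          calc (f' : G₀) * (f : G₀)⁻¹
              = (f' : G₀) * ((f : G₀)⁻¹ * (x ^ i * f * (x ^ i)⁻¹)) * (x ^ i * f * (x ^ i)⁻¹)⁻¹ := by
                group
            _ = (f' : G₀) * ((f' : G₀)⁻¹ * (x ^ i * f' * (x ^ i)⁻¹)) * (x ^ i * f * (x ^ i)⁻¹)⁻¹ := by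
                rw [h3]
            _ = (x ^ i * f' * (x ^ i)⁻¹) * (x ^ i * f * (x ^ i)⁻¹)⁻¹ := by group
        have e2 : (x ^ i * f' * (x ^ i)⁻¹) * (x ^ i * f * (x ^ i)⁻¹)⁻¹ =
            x ^ i * ((f' : G₀) * (f : G₀)⁻¹) * (x ^ i)⁻¹ := by group
        rw [e2] at e1
        calc ((f' : G₀) * (f : G₀)⁻¹) * x ^ i
            = (x ^ i * ((f' : G₀) * (f : G₀)⁻¹) * (x ^ i)⁻¹) * x ^ i := by rw [← e1]
          _ = x ^ i * ((f' : G₀) * (f : G₀)⁻¹) := by group
      have h5 := hfpf i hi0 him _ (R.mul_mem f'.2 (R.inv_mem f.2)) h4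
      apply Subtype.ext
      exact (mul_inv_eq_one.mp h5).symm
    have hφbij : Function.Bijective φ := Finite.injective_iff_bijective.mp hφinj
    rw [← hφbij.prod_comp (fun f : R => ρ ((f : G₀) * x ^ i) v)]
    apply Finset.prod_congr rfl
    intro f _
    have : ((φ f : R) : G₀) * x ^ i = (f : G₀)⁻¹ * x ^ i * f := by
      show (f : G₀)⁻¹ * (x ^ i * f * (x ^ i)⁻¹) * x ^ i = _
      group
    rw [this]
  -- (3) split off `i = 0`
  obtain ⟨k, rfl⟩ : ∃ k, m = k + 1 := ⟨m - 1, by omega⟩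
  rw [Finset.prod_range_succ'] at h1
  simp only [pow_zero, mul_one] at h1
  have h3 : ∏ i ∈ range k, ∏ f : R, ρ ((f : G₀) * x ^ (i + 1)) v = (v⁻¹) ^ Fintype.card R := by
    have : ∀ i ∈ range k, ∏ f : R, ρ ((f : G₀) * x ^ (i + 1)) v =
        ∏ f : R, ρ ((f : G₀)⁻¹ * x ^ (i + 1) * f) v := by
      intro i hi
      exact h2 (i + 1) (by omega) (by have := Finset.mem_range.mp hi; omega)
    rw [Finset.prod_congr rfl this, Finset.prod_comm]
    have h4 : ∀ f : R, ∏ i ∈ range k, ρ ((f : G₀)⁻¹ * x ^ (i + 1) * f) v = v⁻¹ := by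
      intro f
      have e : ∀ i, ρ ((f : G₀)⁻¹ * x ^ (i + 1) * f) v =
          ρ ((f : G₀)⁻¹) (ρ (x ^ (i + 1)) (ρ (f : G₀) v)) := by
        intro i; rw [map_mul, map_mul]; rfl
      simp_rw [e]
      rw [← map_prod]
      have h5 := htr (ρ (f : G₀) v)
      rw [Finset.prod_range_succ'] at h5
      simp only [pow_zero, map_one, MulAut.one_apply] at h5
      rw [eq_inv_of_mul_eq_one_left h5, map_inv]
      have : ρ ((f : G₀)⁻¹) (ρ (f : G₀) v) = v := by
        rw [map_inv]; exact (ρ (f : G₀)).symm_apply_apply v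
      rw [this]
    rw [Finset.prod_congr rfl (fun f _ => h4 f), Finset.prod_const, Finset.card_univ]
  rw [h3] at h1
  rw [inv_pow] at h1
  exact (inv_mul_eq_one.mp h1).symm

/-- Under the hypotheses of the trace lemma, if moreover `|R|`-th powers are injective on `V`
(for example `|R|` is prime to `|V|`), then `R` acts trivially on `V`. -/
theorem apply_eq_self_of_trace (R : Subgroup G₀) [Fintype R] (x : G₀) (m : ℕ) (hm : 0 < m)
    (hx : ∀ f ∈ R, x * f * x⁻¹ ∈ R)
    (hfpf : ∀ i, 0 < i → i < m → ∀ c ∈ R, c * x ^ i = x ^ i * c → c = 1)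
    (htr : ∀ v : V, ∏ i ∈ range m, ρ (x ^ i) v = 1)
    (hcop : ∀ v : V, v ^ Fintype.card R = 1 → v = 1) :
    ∀ f ∈ R, ∀ v : V, ρ f v = v := by
  intro f hf v
  have h1 := prod_apply_eq_pow_card ρ R x m hm hx hfpf htr v
  -- the `R`-trace is `R`-invariant
  have h2 : ρ f (∏ g : R, ρ (g : G₀) v) = ∏ g : R, ρ (g : G₀) v := by
    rw [map_prod]
    have : ∀ g : R, ρ f (ρ (g : G₀) v) = ρ (((⟨f, hf⟩ : R) * g : R) : G₀) v := by
      intro g
      rw [Subgroup.coe_mul, map_mul]; rfl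
    simp_rw [this]
    exact (Group.mulLeft_bijective (⟨f, hf⟩ : R)).prod_comp (fun g : R => ρ (g : G₀) v)
  rw [h1, map_pow] at h2
  have h3 : (ρ f v * v⁻¹) ^ Fintype.card R = 1 := by
    rw [mul_pow, h2, inv_pow, mul_inv_cancel]
  exact mul_inv_eq_one.mp (hcop _ h3)

end Trace

section ConjProd

variable {G : Type*} [Group G]

/-- `conjProd h v n = v · (h v h⁻¹) · (h² v h⁻²) ⋯ (h^(n-1) v h^(-(n-1)))`. -/
def conjProd (h v : G) : ℕ → G
  | 0 => 1
  | n + 1 => conjProd h v n * (h ^ n * v * (h ^ n)⁻¹)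

theorem mul_pow_eq_conjProd (h v : G) (n : ℕ) : (v * h) ^ n = conjProd h v n * h ^ n := by
  induction n with
  | zero => simp [conjProd]
  | succ n ih =>
    rw [pow_succ, ih, conjProd, pow_succ]
    group

/-- An element whose order is divisible by `m`, with `p` dividing the order of its `m`-th power,
has a power of order `p * m`. -/
theorem exists_orderOf_eq_mul [Finite G] (g : G) (m p : ℕ) (hm : 0 < m)
    (h1 : m ∣ orderOf g) (h2 : p ∣ orderOf (g ^ m)) : ∃ y : G, orderOf y = p * m := by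
  have hpos : 0 < orderOf g := orderOf_pos g
  rw [orderOf_pow_of_dvd hm.ne' h1] at h2
  have h3 : p * m ∣ orderOf g := by
    obtain ⟨c, hc⟩ := h2
    obtain ⟨d, hd⟩ := h1
    rw [hd, Nat.mul_div_cancel_left _ hm] at hc
    rw [hd, hc]
    exact ⟨c, by ring⟩
  obtain ⟨e, he⟩ := h3
  have he0 : e ≠ 0 := by
    rintro rfl
    rw [mul_zero] at he
    omega
  refine ⟨g ^ e, ?_⟩
  rw [orderOf_pow_of_dvd he0 ⟨p * m, by rw [he]; ring⟩, he]
  exact Nat.mul_div_cancel _ (Nat.pos_of_ne_zero he0)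

end ConjProd

section AbAction

/-- The homomorphism `Aut(P) → Aut(P/P')`. -/
def abHom (P : Type*) [Group P] : MulAut P →* MulAut (Abelianization P) where
  toFun e := e.abelianizationCongr
  map_one' := by
    apply MulEquiv.ext
    intro z
    obtain ⟨y, rfl⟩ := QuotientGroup.mk_surjective z
    rfl
  map_mul' e₁ e₂ := by
    apply MulEquiv.ext
    intro z
    obtain ⟨y, rfl⟩ := QuotientGroup.mk_surjective z
    rfl

theorem abHom_of {P : Type*} [Group P] (e : MulAut P) (y : P) :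
    abHom P e (Abelianization.of y) = Abelianization.of (e y) := rfl

end AbAction

end Cfsg.Agent.Helper52
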